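import Groth.Agent.Lib.RatSing29.GGH1
import Groth.Agent.Lib.IdealModSec.Basic
import Groth.Agent.Lib.FunMor20.KernelAffine
import Groth.Agent.Lib.HodgeIndex.IdealLe
import Groth.Agent.Lib.OmegaAff.Basic
import Groth.Agent.Lib.ProjCoh.Generic
import Groth.Agent.Lib.CMReg.Free
import Groth.Agent.Lib.FormalFn.Push
import Groth.Prelude.Def_Formal
import Mathlib.CategoryTheory.Limits.Shapes.Biproducts

/-!
# Powers of an invertible ideal generated by global functions
-/

universe u

set_option linter.all false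
set_option backward.isDefEq.respectTransparency false

open CategoryTheory CategoryTheory.Limits AlgebraicGeometry Opposite TopologicalSpace

noncomputable section

attribute [local instance] Classical.decEq

namespace GrothLib.RatSing29

open GrothLib.IdealModSec

theorem exists_koszul {R : Type*} [CommRing R] {r : ℕ} (g : Fin r → R) {t : R} (ht : t ∈ nonZeroDivisors R)
    (hg : Ideal.span (Set.range g) = Ideal.span {t}) (m : ℕ) :
    (∀ w ∈ Ideal.span {t} ^ (m + 1), ∃ x : Fin r → R, (∀ i, x i ∈ Ideal.span {t} ^ m) ∧ ∑ i, g i * x i = w) ∧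
    ∀ x : Fin r → R, (∀ i, x i ∈ Ideal.span {t} ^ (m + 1)) → ∑ i, g i * x i = 0 →
      ∃ z : Fin r → Fin r → R, (∀ i j, z i j ∈ Ideal.span {t} ^ m) ∧
        ∀ k, ∑ j, g j * z k j - ∑ i, g i * z i k = x k := by
  have hc : ∀ i, ∃ c, c * t = g i := fun i =>
    Ideal.mem_span_singleton'.1 (hg ▸ Ideal.subset_span ⟨i, rfl⟩)
  choose c hc using hc
  obtain ⟨e, he⟩ := Ideal.mem_span_range_iff_exists_fun.1 (hg.symm ▸ Ideal.mem_span_singleton_self t : t ∈ _)
  have h1 : ∑ i, e i * c i = 1 := by
    refine (mul_cancel_right_mem_nonZeroDivisors ht).1 ?_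
    rw [Finset.sum_mul, one_mul, Finset.sum_congr rfl fun i _ => (mul_assoc (e i) (c i) t).trans (by rw [hc])]
    exact he
  have hp : ∀ (n : ℕ) (w : R), w ∈ Ideal.span {t} ^ n ↔ ∃ y, y * t ^ n = w := fun n w => by
    rw [Ideal.span_singleton_pow, Ideal.mem_span_singleton']
  refine ⟨fun w hw => ?_, fun x hx h0 => ?_⟩
  · obtain ⟨y, rfl⟩ := (hp _ _).1 hw
    refine ⟨fun i => y * e i * t ^ m, fun i => (hp _ _).2 ⟨_, rfl⟩, ?_⟩
    calc ∑ i, g i * (y * e i * t ^ m) = (∑ i, e i * c i) * (y * t ^ (m + 1)) := by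
          rw [Finset.sum_mul]
          refine Finset.sum_congr rfl fun i _ => ?_
          rw [← hc i]; ring
      _ = _ := by rw [h1, one_mul]
  · choose y hy using fun i => (hp _ _).1 (hx i)
    have h2 : ∑ i, c i * y i = 0 := by
      refine (mul_cancel_right_mem_nonZeroDivisors (pow_mem ht (m + 2))).1 ?_
      rw [zero_mul, ← h0, Finset.sum_mul]
      refine Finset.sum_congr rfl fun i _ => ?_
      rw [← hc i, ← hy i]; ring
    refine ⟨fun i j => e j * y i * t ^ m, fun i j => (hp _ _).2 ⟨_, rfl⟩, fun k => ?_⟩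
    calc ∑ j, g j * (e j * y k * t ^ m) - ∑ i, g i * (e k * y i * t ^ m)
        = (∑ j, e j * c j) * (y k * t ^ (m + 1)) - (∑ i, c i * y i) * (e k * t ^ (m + 1)) := by
          rw [Finset.sum_mul, Finset.sum_mul]
          congr 1 <;> refine Finset.sum_congr rfl fun i _ => ?_ <;> rw [← hc i] <;> ring
      _ = _ := by rw [h1, h2, one_mul, zero_mul, sub_zero, hy]

variable {A : Type u} [CommRing A] {X : Scheme.{u}} [X.Over (Spec (CommRingCat.of A))]

variable (X) in
/-- The function given by an element of the base ring. -/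
def gOn (a : A) (W : X.Opens) : Γ(X, W) :=
  X.presheaf.map (homOfLE (le_top : W ≤ ⊤)).op (Coh.toGlobal (X ↘ Spec (CommRingCat.of A)) a)

/-- The ideal is generated on every affine open by the given global functions. -/
def GenBy (I : X.IdealSheafData) {r : ℕ} (a : Fin r → A) : Prop :=
  ∀ U : X.affineOpens, I.ideal U = Ideal.span (Set.range fun i => gOn X (a i) U.1)

theorem app_sum {M N : X.Modules} {ι : Type*} (s : Finset ι) (h : ι → (M ⟶ N)) (U : X.Opens) (x : Γ(M, U)) :
    (∑ i ∈ s, h i).app U x = ∑ i ∈ s, (h i).app U x := by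
  induction s using Finset.induction with
  | empty => simp
  | insert j s hj ih => rw [Finset.sum_insert hj, Finset.sum_insert hj, ← ih]; rfl

theorem app_biproduct_ext {r : ℕ} {F : Fin r → X.Modules} (U : X.Opens) {x y : Γ(⨁ F, U)}
    (h : ∀ i, (biproduct.π F i).app U x = (biproduct.π F i).app U y) : x = y := by
  have hx : ∀ x : Γ(⨁ F, U), x = ∑ i, (biproduct.ι F i).app U ((biproduct.π F i).app U x) := fun x => by
    have := congrArg (fun φ : (⨁ F) ⟶ ⨁ F => φ.app U x) (biproduct.total (f := F))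
    simp only [app_sum] at this
    exact this.symm
  rw [hx x, hx y]
  exact Finset.sum_congr rfl fun i _ => by rw [h i]

theorem exists_section_of_biproduct {r : ℕ} {F : Fin r → X.Modules} (U : X.Opens) (x : ∀ i, Γ(F i, U)) :
    ∃ s : Γ(⨁ F, U), ∀ i, (biproduct.π F i).app U s = x i := by
  refine ⟨∑ i, (biproduct.ι F i).app U (x i), fun j => ?_⟩
  rw [map_sum, Finset.sum_eq_single j (fun i _ hi => ?_) (fun h => (h (Finset.mem_univ j)).elim)]
  · exact congrArg (fun φ : F j ⟶ F j => φ.app U (x j)) (biproduct.ι_π_self F j)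
  · exact congrArg (fun φ : F i ⟶ F j => φ.app U (x i)) (biproduct.ι_π_ne F hi)

variable (I : X.IdealSheafData) {r : ℕ} (a : Fin r → A) (hI : GenBy I a)

theorem ideal_pow_eq (n : ℕ) (U : X.affineOpens) : (I ^ n).ideal U = I.ideal U ^ n := by
  rw [Scheme.IdealSheafData.ideal_pow]; rfl

/-- The modules of the powers. -/
abbrev P (n : ℕ) : X.Modules := ClSub.idealMod (I ^ n)

theorem smulMod_app (M : X.Modules) (b : A) (U : X.Opens) (k : Γ(M, U)) :
    (Formal.smulMod A M b).app U k = gOn X b U • k :=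
  Coh.smulAb_app M _ (op U) k

theorem idealMod_qc (n : ℕ) : (P I n).IsQuasicoherent := OmegaAff.isQuasicoherent_idealMod _

include hI in
theorem exists_mulMap (n : ℕ) (i : Fin r) :
    ∃ μ : P I n ⟶ P I (n + 1), ∀ U k, val (I ^ (n + 1)) U (μ.app U k) = gOn X (a i) U * val (I ^ n) U k := by
  have h0 : (Formal.smulMod A (P I n) (a i) ≫ ClSub.idealModι (I ^ n)) ≫ ClSub.toSubscheme (I ^ (n + 1)) = 0 := by
    haveI := idealMod_qc I n
    haveI : (Coh.structureModule (I ^ (n + 1)).subscheme).IsQuasicoherent := inferInstance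
    haveI : ((Scheme.Modules.pushforward (I ^ (n + 1)).subschemeι).obj
        (Coh.structureModule (I ^ (n + 1)).subscheme)).IsQuasicoherent := QCoh.isQuasicoherent_pushforward _ _
    refine FunMor20.hom_ext_affine_cover (fun U : X.affineOpens => U.1) (fun U => U.2)
      (fun x => by
        obtain ⟨U, hx, -⟩ := GrothLib.BlowUp.exists_affine_mem_le (W := (⊤ : X.Opens)) (x := x) trivial
        exact ⟨U, hx⟩) fun U k => ?_
    show (I ^ (n + 1)).subschemeι.app U.1 (val (I ^ n) U.1 ((Formal.smulMod A (P I n) (a i)).app U.1 k)) = 0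
    rw [smulMod_app, val_smul, ← RingHom.mem_ker, Scheme.IdealSheafData.ker_subschemeι_app, ideal_pow_eq, pow_succ']
    refine Ideal.mul_mem_mul (hI U ▸ Ideal.subset_span ⟨i, rfl⟩) ?_
    rw [← ideal_pow_eq]
    exact val_mem _ U k
  refine ⟨kernel.lift _ _ h0, fun U k => ?_⟩
  show (kernel.lift (ClSub.toSubscheme (I ^ (n + 1))) _ h0 ≫ kernel.ι (ClSub.toSubscheme (I ^ (n + 1)))).app U k = _
  rw [kernel.lift_ι]
  show val (I ^ n) U ((Formal.smulMod A (P I n) (a i)).app U k) = _
  rw [smulMod_app, val_smul]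

variable {I a}

/-- Multiplication by a generator. -/
def mulMap (n : ℕ) (i : Fin r) : P I n ⟶ P I (n + 1) := (exists_mulMap I a hI n i).choose

theorem val_mulMap (n : ℕ) (i : Fin r) (U : X.Opens) (k : Γ(P I n, U)) :
    val (I ^ (n + 1)) U ((mulMap hI n i).app U k) = gOn X (a i) U * val (I ^ n) U k :=
  (exists_mulMap I a hI n i).choose_spec U k

/-- The combination of the generators. -/
def phi (n : ℕ) : (⨁ fun _ : Fin r => P I n) ⟶ P I (n + 1) := biproduct.desc (mulMap hI n)

theorem val_phi (n : ℕ) (U : X.Opens) (s : Γ(⨁ fun _ : Fin r => P I n, U)) :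
    val (I ^ (n + 1)) U ((phi hI n).app U s) =
      ∑ i, gOn X (a i) U * val (I ^ n) U ((biproduct.π (fun _ : Fin r => P I n) i).app U s) := by
  have h : phi hI n = ∑ i, biproduct.π (fun _ : Fin r => P I n) i ≫ mulMap hI n i := by
    rw [phi, biproduct.desc_eq]
  rw [h, app_sum]
  refine (map_sum ((ClSub.idealModι (I ^ (n + 1))).app U).hom _ _).trans ?_
  exact Finset.sum_congr rfl fun i _ => val_mulMap hI n i U _

theorem qc_biproduct {r : ℕ} {F : Fin r → X.Modules} (h : ∀ i, (F i).IsQuasicoherent) : (⨁ F).IsQuasicoherent := by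
  let G : Discrete (ULift.{u} (Fin r)) ⥤ X.Modules := Discrete.functor fun i => F i.down
  haveI : (colimit G).IsQuasicoherent := QCoh.isQuasicoherent_colimit G fun i => h i.as.down
  exact QCoh.isQuasicoherent_of_iso (M := colimit G)
    (Sigma.reindex Equiv.ulift F ≪≫ (biproduct.isoCoproduct F).symm)

variable (hE : _root_.BlowUp.IsEffCartierIdeal I)
include hE

theorem epi_phi (n : ℕ) : Epi (phi hI n) := by
  haveI := idealMod_qc I (n + 1)
  haveI := qc_biproduct (F := fun _ : Fin r => P I n) fun _ => idealMod_qc I n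
  choose U hxU t ht hU using hE
  refine FunMor20.epi_of_surjective_cover _ (fun x : X => (U x).1) (fun x => (U x).2) (fun x => ⟨x, hxU x⟩)
    fun x w => ?_
  obtain ⟨v, hv, hvw⟩ := (exists_koszul (fun i => gOn X (a i) (U x).1) (ht x) ((hI (U x)).symm.trans (hU x)) n).1
    (val (I ^ (n + 1)) (U x).1 w) (by rw [← hU x, ← ideal_pow_eq]; exact val_mem _ (U x) w)
  have hk : ∀ i, ∃ k : Γ(P I n, (U x).1), val (I ^ n) (U x).1 k = v i := fun i =>
    exists_val_eq _ (U x) (by rw [ideal_pow_eq, hU x]; exact hv i)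
  choose k hk using hk
  obtain ⟨s, hs⟩ := exists_section_of_biproduct (U x).1 k
  refine ⟨s, val_injective _ _ ?_⟩
  rw [val_phi, ← hvw]
  exact Finset.sum_congr rfl fun i _ => by rw [hs, hk]

variable [CompactSpace X] [QuasiSeparatedSpace X]
  (h2 : ∀ K : X.Modules, K.IsQuasicoherent → Subsingleton (Coh.HH X K 2))
  (h1 : Subsingleton (Coh.HH X (Coh.structureModule X) 1))

omit hE [CompactSpace X] [QuasiSeparatedSpace X] in
theorem subsingleton_HH_biproduct {r : ℕ} {F : Fin r → X.Modules} {q : ℕ}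
    (h : ∀ i, Subsingleton (Coh.HH X (F i) q)) : Subsingleton (Coh.HH X (⨁ F) q) := by
  haveI := CMReg.subsingleton_HH_sigma F h
  refine subsingleton_of_forall_eq 0 fun x => ?_
  let e := biproduct.isoCoproduct F
  calc x = Sheaf.H.map ((QCoh.toAbFun X).map e.inv) q (Sheaf.H.map ((QCoh.toAbFun X).map e.hom) q x) := by
        rw [← Sheaf.H.map_comp_apply, ← Functor.map_comp, e.hom_inv_id, CategoryTheory.Functor.map_id]
        exact (Sheaf.H.map_id_apply x).symm
    _ = 0 := by rw [Subsingleton.elim (Sheaf.H.map ((QCoh.toAbFun X).map e.hom) q x) 0, map_zero]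

include hI h2 h1

/-- The powers have no first cohomology. -/
theorem subsingleton_H1_pow : ∀ n, Subsingleton (Coh.HH X (P I n) 1)
  | 0 => by
    haveI := HodgeIndex.isIso_idealModι_top (X := X)
    have h0 : I ^ 0 = (⊤ : X.IdealSheafData) := (pow_zero I).trans Scheme.IdealSheafData.one_eq_top
    show Subsingleton (Coh.HH X (ClSub.idealMod (I ^ 0)) 1)
    rw [h0]
    haveI := h1
    exact (FormalFn.exists_hh_equiv (A := A) (asIso (ClSub.idealModι (⊤ : X.IdealSheafData))) 1).choose.toEquiv.subsingleton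
  | n + 1 => by
    haveI := idealMod_qc I (n + 1)
    haveI := qc_biproduct (F := fun _ : Fin r => P I n) fun _ => idealMod_qc I n
    haveI := epi_phi hI hE n
    exact subsingleton_H1_of_epi A h2 (phi hI n)
      (subsingleton_HH_biproduct fun _ => subsingleton_H1_pow n)

theorem subsingleton_H1_kernel (m : ℕ) : Subsingleton (Coh.HH X (kernel (phi hI (m + 1))) 1) := by
  haveI := idealMod_qc I (m + 1 + 1)
  haveI := qc_biproduct (F := fun _ : Fin r => P I (m + 1)) fun _ => idealMod_qc I (m + 1)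
  let Q := ⨁ fun _ : Fin r => ⨁ fun _ : Fin r => P I m
  haveI : Q.IsQuasicoherent := qc_biproduct fun _ => qc_biproduct fun _ => idealMod_qc I m
  haveI := QCoh.isQuasicoherent_kernel (phi hI (m + 1))
  let ψ : Q ⟶ ⨁ fun _ : Fin r => P I (m + 1) := biproduct.desc fun i => biproduct.desc fun j =>
    mulMap hI m j ≫ biproduct.ι (fun _ : Fin r => P I (m + 1)) i -
      mulMap hI m i ≫ biproduct.ι (fun _ : Fin r => P I (m + 1)) j
  have hψ0 : ψ ≫ phi hI (m + 1) = 0 := by
    refine biproduct.hom_ext' _ _ fun i => biproduct.hom_ext' _ _ fun j => ?_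
    simp only [ψ, phi, biproduct.ι_desc_assoc, Preadditive.sub_comp, Category.assoc, biproduct.ι_desc, comp_zero]
    rw [sub_eq_zero]
    apply Scheme.Modules.hom_ext
    intro U
    refine AddCommGrpCat.hom_ext (AddMonoidHom.ext fun k => ?_)
    apply val_injective
    show val _ U ((mulMap hI (m + 1) i).app U ((mulMap hI m j).app U k)) =
      val _ U ((mulMap hI (m + 1) j).app U ((mulMap hI m i).app U k))
    rw [val_mulMap, val_mulMap, val_mulMap, val_mulMap, mul_left_comm]
  haveI : Epi (kernel.lift (phi hI (m + 1)) ψ hψ0) := by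
    choose U hxU t ht hU using hE
    refine FunMor20.epi_of_surjective_cover _ (fun x : X => (U x).1) (fun x => (U x).2) (fun x => ⟨x, hxU x⟩)
      fun x w => ?_
    let V := (U x).1
    let s := (kernel.ι (phi hI (m + 1))).app V w
    let π := fun k : Fin r => biproduct.π (fun _ : Fin r => P I (m + 1)) k
    obtain ⟨z, hz, hzx⟩ := (exists_koszul (fun i => gOn X (a i) V) (ht x) ((hI (U x)).symm.trans (hU x)) m).2
      (fun k => val (I ^ (m + 1)) V ((π k).app V s))
      (fun k => by rw [← hU x, ← ideal_pow_eq]; exact val_mem _ (U x) _)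
      (by
        rw [← val_phi hI (m + 1) V s]
        show val (I ^ (m + 1 + 1)) V ((kernel.ι (phi hI (m + 1)) ≫ phi hI (m + 1)).app V w) = 0
        rw [kernel.condition]
        exact val_zero _ _)
    have hk : ∀ i j, ∃ k : Γ(P I m, V), val (I ^ m) V k = z i j := fun i j =>
      exists_val_eq _ (U x) (by rw [ideal_pow_eq, hU x]; exact hz i j)
    choose k hk using hk
    choose q hq using fun i => exists_section_of_biproduct V (k i)
    obtain ⟨p, hp⟩ := exists_section_of_biproduct (F := fun _ : Fin r => ⨁ fun _ : Fin r => P I m) V q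
    refine ⟨p, (app_kernel (phi hI (m + 1)) V).1 ?_⟩
    show (kernel.lift (phi hI (m + 1)) ψ hψ0 ≫ kernel.ι (phi hI (m + 1))).app V p = s
    rw [kernel.lift_ι]
    refine app_biproduct_ext V fun c => val_injective _ _ ?_
    show val _ V ((π c).app V (ψ.app V p)) = val _ V ((π c).app V s)
    rw [← hzx c]
    have h : ψ ≫ π c = ∑ i, biproduct.π _ i ≫
        ((if i = c then phi hI m else 0) - biproduct.π _ c ≫ mulMap hI m i) := by
      refine biproduct.hom_ext' _ _ fun i => biproduct.hom_ext' _ _ fun j => ?_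
      simp only [ψ, π, biproduct.ι_desc_assoc, Preadditive.sub_comp, Category.assoc, Preadditive.comp_sum,
        biproduct.ι_π_assoc, biproduct.ι_π]
      rw [Finset.sum_eq_single i (fun b _ hb => by simp [Ne.symm hb]) (by simp)]
      by_cases h1 : i = c <;> by_cases h2 : j = c <;> simp [h1, h2, phi]
    show val _ V ((ψ ≫ π c).app V p) = _
    rw [h, app_sum]
    refine (map_sum ((ClSub.idealModι (I ^ (m + 1))).app V).hom _ _).trans ?_
    have hterm : ∀ i, val (I ^ (m + 1)) V ((biproduct.π (fun _ : Fin r => ⨁ fun _ : Fin r => P I m) i ≫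
        ((if i = c then phi hI m else 0) - biproduct.π _ c ≫ mulMap hI m i)).app V p) =
        (if i = c then ∑ j, gOn X (a j) V * z c j else 0) - gOn X (a i) V * z i c := by
      intro i
      show val (I ^ (m + 1)) V (((if i = c then phi hI m else 0) - biproduct.π (fun _ : Fin r => P I m) c ≫ mulMap hI m i).app V
        ((biproduct.π (fun _ : Fin r => ⨁ fun _ : Fin r => P I m) i).app V p)) = _
      rw [hp i]
      show val (I ^ (m + 1)) V ((if i = c then phi hI m else 0).app V (q i) -
        (mulMap hI m i).app V ((biproduct.π (fun _ : Fin r => P I m) c).app V (q i))) = _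
      refine (map_sub ((ClSub.idealModι (I ^ (m + 1))).app V).hom _ _).trans ?_
      refine congrArg₂ (· - ·) ?_ ((val_mulMap hI m i V _).trans (by rw [hq, hk]))
      split
      · subst i
        exact (val_phi hI m V _).trans (Finset.sum_congr rfl fun j _ => by rw [hq, hk])
      · exact val_zero _ _
    refine (Finset.sum_congr rfl fun i _ => hterm i).trans ?_
    rw [Finset.sum_sub_distrib, Finset.sum_ite_eq' Finset.univ c, if_pos (Finset.mem_univ c)]
  exact subsingleton_H1_of_epi A h2 (kernel.lift (phi hI (m + 1)) ψ hψ0)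
    (subsingleton_HH_biproduct fun _ =>
      subsingleton_HH_biproduct fun _ => subsingleton_H1_pow hI hE h2 h1 m)

/-- Global sections of the next power are combinations of those of the previous one. -/
theorem exists_combination (m : ℕ) (s : Γ(P I (m + 1 + 1), ⊤)) :
    ∃ v : Fin r → Γ(P I (m + 1), ⊤),
      ∑ i, gOn X (a i) ⊤ * val (I ^ (m + 1)) ⊤ (v i) = val (I ^ (m + 1 + 1)) ⊤ s := by
  haveI := epi_phi hI hE (m + 1)
  have hS : (ShortComplex.mk (kernel.ι (phi hI (m + 1))) (phi hI (m + 1)) (kernel.condition _)).ShortExact :=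
    { exact := ShortComplex.exact_of_f_is_kernel _ (kernelIsKernel _) }
  obtain ⟨y, hy⟩ := (Cohom.exact₃ (A := A) hS 0 ((ProjCoh.H0top _).symm s)).1
    (@Subsingleton.elim _ (subsingleton_H1_kernel hI hE h2 h1 m) _ _)
  let v := ProjCoh.H0top _ y
  refine ⟨fun i => (biproduct.π (fun _ : Fin r => P I (m + 1)) i).app ⊤ v, ?_⟩
  rw [← val_phi hI (m + 1) ⊤ v]
  refine congrArg (val _ ⊤) ?_
  have h3 := congrArg (ProjCoh.H0top _) hy
  rw [AddEquiv.apply_symm_apply] at h3
  exact ((ProjCoh.H0top_map ((QCoh.toAbFun X).map (phi hI (m + 1))) y).symm).trans h3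

end GrothLib.RatSing29
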