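import Groth.Agent.Lib.RatSing29.ModelPack
import Groth.Agent.Lib.Stein.General
import Groth.Agent.Lib.Stein.Finite
import Groth.Agent.Lib.Stein.Fibration
import Groth.Agent.Lib.Stein.Main
import Groth.Agent.Lib.NormalExt.Basic

/-!
# The normalisation of a model in a finite cover of its generic fibre
-/

universe u

set_option linter.all false
set_option backward.isDefEq.respectTransparency false

open CategoryTheory CategoryTheory.Limits AlgebraicGeometry Opposite TopologicalSpace

noncomputable section

namespace GrothLib.RatSing29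

/-- The rings of sections of a normal integral scheme are integrally closed. -/
theorem isIntegrallyClosed_sections {W : Scheme.{u}} [IsIntegral W] (hW : Pi1.IsNormalScheme W) (U : W.Opens)
    [Nonempty U] : IsIntegrallyClosed Γ(W, U) := by
  obtain ⟨u₀, hu₀⟩ := ‹Nonempty U›
  have hη : genericPoint W ∈ U := (genericPoint_specializes u₀).mem_open U.isOpen hu₀
  let γ : Γ(W, U) →+* W.functionField := (W.presheaf.germ U (genericPoint W) hη).hom
  have hγ : Function.Injective γ := germ_injective_of_isIntegral W (genericPoint W) hη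
  refine (isIntegrallyClosed_iff (FractionRing Γ(W, U))).2 fun {x} hx => ?_
  let ψ : FractionRing Γ(W, U) →+* W.functionField := IsFractionRing.lift hγ
  have hψ : ∀ a, ψ (algebraMap _ _ a) = γ a := fun a => IsFractionRing.lift_algebraMap hγ a
  obtain ⟨P, hP, hP0⟩ := hx
  obtain ⟨s, hs⟩ : ∃ s : Γ(W, U), γ s = ψ x := by
    refine GrothLib.Stein.exists_section_of_mem_stalks hu₀ (ψ x) fun z hz => ?_
    haveI := (hW z).2
    let gz := (W.presheaf.germ U z hz).hom
    have hcomp : (algebraMap (W.presheaf.stalk z) W.functionField).comp gz = γ := by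
      ext a
      exact TopCat.Presheaf.germ_stalkSpecializes_apply W.presheaf hz (genericPoint_specializes z) a
    have hint : IsIntegral (W.presheaf.stalk z) (ψ x) := by
      refine ⟨P.map gz, hP.map _, ?_⟩
      rw [Polynomial.eval₂_map, hcomp]
      have h := congrArg ψ hP0
      rw [map_zero, Polynomial.hom_eval₂] at h
      rw [← h]
      refine congrArg (fun e => Polynomial.eval₂ e (ψ x) P) ?_
      ext a
      exact (hψ a).symm
    exact IsIntegrallyClosed.algebraMap_eq_of_integral hint
  exact ⟨s, ψ.injective ((hψ s).trans hs)⟩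

/-- A scheme whose structure sheaf is the direct image of that of a normal scheme is normal. -/
theorem isNormalScheme_of_bijective_app {W X : Scheme.{u}} [IsIntegral W] [IsIntegral X] (hW : Pi1.IsNormalScheme W)
    (m : W ⟶ X) (hb : ∀ U : X.Opens, Function.Bijective (m.app U)) : Pi1.IsNormalScheme X := by
  intro z
  refine ⟨inferInstance, ?_⟩
  obtain ⟨V, hV, hzV, -⟩ := exists_isAffineOpen_mem_and_subset (show z ∈ (⊤ : X.Opens) from trivial)
  haveI : Nonempty V := ⟨⟨z, hzV⟩⟩
  haveI : IsIntegrallyClosed Γ(X, V) := by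
    haveI : Nonempty (m ⁻¹ᵁ V : W.Opens) := by
      rcases isEmpty_or_nonempty (m ⁻¹ᵁ V : W.Opens) with he | hne
      · exfalso
        have h0 : (m ⁻¹ᵁ V) = ⊥ := Opens.ext (Set.eq_empty_iff_forall_notMem.2 fun t ht => he.false ⟨t, ht⟩)
        haveI : Subsingleton Γ(W, m ⁻¹ᵁ V) := by rw [h0]; infer_instance
        haveI : Subsingleton Γ(X, V) := (hb V).1.subsingleton
        exact false_of_nontrivial_of_subsingleton Γ(X, V)
      · exact hne
    haveI := isIntegrallyClosed_sections hW (m ⁻¹ᵁ V)
    exact IsIntegrallyClosed.of_equiv (RingEquiv.ofBijective (m.app V).hom (hb V)).symm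
  letI := TopCat.Presheaf.algebra_section_stalk X.presheaf (⟨z, hzV⟩ : V)
  have := hV.isLocalization_stalk ⟨z, hzV⟩
  exact isIntegrallyClosed_of_isLocalization (X.presheaf.stalk z)
    (hV.primeIdealOf ⟨z, hzV⟩).asIdeal.primeCompl (hV.primeIdealOf ⟨z, hzV⟩).asIdeal.primeCompl_le_nonZeroDivisors

/-- An affine morphism which is bijective on sections is an isomorphism. -/
theorem isIso_of_affineHom_of_bijective {W X : Scheme.{u}} (m : W ⟶ X) [IsAffineHom m]
    (hb : ∀ U : X.Opens, Function.Bijective (m.app U)) : IsIso m := by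
  refine (IsZariskiLocalAtTarget.iff_of_iSup_eq_top (P := MorphismProperty.isomorphisms Scheme.{u})
    (fun V : X.affineOpens => V.1) (iSup_affineOpens_eq_top X)).mpr fun V => ?_
  show IsIso (m ∣_ V.1)
  haveI : IsAffine V.1.toScheme := V.2
  haveI : IsAffine (m ⁻¹ᵁ V.1).toScheme := V.2.preimage m
  haveI : IsIso (m ∣_ V.1).appTop := by
    rw [morphismRestrict_appTop]
    haveI : IsIso (m.app (V.1.ι ''ᵁ ⊤)) := (ConcreteCategory.isIso_iff_bijective _).2 (hb _)
    infer_instance
  exact (MorphismProperty.isomorphisms Scheme.{u}).arrow_mk_iso_iff (arrowIsoSpecΓOfIsAffine (m ∣_ V.1)) |>.2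
    (inferInstanceAs (IsIso (Spec.map (m ∣_ V.1).appTop)))

/-- **The normalisation of a model in a finite cover of its generic fibre.** -/
theorem exists_finite_normal_model {R : Type u} [CommRing R] [IsDomain R] [IsDiscreteValuationRing R]
    {C D W Y : Scheme.{u}} {fC : C ⟶ Spec (CommRingCat.of (FractionRing R))}
    {fD : D ⟶ Spec (CommRingCat.of (FractionRing R))} (fK : C ⟶ D) [IsFinite fK] (hfK : fK ≫ fD = fC)
    [IsIntegral W] (hWn : Pi1.IsNormalScheme W) (q : Y ⟶ Spec (CommRingCat.of R)) [IsProper q]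
    (τ : W ⟶ Y) [IsProper τ] [Flat (τ ≫ q)] (σ : C ⟶ W) (h : D ⟶ Y)
    (hσ : IsPullback σ fC (τ ≫ q) (Spec.map (CommRingCat.ofHom (algebraMap R (FractionRing R)))))
    (hh : IsPullback h fD q (Spec.map (CommRingCat.ofHom (algebraMap R (FractionRing R)))))
    (hστ : σ ≫ τ = fK ≫ h) :
    ∃ (X : Scheme.{u}) (_ : IsIntegral X) (m : W ⟶ X) (φ : X ⟶ Y), IsFinite φ ∧ m ≫ φ = τ ∧ IsProper m ∧
      Pi1.IsNormalScheme X ∧ IsPullback (σ ≫ m) fC (φ ≫ q) (Spec.map (CommRingCat.ofHom (algebraMap R (FractionRing R)))) := by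
  let gn := Spec.map (CommRingCat.ofHom (algebraMap R (FractionRing R)))
  haveI : IsOpenImmersion gn := by
    obtain ⟨π, hπ⟩ := IsDiscreteValuationRing.exists_irreducible R
    haveI := GrothLib.ArSurf29.isLocalizationAway_fractionRing hπ
    exact IsOpenImmersion.of_isLocalization π
  haveI : IsLocallyNoetherian Y := LocallyOfFiniteType.isLocallyNoetherian q
  let m := τ.toNormalization
  let φ := τ.fromNormalization
  have hmφ : m ≫ φ = τ := τ.toNormalization_fromNormalization
  haveI : IsFinite φ := GrothLib.Stein.isFinite_fromNormalization τ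
  haveI : IsProper m := by
    haveI : IsProper (m ≫ φ) := by rw [hmφ]; infer_instance
    exact IsProper.of_comp m φ
  have hb : ∀ U, Function.Bijective (m.app U) := fun U => GrothLib.Stein.bijective_toNormalization_app τ U
  refine ⟨τ.normalization, inferInstance, m, φ, inferInstance, hmφ, inferInstance,
    isNormalScheme_of_bijective_app hWn m hb, ?_⟩
  let Q := pullback (φ ≫ q) gn
  let qf : Q ⟶ τ.normalization := pullback.fst (φ ≫ q) gn
  let lQ : C ⟶ Q := pullback.lift (σ ≫ m) fC (by rw [Category.assoc, ← Category.assoc m, hmφ]; exact hσ.w)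
  let u : Q ⟶ D := hh.lift (qf ≫ φ) (pullback.snd (φ ≫ q) gn) (by rw [Category.assoc]; exact pullback.condition)
  have hu : lQ ≫ u = fK := by
    refine hh.hom_ext ?_ ?_
    · rw [Category.assoc, IsPullback.lift_fst, ← Category.assoc, pullback.lift_fst, Category.assoc, hmφ, hστ]
    · rw [Category.assoc, IsPullback.lift_snd, pullback.lift_snd, hfK]
  have hsqu : IsPullback qf u φ h := by
    have h1 : IsPullback qf (u ≫ fD) (φ ≫ q) gn := by
      rw [IsPullback.lift_snd]
      exact IsPullback.of_hasPullback _ _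
    exact IsPullback.of_bot h1 (IsPullback.lift_fst hh _ _ _).symm hh
  haveI : IsAffineHom u := MorphismProperty.of_isPullback hsqu (inferInstanceAs (IsAffineHom φ))
  haveI : IsAffineHom (lQ ≫ u) := by rw [hu]; infer_instance
  haveI : IsAffineHom lQ := IsAffineHom.of_comp lQ u
  have hsq : IsPullback σ lQ m qf := by
    refine IsPullback.of_bot (v₂₁ := pullback.snd (φ ≫ q) gn) (h₃₁ := gn) (v₂₂ := φ ≫ q) ?_ ?_ (IsPullback.of_hasPullback (φ ≫ q) gn)
    · rw [pullback.lift_snd, ← Category.assoc, hmφ]
      exact hσ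
    · exact (pullback.lift_fst _ _ _).symm
  haveI : IsAffineHom (m ∣_ qf.opensRange) := by
    have : IsAffineHom (pullback.snd m qf) := by
      rw [← hsq.isoPullback_inv_snd]
      infer_instance
    exact (MorphismProperty.arrow_mk_iso_iff @IsAffineHom (morphismRestrictOpensRange m qf)).2 this
  haveI : IsIso (m ∣_ qf.opensRange) := isIso_of_affineHom_of_bijective _ fun U => by
    rw [morphismRestrict_app]
    have h2 := hb (qf.opensRange.ι ''ᵁ U)
    exact (ConcreteCategory.bijective_of_isIso (W.presheaf.map _)).comp h2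
  haveI : IsIso (pullback.snd m qf) :=
    ((MorphismProperty.isomorphisms Scheme.{u}).arrow_mk_iso_iff (morphismRestrictOpensRange m qf)).1 inferInstance
  haveI : IsIso lQ := by
    have : lQ = hsq.isoPullback.hom ≫ pullback.snd m qf := hsq.isoPullback_hom_snd.symm
    rw [this]
    infer_instance
  exact IsPullback.of_iso_pullback ⟨by rw [Category.assoc, ← Category.assoc m, hmφ]; exact hσ.w⟩ (asIso lQ)
    (pullback.lift_fst _ _ _) (pullback.lift_snd _ _ _)

end GrothLib.RatSing29
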