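import Groth.Agent.Lib.Cohom.Basic
import Groth.Agent.Lib.SheafCoh.PushInj
import Mathlib.Algebra.Homology.ShortComplex.Abelian
import Mathlib.CategoryTheory.Abelian.Images

/-!
# First cohomology and direct images

Descent and injectivity of degree one classes along a continuous map, with no spectral sequence.
-/

universe u

set_option linter.all false
set_option backward.isDefEq.respectTransparency false

open CategoryTheory CategoryTheory.Limits Opposite TopologicalSpace Abelian

noncomputable section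

namespace GrothLib.RatSing29

open GrothLib.Cohom

variable {W Z : TopCat.{u}} (b : W ⟶ Z) (F : CohTop.Ab W)

local notation "T" => CohTop.push b
local notation "seqS" => ShortComplex.mk (Injective.ι F) (cokernel.π (Injective.ι F)) (by simp)

theorem preservesLimits_push : PreservesLimitsOfSize.{0, 0} (T) :=
  (TopCat.Sheaf.pullbackPushforwardAdjunction AddCommGrpCat.{u} b).rightAdjoint_preservesLimits (G := T)

/-- The sequence `0 → b_*F → b_*J → im → 0`. -/
def imSeq : ShortComplex (CohTop.Ab Z) :=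
  ShortComplex.mk ((T).map (Injective.ι F))
    (kernel.lift (cokernel.π ((T).map (cokernel.π (Injective.ι F)))) ((T).map (cokernel.π (Injective.ι F)))
      (cokernel.condition _)) (by
      rw [← cancel_mono (kernel.ι (cokernel.π ((T).map (cokernel.π (Injective.ι F)))))]
      rw [Category.assoc, kernel.lift_ι, ← (T).map_comp, cokernel.condition, Functor.map_zero, zero_comp])

theorem shortExact_imSeq : (imSeq b F).ShortExact := by
  have := preservesLimits_push b
  have hS : (seqS).ShortExact := { exact := ShortComplex.exact_cokernel _ }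
  haveI hm : Mono ((T).map (Injective.ι F)) := inferInstance
  haveI : Epi (imSeq b F).g :=
    inferInstanceAs (Epi (Abelian.factorThruImage ((T).map (cokernel.π (Injective.ι F)))))
  refine { exact := ?_, mono_f := hm, epi_g := inferInstance }
  let φ : imSeq b F ⟶ (seqS).map (T) :=
    { τ₁ := 𝟙 _
      τ₂ := 𝟙 _
      τ₃ := kernel.ι _
      comm₁₂ := by simp [imSeq]
      comm₂₃ := by simp [imSeq] }
  haveI : Epi φ.τ₁ := inferInstanceAs (Epi (𝟙 _))
  haveI : IsIso φ.τ₂ := inferInstanceAs (IsIso (𝟙 _))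
  haveI : Mono φ.τ₃ := inferInstanceAs (Mono (kernel.ι _))
  exact (ShortComplex.exact_iff_of_epi_of_isIso_of_mono φ).2
    (hS.exact.map_of_mono_of_preservesKernel (T) inferInstance inferInstance)

theorem comp_extClass_eq_zero_iff {C : Type*} [Category C] [Abelian C] [HasExt.{u} C] {S : ShortComplex C}
    (hS : S.ShortExact) {A : C} (φ : A ⟶ S.X₃) :
    (Ext.mk₀ φ).comp hS.extClass (zero_add 1) = 0 ↔ ∃ t : A ⟶ S.X₂, t ≫ S.g = φ := by
  refine ⟨fun h => ?_, fun ⟨t, ht⟩ => ?_⟩
  · obtain ⟨x, hx⟩ := Ext.covariant_sequence_exact₃ A hS (Ext.mk₀ φ) rfl h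
    obtain ⟨t, rfl⟩ := (Ext.mk₀_bijective _ _).surjective x
    rw [Ext.mk₀_comp_mk₀] at hx
    exact ⟨t, (Ext.mk₀_bijective _ _).injective hx⟩
  · rw [← ht, ← Ext.mk₀_comp_mk₀, Ext.comp_assoc_of_second_deg_zero, hS.comp_extClass, Ext.comp_zero]

/-- A class of degree one is the coboundary of a section of the cokernel in an injective. -/
theorem exists_comp_extClass {C : Type*} [Category C] [Abelian C] [HasExt.{u} C] {S : ShortComplex C}
    (hS : S.ShortExact) (hI : Injective S.X₂) {A : C} (x : Ext.{u} A S.X₁ 1) :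
    ∃ φ : A ⟶ S.X₃, (Ext.mk₀ φ).comp hS.extClass (zero_add 1) = x := by
  haveI := hI
  obtain ⟨s, hs⟩ := Ext.covariant_sequence_exact₁ A hS x (Ext.eq_zero_of_injective _) rfl
  obtain ⟨φ, rfl⟩ := (Ext.mk₀_bijective _ _).surjective s
  exact ⟨φ, hs⟩

/-- The section on the source of a map to a direct image. -/
def secOf (G : CohTop.Ab W) (φ : freeFun.obj (⊤ : Opens Z) ⟶ (T).obj G) :
    freeFun.obj (⊤ : Opens W) ⟶ G :=
  (sectionsEquiv (⊤ : Opens W) G).symm (sectionsEquiv (⊤ : Opens Z) ((T).obj G) φ)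

def pushOf (G : CohTop.Ab W) (φ : freeFun.obj (⊤ : Opens W) ⟶ G) :
    freeFun.obj (⊤ : Opens Z) ⟶ (T).obj G :=
  (sectionsEquiv (⊤ : Opens Z) ((T).obj G)).symm (sectionsEquiv (⊤ : Opens W) G φ)

theorem secOf_comp {G G' : CohTop.Ab W} (g : G ⟶ G') (φ : freeFun.obj (⊤ : Opens Z) ⟶ (T).obj G) :
    secOf b G' (φ ≫ (T).map g) = secOf b G φ ≫ g := by
  apply (sectionsEquiv (⊤ : Opens W) G').injective
  rw [secOf, secOf, Equiv.apply_symm_apply, sectionsEquiv_comp, sectionsEquiv_comp, Equiv.apply_symm_apply]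
  rfl

theorem pushOf_comp {G G' : CohTop.Ab W} (g : G ⟶ G') (φ : freeFun.obj (⊤ : Opens W) ⟶ G) :
    pushOf b G' (φ ≫ g) = pushOf b G φ ≫ (T).map g := by
  apply (sectionsEquiv (⊤ : Opens Z) ((T).obj G')).injective
  rw [pushOf, pushOf, Equiv.apply_symm_apply, sectionsEquiv_comp, sectionsEquiv_comp, Equiv.apply_symm_apply]
  rfl

theorem pushOf_secOf (G : CohTop.Ab W) (φ : freeFun.obj (⊤ : Opens Z) ⟶ (T).obj G) :
    pushOf b G (secOf b G φ) = φ := by
  rw [pushOf, secOf, Equiv.apply_symm_apply, Equiv.symm_apply_apply]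

/-- Classes of degree one of a direct image inject. -/
theorem subsingleton_push (h : Subsingleton (Ext.{u} (freeFun.obj (⊤ : Opens W)) F 1)) :
    Subsingleton (Ext.{u} (freeFun.obj (⊤ : Opens Z)) ((T).obj F) 1) := by
  refine subsingleton_of_forall_eq 0 fun x => ?_
  have hS : (seqS).ShortExact := { exact := ShortComplex.exact_cokernel _ }
  have hS' := shortExact_imSeq b F
  obtain ⟨φ, rfl⟩ := exists_comp_extClass hS' (GrothLib.SheafCoh.injective_push b (Injective.under F)) x
  refine (comp_extClass_eq_zero_iff hS' φ).2 ?_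
  obtain ⟨t, ht⟩ := (comp_extClass_eq_zero_iff hS (secOf b _ (φ ≫ kernel.ι _))).1 (Subsingleton.elim _ _)
  refine ⟨pushOf b _ t, ?_⟩
  rw [← cancel_mono (kernel.ι (cokernel.π ((T).map (cokernel.π (Injective.ι F)))))]
  show (pushOf b _ t ≫ kernel.lift _ _ _) ≫ kernel.ι _ = _
  rw [Category.assoc, kernel.lift_ι, ← pushOf_comp]
  change pushOf b _ (t ≫ (seqS).g) = _
  rw [ht, pushOf_secOf]

/-- A class of degree one vanishing on the preimages of a cover of the base comes from the base. -/
theorem subsingleton_of_local (h : Subsingleton (Ext.{u} (freeFun.obj (⊤ : Opens Z)) ((T).obj F) 1))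
    (hloc : ∀ p : Z, ∃ V : Opens Z, p ∈ V ∧ Subsingleton (Ext.{u} (freeFun.obj ((Opens.map b).obj V)) F 1)) :
    Subsingleton (Ext.{u} (freeFun.obj (⊤ : Opens W)) F 1) := by
  refine subsingleton_of_forall_eq 0 fun x => ?_
  have hS : (seqS).ShortExact := { exact := ShortComplex.exact_cokernel _ }
  have hS' := shortExact_imSeq b F
  obtain ⟨φ, rfl⟩ := exists_comp_extClass hS inferInstance x
  refine (comp_extClass_eq_zero_iff hS φ).2 ?_
  let g := (T).map (cokernel.π (Injective.ι F))
  have h0 : pushOf b _ φ ≫ cokernel.π g = 0 := by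
    apply (sectionsEquiv (⊤ : Opens Z) (cokernel g)).injective
    choose V hpV hV using hloc
    refine TopCat.Sheaf.eq_of_locally_eq' (X := Z) (cokernel g) (fun p => V p) ⊤
      (fun p => homOfLE le_top) (fun p _ => Opens.mem_iSup.2 ⟨p, hpV p⟩) _ _ fun p => ?_
    haveI := hV p
    obtain ⟨t, ht⟩ := (comp_extClass_eq_zero_iff hS
      (freeFun.map (homOfLE (le_top : (Opens.map b).obj (V p) ≤ ⊤)) ≫ φ)).1 (Subsingleton.elim _ _)
    let t' : freeFun.obj (V p) ⟶ (T).obj (seqS).X₂ :=
      (sectionsEquiv (V p) _).symm (sectionsEquiv ((Opens.map b).obj (V p)) _ t)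
    rw [← sectionsEquiv_map, ← sectionsEquiv_map]
    refine congrArg (sectionsEquiv (V p) (cokernel g)) ?_
    have e : freeFun.map (homOfLE (le_top : V p ≤ ⊤)) ≫ pushOf b _ φ = t' ≫ g := by
      apply (sectionsEquiv (V p) _).injective
      rw [sectionsEquiv_map, sectionsEquiv_comp, Equiv.apply_symm_apply, pushOf, Equiv.apply_symm_apply]
      change _ = ((cokernel.π (Injective.ι F)).hom.app (op ((Opens.map b).obj (V p))))
        (sectionsEquiv ((Opens.map b).obj (V p)) _ t)
      rw [← sectionsEquiv_comp]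
      change _ = sectionsEquiv ((Opens.map b).obj (V p)) _ (t ≫ (seqS).g)
      rw [ht, sectionsEquiv_map]
      rfl
    erw [← Category.assoc, e, Category.assoc, cokernel.condition g, comp_zero]
  haveI : Subsingleton (Ext.{u} (freeFun.obj (⊤ : Opens Z)) (imSeq b F).X₁ 1) := h
  obtain ⟨t, ht⟩ := (comp_extClass_eq_zero_iff hS' (kernel.lift _ (pushOf b _ φ) h0)).1 (Subsingleton.elim _ _)
  refine ⟨secOf b _ t, ?_⟩
  change secOf b _ t ≫ cokernel.π (Injective.ι F) = φ
  rw [← secOf_comp]
  have h2 : t ≫ g = pushOf b _ φ := by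
    have := congrArg (fun m => m ≫ kernel.ι _) ht
    simpa [imSeq, g] using this
  rw [h2, secOf, pushOf, Equiv.apply_symm_apply, Equiv.symm_apply_apply]

end GrothLib.RatSing29
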