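import Groth.Agent.Lib.RatSing29.ChartH1
import Groth.Agent.Lib.RatSing29.PushH1
import Groth.Agent.Lib.Cohom.OpenCompare
import Groth.Agent.Lib.ExcP1.Seq
import Groth.Agent.Lib.Stein.FibrationBase
import Groth.Agent.Lib.CurveMult.NefGenusZero
import Groth.Agent.Lib.Birat.LqfSep
import Groth.Agent.Lib.Nagata6.UnionData

/-!
# Degree one cohomology of the structure sheaf along point blow-ups
-/

universe u

set_option linter.all false
set_option backward.isDefEq.respectTransparency false

open CategoryTheory CategoryTheory.Limits AlgebraicGeometry Opposite TopologicalSpace Abelian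
open GrothLib.Cohom

noncomputable section

namespace GrothLib.RatSing29

/-- Vanishing on an open subscheme gives vanishing on the open. -/
theorem subsingleton_ext_open {X : Scheme.{u}} (U : X.Opens)
    (h : Subsingleton (Ext.{u} (freeFun.obj (⊤ : (U : Scheme.{u}).Opens))
      (Coh.toAb (Coh.structureModule (U : Scheme.{u}))) 1)) :
    Subsingleton (Ext.{u} (freeFun.obj U) (Coh.toAb (Coh.structureModule X)) 1) := by
  have hj := Scheme.Hom.isOpenEmbedding U.ι
  obtain ⟨c⟩ := nonempty_comparison_restrFun hj (⊤ : (U : Scheme.{u}).Opens) 1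
  have e := c.equiv (Coh.toAb (Coh.structureModule X)) trivial
  have hU : hj.isOpenMap.functor.obj (⊤ : (U : Scheme.{u}).Opens) = U := U.ι_image_top
  rw [hU] at e
  exact @Equiv.subsingleton _ _ e.toEquiv h

variable {W Z : Scheme.{u}}

/-- The structure sheaf is the direct image along a proper birational morphism to a normal scheme. -/
theorem isIso_app_of_birational [IsIntegral W] [IsIntegral Z] (b : W ⟶ Z) [IsProper b]
    (hN : ∀ z, IsIntegrallyClosed (Z.presheaf.stalk z)) (V : Z.Opens) (hV : (V : Set Z).Nonempty)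
    (hiso : IsIso (b ∣_ V)) (O : Z.Opens) : IsIso (b.app O) := by
  haveI := hiso
  haveI : IsOpenImmersion ((b ⁻¹ᵁ V).ι ≫ b) := by rw [← morphismRestrict_ι]; infer_instance
  obtain ⟨w, hw⟩ := hV
  obtain ⟨e, hb⟩ := Birat.birational_of_openImmersion b
    ⟨b ⁻¹ᵁ V, ⟨_, ((b ∣_ V).homeomorph.symm ⟨w, hw⟩).2⟩, ‹_›⟩
  refine GrothLib.Stein.isIso_app_of_normal b (specializes_of_eq e) hN (fun x _ => ?_) O
  obtain ⟨a, rfl⟩ := hb.2 x
  refine ⟨Z.presheaf.stalkSpecializes (specializes_of_eq e.symm) a, ?_⟩
  show b.stalkMap (genericPoint W) (Z.presheaf.stalkSpecializes (specializes_of_eq e)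
    (Z.presheaf.stalkSpecializes (specializes_of_eq e.symm) a)) = _
  rw [TopCat.Presheaf.stalkSpecializes_comp_apply]
  simp

/-- The direct image of the structure sheaf, as abelian sheaves. -/
theorem nonempty_pushIso (b : W ⟶ Z) (h : ∀ O, IsIso (b.app O)) :
    Nonempty (Coh.toAb (Coh.structureModule Z) ≅
      (CohTop.push b.base).obj (Coh.toAb (Coh.structureModule W))) := by
  let α := (SheafOfModules.toSheaf Z.ringCatSheaf).map (ClSub.unitToPush b)
  haveI : IsIso ((sheafToPresheaf _ _).map α) := by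
    haveI : ∀ O, IsIso (((sheafToPresheaf _ _).map α).app O) := fun O => by
      haveI := h O.unop
      rw [ConcreteCategory.isIso_iff_bijective]
      exact ConcreteCategory.bijective_of_isIso (b.app O.unop)
    exact NatIso.isIso_of_isIso_app _
  haveI : IsIso α := isIso_of_reflects_iso α (sheafToPresheaf _ _)
  exact ⟨asIso α⟩

/-- Vanishing of `H¹(O)` passes to the target of a map with direct image `O`. -/
theorem subsingleton_of_source (b : W ⟶ Z) (h : ∀ O, IsIso (b.app O))
    (hW : Subsingleton (Coh.HH W (Coh.structureModule W) 1)) :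
    Subsingleton (Coh.HH Z (Coh.structureModule Z) 1) := by
  obtain ⟨α⟩ := nonempty_pushIso b h
  haveI := @Equiv.subsingleton _ _ (HEquivTop (Coh.toAb (Coh.structureModule W)) 1).symm.toEquiv hW
  haveI := subsingleton_push b.base (Coh.toAb (Coh.structureModule W)) ‹_›
  refine @Equiv.subsingleton _ _ (HEquivTop (Coh.toAb (Coh.structureModule Z)) 1).toEquiv ?_
  refine subsingleton_of_forall_eq 0 fun x => ?_
  have h1 : x.comp (Ext.mk₀ α.hom) (add_zero 1) = 0 := Subsingleton.elim _ _
  simpa using congrArg (fun t => Ext.comp t (Ext.mk₀ α.inv) (add_zero 1)) h1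

/-- A point blow-up keeps `H¹(O) = 0`. -/
theorem subsingleton_blowUp [IsNoetherian Z] [IsIntegral Z]
    (hreg : ∀ w : Z, IsRegularLocalRing (Z.presheaf.stalk w)) {z : Z} (hz : IsClosed ({z} : Set Z))
    (hd : ringKrullDim (Z.presheaf.stalk z) = 2) {b : W ⟶ Z} [IsProper b]
    (hb : _root_.BlowUp.IsBlowUp b (Scheme.IdealSheafData.vanishingIdeal ⟨{z}, hz⟩))
    (hZ : Subsingleton (Coh.HH Z (Coh.structureModule Z) 1)) :
    Subsingleton (Coh.HH W (Coh.structureModule W) 1) := by
  haveI := hreg z
  haveI : IsIntegral W := GrothLib.ExcP1.integral_of_blowUp hz hd hb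
  have hoff := GrothLib.BlowUp.isIso_off_center hb
  have hN : ∀ w, IsIntegrallyClosed (Z.presheaf.stalk w) := fun w => by
    haveI := hreg w
    exact RegLoc.isIntegrallyClosed_of_isRegularLocalRing _
  set J := Scheme.IdealSheafData.vanishingIdeal (⟨{z}, hz⟩ : Closeds Z)
  have hJc : ∀ w, w ∈ J.support.compl ↔ w ≠ z := fun w => by
    show w ∉ (J.support : Set Z) ↔ _
    rw [Scheme.IdealSheafData.coe_support_vanishingIdeal]
    rfl
  have hne : (J.support.compl : Set Z).Nonempty := ⟨genericPoint Z, (hJc _).2 fun h => by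
    rw [← h] at hd
    have h0 : ringKrullDim Z.functionField = 0 := ringKrullDim_eq_zero_of_field _
    rw [hd] at h0
    norm_num at h0⟩
  obtain ⟨α⟩ := nonempty_pushIso b (isIso_app_of_birational b hN _ hne hoff)
  refine @Equiv.subsingleton _ _ (HEquivTop (Coh.toAb (Coh.structureModule W)) 1).toEquiv ?_
  refine subsingleton_of_local b.base _ ?_ fun p => ?_
  · haveI := @Equiv.subsingleton _ _ (HEquivTop (Coh.toAb (Coh.structureModule Z)) 1).symm.toEquiv hZ
    refine subsingleton_of_forall_eq 0 fun x => ?_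
    have h1 : x.comp (Ext.mk₀ α.inv) (add_zero 1) = 0 := Subsingleton.elim _ _
    simpa using congrArg (fun t => Ext.comp t (Ext.mk₀ α.hom) (add_zero 1)) h1
  by_cases hp : p = z
  · subst hp
    obtain ⟨V, hpV, a, ha, -, -⟩ := GrothLib.ExcP1.exists_affine_params hz hd
    refine ⟨V.1, hpV, subsingleton_ext_open (b ⁻¹ᵁ V.1) ?_⟩
    let e : ((b ⁻¹ᵁ V.1 : W.Opens) : Scheme.{u}) ⟶ pullback V.2.fromSpec b :=
      pullback.lift ((b ∣_ V.1) ≫ V.2.isoSpec.hom) (b ⁻¹ᵁ V.1).ι (by
        rw [Category.assoc, ← morphismRestrict_ι]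
        congr 1
        exact V.2.isoSpec_hom_fromSpec)
    have sq : IsPullback ((b ∣_ V.1) ≫ V.2.isoSpec.hom) (b ⁻¹ᵁ V.1).ι V.2.fromSpec b :=
      IsPullback.of_iso (isPullback_morphismRestrict b V.1) (Iso.refl _) V.2.isoSpec (Iso.refl _) (Iso.refl _)
        (by simp) (by simp) (by simp [V.2.isoSpec_hom_fromSpec]) (by simp)
    haveI : IsIso e := by
      have : e = sq.isoPullback.hom := pullback.hom_ext (by simp [e]) (by simp [e])
      rw [this]; infer_instance
    have hbl := GrothLib.BlowUp.isBlowUp_flat_baseChange V.2.fromSpec hb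
    rw [show J.comap V.2.fromSpec = GrothLib.BlowUp.idealSheaf (GrothLib.BlowUp17.ctr a) by
      rw [GrothLib.Nagata6.comap_fromSpec, ha]] at hbl
    exact subsingleton_h1 a (GrothLib.ArSurf29.isBlowUp_iso_comp hbl e) _
      GrothLib.CurveMult.isGloballyGenerated_structure
  · obtain ⟨_, ⟨V, hV, rfl⟩, hpV, hVc⟩ := Z.isBasis_affineOpens.exists_subset_of_mem_open
      ((hJc p).2 hp) J.support.compl.isOpen
    refine ⟨V, hpV, ?_⟩
    haveI := GrothLib.Nagata6.isIso_restrict_of_le b _ _ (show V ≤ J.support.compl from hVc)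
    haveI : IsAffine (V : Scheme.{u}) := hV
    have hbV : IsAffineOpen (b ⁻¹ᵁ V) := IsAffine.of_isIso (b ∣_ V)
    exact subsingleton_ext_freeFun_of_isAffineOpen hbV _ 0

/-- Contraction sequences keep `H¹(O) = 0`. -/
theorem subsingleton_seq {r : W ⟶ Z} (hr : Models.IsContractionSeq r) :
    ∀ [IsNoetherian Z] [IsIntegral Z] (hreg : ∀ w : Z, IsRegularLocalRing (Z.presheaf.stalk w))
      (hZ : Subsingleton (Coh.HH Z (Coh.structureModule Z) 1)),
    Subsingleton (Coh.HH W (Coh.structureModule W) 1) ∧ IsNoetherian W ∧ IsIntegral W ∧ IsProper r ∧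
      (∀ w : W, IsRegularLocalRing (W.presheaf.stalk w)) ∧
      ∃ V : Z.Opens, (V : Set Z).Nonempty ∧ IsIso (r ∣_ V) := by
  induction hr with
  | @iso A B e =>
    intro _ _ hreg hZ
    haveI : Nonempty A := ⟨e.inv (genericPoint B)⟩
    haveI hA : IsIntegral A := isIntegral_of_isOpenImmersion e.hom
    have hregA : ∀ w : A, IsRegularLocalRing (A.presheaf.stalk w) := fun w => by
      haveI := hreg (e.hom w)
      exact IsRegularLocalRing.of_ringEquiv (R := B.presheaf.stalk (e.hom w))
        (asIso (e.hom.stalkMap w)).commRingCatIsoToRingEquiv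
    haveI : IsNoetherian A :=
      { toIsLocallyNoetherian := LocallyOfFiniteType.isLocallyNoetherian e.hom
        toCompactSpace := QuasiCompact.compactSpace_of_compactSpace e.hom }
    refine ⟨subsingleton_of_source e.inv (fun O => inferInstance) hZ, inferInstance, hA, inferInstance, hregA,
      ⊤, ⟨genericPoint B, trivial⟩, inferInstance⟩
  | @step A B D E ι b r hι hE hb hr ih =>
    intro _ _ hreg hZ
    obtain ⟨hB, hBn, hBi, hrp, hBreg, V, hV, hVi⟩ := @ih _ _ hreg hZ
    haveI := hBn; haveI := hBi; haveI := hrp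
    obtain ⟨-, hbp, y, hy, -, hyreg, hd, hblow⟩ := hb
    haveI := hbp; haveI := hyreg
    haveI : IsNoetherian A :=
      { toIsLocallyNoetherian := LocallyOfFiniteType.isLocallyNoetherian b
        toCompactSpace := QuasiCompact.compactSpace_of_compactSpace b }
    refine ⟨subsingleton_blowUp hBreg hy hd hblow hB, inferInstance,
      GrothLib.ExcP1.integral_of_blowUp hy hd hblow, inferInstance,
      GrothLib.ExcP1.regular_of_blowUp hBreg hy hd hblow, ?_⟩
    have hoff := GrothLib.BlowUp.isIso_off_center hblow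
    obtain ⟨w, hw⟩ := hV
    haveI := hVi
    let C : B.Opens := ⟨{y}ᶜ, hy.isOpen_compl⟩
    -- an open of the base avoiding the image of the centre
    have hηV : genericPoint D ∈ V := (genericPoint_specializes w).mem_open V.isOpen hw
    have hry : IsClosed ({r y} : Set D) := by simpa using r.isClosedMap _ hy
    let V' : D.Opens := V ⊓ ⟨{r y}ᶜ, hry.isOpen_compl⟩
    have hVy : genericPoint D ≠ r y := fun h => by
      obtain ⟨q, hq⟩ := (r ∣_ V).homeomorph.surjective ⟨genericPoint D, hηV⟩
      have hyV : r y ∈ V := h ▸ hηV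
      haveI : IsIso (r.stalkMap y) :=
        ((MorphismProperty.isomorphisms CommRingCat).arrow_mk_iso_iff (morphismRestrictStalkMap r V ⟨y, hyV⟩)).1
          (show IsIso ((r ∣_ V).stalkMap ⟨y, hyV⟩) from inferInstance)
      have h1 := ringKrullDim_eq_of_ringEquiv (asIso (r.stalkMap y)).commRingCatIsoToRingEquiv
      have h2 : ringKrullDim (D.presheaf.stalk (r y)) = 0 := by
        rw [← h]; exact ringKrullDim_eq_zero_of_field D.functionField
      have h3 : ringKrullDim (B.presheaf.stalk y) = 0 := h1.symm.trans h2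
      rw [hd] at h3
      norm_num at h3
    refine ⟨V', ⟨genericPoint D, hηV, hVy⟩, ?_⟩
    haveI := GrothLib.Nagata6.isIso_restrict_of_le r V V' inf_le_left
    haveI : IsIso (b ∣_ (r ⁻¹ᵁ V')) := by
      haveI := hoff
      refine GrothLib.Nagata6.isIso_restrict_of_le b (Scheme.IdealSheafData.vanishingIdeal (⟨{y}, hy⟩ : Closeds B)).support.compl _ fun q hq => ?_
      show q ∉ ((Scheme.IdealSheafData.vanishingIdeal (⟨{y}, hy⟩ : Closeds B)).support : Set B)
      rw [Scheme.IdealSheafData.coe_support_vanishingIdeal]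
      intro hqy
      exact hq.2 (show r q = r y from congrArg r hqy)
    rw [morphismRestrict_comp]
    infer_instance

end GrothLib.RatSing29
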