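import Groth.Agent.Lib.RatSing29.ModifDim
import Groth.Agent.Lib.BCCoh.FlatBC
import Groth.Agent.Lib.RelVanish.Basic
import Groth.Agent.Lib.Nagata6.StrictNear
import Groth.Agent.Lib.RpushSupp20.Main
import Groth.Agent.Lib.HomSh.Coherent
import Groth.Agent.Lib.QCoh.Support
import Groth.Agent.Lib.RLpsi8.UnibRadScheme
import Groth.Prelude.Def_Curv2

/-!
# Higher direct images along modifications of surfaces with rational singularities
-/

universe u

set_option linter.all false
set_option backward.isDefEq.respectTransparency false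

open CategoryTheory CategoryTheory.Limits AlgebraicGeometry Opposite TopologicalSpace Abelian

noncomputable section

namespace GrothLib.RatSing29

variable {W Z : Scheme.{u}} [IsIntegral W] [IsIntegral Z] [IsNoetherian Z] (ρ : W ⟶ Z) [IsProper ρ]

/-- The base change of a normal modification to a local ring. -/
theorem pullback_stalk_data (hWn : Pi1.IsNormalScheme W)
    (hbir : ∃ U : Z.Opens, (U : Set Z).Nonempty ∧ IsIso (ρ ∣_ U)) (x : Z) :
    IsIntegral (pullback ρ (Z.fromSpecStalk x)) ∧ Pi1.IsNormalScheme (pullback ρ (Z.fromSpecStalk x)) ∧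
      ∃ V : (Spec (CommRingCat.of (Z.presheaf.stalk x))).Opens,
        (V : Set (Spec (CommRingCat.of (Z.presheaf.stalk x)))).Nonempty ∧ IsIso (pullback.snd ρ (Z.fromSpecStalk x) ∣_ V) := by
  obtain ⟨U, hU, hiso⟩ := hbir
  haveI := hiso
  haveI : Flat (Z.fromSpecStalk x) := GrothLib.FEt21.flat_fromSpecStalk x
  haveI : IsPreimmersion (pullback.fst ρ (Z.fromSpecStalk x)) :=
    MorphismProperty.pullback_fst ρ (Z.fromSpecStalk x) inferInstance
  haveI : Flat (pullback.fst ρ (Z.fromSpecStalk x)) :=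
    MorphismProperty.pullback_fst ρ (Z.fromSpecStalk x) inferInstance
  let g := pullback.fst ρ (Z.fromSpecStalk x)
  have hst : ∀ q, IsIso (g.stalkMap q) := fun q => RLpsi8.UnibRad.isIso_stalkMap_of_flat_preimmersion g q
  have hdom : ∀ q, IsDomain ((pullback ρ (Z.fromSpecStalk x)).presheaf.stalk q) ∧
      IsIntegrallyClosed ((pullback ρ (Z.fromSpecStalk x)).presheaf.stalk q) := fun q => by
    haveI := hst q
    let e := (asIso (g.stalkMap q)).commRingCatIsoToRingEquiv
    haveI := (hWn (g q)).1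
    haveI := (hWn (g q)).2
    exact ⟨e.symm.injective.isDomain e.symm.toRingHom, IsIntegrallyClosed.of_equiv e⟩
  obtain ⟨w₀, hw₀⟩ := hU
  obtain ⟨q₀, hq₀⟩ := (ρ ∣_ U).homeomorph.surjective ⟨w₀, hw₀⟩
  haveI : IsOpenImmersion ((ρ ⁻¹ᵁ U).ι ≫ ρ) := by rw [← morphismRestrict_ι]; infer_instance
  obtain ⟨eη, -⟩ := Birat.birational_of_openImmersion ρ ⟨ρ ⁻¹ᵁ U, ⟨_, q₀.2⟩, ‹_›⟩
  obtain ⟨P, hP⟩ : genericPoint Z ∈ Set.range (Z.fromSpecStalk x) := by
    rw [Scheme.range_fromSpecStalk]
    exact genericPoint_specializes x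
  obtain ⟨q, hq⟩ : genericPoint W ∈ Set.range g := by
    rw [Scheme.Pullback.range_fst]
    exact ⟨P, hP.trans eη.symm⟩
  haveI : IsReduced (pullback ρ (Z.fromSpecStalk x)) := by
    haveI := fun q => (hdom q).1
    exact isReduced_of_isReduced_stalk _
  haveI : IrreducibleSpace ↥(pullback ρ (Z.fromSpecStalk x)) := by
    haveI : Nonempty ↥(pullback ρ (Z.fromSpecStalk x)) := ⟨q⟩
    refine { isPreirreducible_univ := ?_, toNonempty := inferInstance }
    have h1 : closure ({q} : Set ↥(pullback ρ (Z.fromSpecStalk x))) = Set.univ := Set.eq_univ_of_forall fun r =>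
      specializes_iff_mem_closure.1 (g.isEmbedding.isInducing.specializes_iff.1 (hq ▸ genericPoint_specializes (g r)))
    exact h1 ▸ isIrreducible_singleton.closure.2
  refine ⟨isIntegral_of_irreducibleSpace_of_isReduced _, hdom, (Z.fromSpecStalk x) ⁻¹ᵁ U, ⟨P, ?_⟩,
    Nagata6.isIso_restrict_of_pullback (IsPullback.of_hasPullback ρ (Z.fromSpecStalk x)) U _ le_rfl⟩
  show Z.fromSpecStalk x P ∈ U
  rw [hP]
  exact (genericPoint_specializes w₀).mem_open U.isOpen hw₀

variable (hWn : Pi1.IsNormalScheme W) (hbir : ∃ U : Z.Opens, (U : Set Z).Nonempty ∧ IsIso (ρ ∣_ U))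
  (hdim : topologicalKrullDim Z ≤ 2)
  (hrat : ∀ x : Z, IsClosed ({x} : Set Z) → Curv2.IsRationalSing (Z.presheaf.stalk x))
  (hgen : ¬ IsClosed ({genericPoint Z} : Set Z))
include hWn hbir hdim hrat hgen

/-- Higher cohomology of the base change to the local ring at a closed point. -/
theorem subsingleton_HH_pullback_stalk (x : Z) (hx : IsClosed ({x} : Set Z)) (p : ℕ) (hp : 1 ≤ p) :
    Subsingleton (Coh.HH (pullback ρ (Z.fromSpecStalk x)) (Coh.structureModule _) p) := by
  obtain ⟨hI, hN, hb⟩ := pullback_stalk_data ρ hWn hbir x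
  haveI := hI
  haveI : IsDomain (Z.presheaf.stalk x) := inferInstance
  rcases hp.eq_or_lt with h | h
  · subst h
    exact hrat x hx _ (pullback.snd ρ (Z.fromSpecStalk x)) inferInstance hI hN hb
  refine subsingleton_HH_of_fibres (A := (Z.presheaf.stalk x : Type u)) (pullback.snd ρ (Z.fromSpecStalk x))
    (dim_fiber_le_one_of_le (A := (Z.presheaf.stalk x : Type u)) _ ((Z.fromSpecStalk x).isEmbedding.isInducing.topologicalKrullDim_le.trans hdim)
      (fun h0 => hgen ?_) hb) _ p h
  have h1 : genericPoint Z = x := by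
    obtain ⟨P, hP⟩ : genericPoint Z ∈ Set.range (Z.fromSpecStalk x) := by
      rw [Scheme.range_fromSpecStalk]
      exact genericPoint_specializes x
    have h2 : genericPoint (Spec (Z.presheaf.stalk x)) ⤳ P := genericPoint_specializes P
    have h3 : x ⤳ genericPoint Z := by
      have h4 := h2.map (Z.fromSpecStalk x).continuous
      rw [hP, show genericPoint (Spec (Z.presheaf.stalk x)) = IsLocalRing.closedPoint (Z.presheaf.stalk x) from h0.symm,
        Scheme.fromSpecStalk_closedPoint] at h4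
      exact h4
    exact ((genericPoint_specializes x).antisymm h3).eq
  rwa [h1]

/-- The higher direct images of the structure sheaf vanish. -/
theorem subsingleton_stalk_Rpush (p : ℕ) (hp : 1 ≤ p) (y : Z) :
    letI := RpushSupp20.hasInjectiveResolutions W
    Subsingleton (((Coh.Rpush ρ p).obj (Coh.structureModule W)).presheaf.stalk y) := by
  letI := RpushSupp20.hasInjectiveResolutions W
  haveI : IsLocallyNoetherian W := LocallyOfFiniteType.isLocallyNoetherian ρ
  have hO : Coh.IsCoh (Coh.structureModule W) := HomSh.isCoh_structureModule W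
  have hcl : ∀ x : Z, IsClosed ({x} : Set Z) →
      Subsingleton (((Coh.Rpush ρ p).obj (Coh.structureModule W)).presheaf.stalk x) := fun x hx => by
    letI : (pullback ρ (Z.fromSpecStalk x)).Over (Spec (CommRingCat.of (Z.presheaf.stalk x))) :=
      ⟨pullback.snd ρ (Z.fromSpecStalk x)⟩
    obtain ⟨e⟩ := BCCoh.exists_stalk_Rpush_equiv ρ (Coh.structureModule W) hO x p _
      (pullback.fst ρ (Z.fromSpecStalk x)) (IsPullback.of_hasPullback ρ (Z.fromSpecStalk x))
    obtain ⟨e', -⟩ := FormalFn.exists_hh_equiv (A := Z.presheaf.stalk x)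
      (PicLoc.pullbackStructureIso (pullback.fst ρ (Z.fromSpecStalk x))) p
    haveI := subsingleton_HH_pullback_stalk ρ hWn hbir hdim hrat hgen x hx p hp
    exact (e.trans e').toEquiv.subsingleton
  by_contra h
  have hS := QCoh.isClosed_support_of_isCoh (Cohom.isCoh_Rpush ρ (Coh.structureModule W) hO p)
  obtain ⟨x, hx, hxc⟩ := hS.exists_closed_singleton
    ⟨y, fun h1 => h (@Subsingleton.intro _ fun a b => Subsingleton.elim (h := h1) a b)⟩
  exact hx (hcl x hxc)

/-- The structure sheaf is acyclic on the preimages of affine opens. -/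
theorem subsingleton_ext_preimage_affine (p : ℕ) (hp : 1 ≤ p) {V : Z.Opens} (hV : IsAffineOpen V) :
    Subsingleton (Ext.{u} (Cohom.freeFun.obj (ρ ⁻¹ᵁ V)) (Coh.toAb (Coh.structureModule W)) p) := by
  letI := RpushSupp20.hasInjectiveResolutions W
  haveI : IsLocallyNoetherian W := LocallyOfFiniteType.isLocallyNoetherian ρ
  obtain ⟨e, -⟩ := BCCoh.exists_Rpush_equiv ρ hV (Coh.structureModule W) p
  haveI : Subsingleton Γ((Coh.Rpush ρ p).obj (Coh.structureModule W), V) :=
    ⟨fun a b => TopCat.Presheaf.section_ext (Coh.toAb ((Coh.Rpush ρ p).obj (Coh.structureModule W)))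
      V a b fun z _ => @Subsingleton.elim _ (subsingleton_stalk_Rpush ρ hWn hbir hdim hrat hgen p hp z) _ _⟩
  obtain ⟨e'⟩ := Cohom.nonempty_HHon_equiv (Coh.structureModule W) (ρ ⁻¹ᵁ V) p
  exact (e'.symm.trans e).toEquiv.subsingleton

/-- `R^p ρ_* O = 0`. -/
theorem isZero_RpushAb_structure (p : ℕ) (hp : 1 ≤ p) :
    IsZero ((Coh.RpushAb ρ p).obj (Coh.toAb (Coh.structureModule W))) :=
  RelVanish.isZero_RpushAb_of_cover ρ _ p (fun V : Z.affineOpens => V.1) (fun V => V.2)
    (fun x => by
      obtain ⟨V, hV, hx, -⟩ := exists_isAffineOpen_mem_and_subset (show x ∈ (⊤ : Z.Opens) from trivial)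
      exact ⟨⟨V, hV⟩, hx⟩)
    fun V => subsingleton_ext_preimage_affine ρ hWn hbir hdim hrat hgen p hp V.2

end GrothLib.RatSing29
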