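import Groth.Agent.Lib.Snapper.Leray
import Groth.Agent.Lib.FlatBCRpush.Main
import Groth.Agent.Lib.RpushSupp20.Main
import Mathlib.RingTheory.Length
import Mathlib.Algebra.Homology.ShortComplex.Abelian

/-!
# The sequence of terms of low degree, as an identity of lengths
-/

universe u

set_option linter.all false
set_option backward.isDefEq.respectTransparency false

open CategoryTheory CategoryTheory.Limits AlgebraicGeometry Opposite TopologicalSpace Abelian

noncomputable section

namespace GrothLib.RatSing29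

open GrothLib.Cohom GrothLib.Snapper

theorem length_add_of_factor {A I N P P' R : Type*} [CommRing A] [AddCommGroup I] [AddCommGroup N] [AddCommGroup P]
    [AddCommGroup P'] [AddCommGroup R] [Module A I] [Module A N] [Module A P] [Module A P'] [Module A R]
    (a : I →ₗ[A] P) (ha : Function.Surjective a) (i : I →ₗ[A] N) (c : N →ₗ[A] R) (hc : Function.Surjective c)
    (hex : Function.Exact i c) (hi : Function.Injective i) (d : N →ₗ[A] P') (hd : Function.Surjective d)
    (hker : LinearMap.ker d = (LinearMap.ker a).map i) :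
    Module.length A P' = Module.length A P + Module.length A R := by
  have h1 : LinearMap.ker a ≤ LinearMap.ker (d.comp i) := fun x hx => by
    rw [LinearMap.mem_ker, LinearMap.comp_apply, ← LinearMap.mem_ker, hker]
    exact ⟨x, hx, rfl⟩
  have h2 : LinearMap.ker d ≤ LinearMap.ker c := by
    rw [hker]
    rintro _ ⟨x, -, rfl⟩
    exact hex.apply_apply_eq_zero x
  let f : P →ₗ[A] P' := ((LinearMap.ker a).liftQ _ h1).comp (a.quotKerEquivOfSurjective ha).symm.toLinearMap
  let g : P' →ₗ[A] R := ((LinearMap.ker d).liftQ _ h2).comp (d.quotKerEquivOfSurjective hd).symm.toLinearMap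
  have hf : ∀ x, f (a x) = d (i x) := fun x => by
    show (LinearMap.ker a).liftQ _ h1 ((a.quotKerEquivOfSurjective ha).symm (a x)) = _
    rw [show (a.quotKerEquivOfSurjective ha).symm (a x) = Submodule.Quotient.mk x from
      (LinearEquiv.symm_apply_eq _).2 (by simp)]
    rfl
  have hg : ∀ x, g (d x) = c x := fun x => by
    show (LinearMap.ker d).liftQ _ h2 ((d.quotKerEquivOfSurjective hd).symm (d x)) = _
    rw [show (d.quotKerEquivOfSurjective hd).symm (d x) = Submodule.Quotient.mk x from
      (LinearEquiv.symm_apply_eq _).2 (by simp)]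
    rfl
  refine Module.length_eq_add_of_exact f g ((injective_iff_map_eq_zero f).2 fun p hp => ?_) (fun r => ?_) fun p' => ?_
  · obtain ⟨x, rfl⟩ := ha p
    rw [hf, ← LinearMap.mem_ker, hker] at hp
    obtain ⟨y, hy, hyx⟩ := hp
    obtain rfl := hi hyx
    exact hy
  · obtain ⟨x, rfl⟩ := hc r
    exact ⟨d x, hg x⟩
  · obtain ⟨z, rfl⟩ := hd p'
    rw [hg]
    constructor
    · intro hz
      obtain ⟨x, rfl⟩ := (hex z).1 hz
      exact ⟨a x, hf x⟩
    · rintro ⟨p, hp⟩
      obtain ⟨x, rfl⟩ := ha p
      rw [hf] at hp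
      have h3 := h2 (show i x - z ∈ LinearMap.ker d by rw [LinearMap.mem_ker, map_sub, hp, sub_self])
      rw [LinearMap.mem_ker, map_sub, hex.apply_apply_eq_zero x, zero_sub, neg_eq_zero] at h3
      exact h3

variable {A : Type u} [CommRing A] {X Y : Scheme.{u}} [X.Over (Spec (CommRingCat.of A))]
  [Y.Over (Spec (CommRingCat.of A))] {f : Y ⟶ X}

/-- `length H¹(M) = length H¹(f_* M) + length H⁰(R¹ f_* M)` when `H²(f_* M) = 0`. -/
theorem length_HH_one (hf : f ≫ X ↘ Spec (CommRingCat.of A) = Y ↘ Spec (CommRingCat.of A))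
    [HasInjectiveResolutions Y.Modules] (M : Y.Modules)
    (h2 : Subsingleton (Coh.HH X ((Scheme.Modules.pushforward f).obj M) 2)) :
    Module.length A (Coh.HH Y M 1) = Module.length A (Coh.HH X ((Scheme.Modules.pushforward f).obj M) 1) +
      Module.length A (Coh.HH X ((Coh.Rpush f 1).obj M) 0) := by
  haveI : IsGrothendieckAbelian.{u} Y.Modules :=
    GrothLib.SheafCoh.isGrothendieckAbelian_sheafOfModules (R := Y.ringCatSheaf)
  let F := Scheme.Modules.pushforward f
  haveI : PreservesFiniteLimits F := FlatBCRpush.preservesFiniteLimits_pushforward f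
  let J := Injective.under M
  let S : ShortComplex Y.Modules := ShortComplex.mk (Injective.ι M) (cokernel.π _) (cokernel.condition _)
  have hS : S.ShortExact := { exact := ShortComplex.exact_of_g_is_cokernel _ (cokernelIsCokernel _) }
  obtain ⟨Δ⟩ := RDerLES.nonempty_derivedLES (F := F)
  obtain ⟨eR⟩ := FlatBCRpush.nonempty_one_iso F Δ hS (Functor.isZero_rightDerived_obj_injective_succ F 0 J)
  haveI : Mono (F.map S.f) := inferInstance
  have hFS : (S.map F).Exact := hS.exact.map_of_mono_of_preservesKernel F inferInstance inferInstance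
  let i : cokernel (F.map S.f) ⟶ F.obj S.X₃ := cokernel.desc _ (F.map S.g) (by rw [← F.map_comp, S.zero, F.map_zero])
  haveI hi : Mono i := (S.map F).exact_iff_mono_cokernel_desc.1 hFS
  let S₁ := ShortComplex.mk (F.map S.f) (cokernel.π (F.map S.f)) (cokernel.condition _)
  have hS₁ : S₁.ShortExact := { exact := ShortComplex.exact_of_g_is_cokernel _ (cokernelIsCokernel _) }
  let S₂ := ShortComplex.mk i (cokernel.π i) (cokernel.condition _)
  have hS₂ : S₂.ShortExact := { exact := ShortComplex.exact_of_g_is_cokernel _ (cokernelIsCokernel _) }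
  have hJ : ∀ q, Subsingleton (Coh.HH X (F.obj S.X₂) (q + 1)) := fun q =>
    Snapper.subsingleton_HH_push_injective f J q
  have hI : Subsingleton (Coh.HH X (cokernel (F.map S.f)) 1) := by
    refine subsingleton_of_forall_eq 0 fun y => ?_
    obtain ⟨x, rfl⟩ := (exact₃ (A := A) hS₁ 1 y).1 (@Subsingleton.elim _ h2 _ _)
    rw [@Subsingleton.elim _ (hJ 0) x 0, map_zero]
  let e : cokernel i ≅ (Coh.Rpush f 1).obj M :=
    (cokernelEpiComp (cokernel.π (F.map S.f)) i).symm ≪≫ cokernelIsoOfEq (cokernel.π_desc _ _ _) ≪≫ eR.symm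
  have he : Module.length A (Coh.HH X (cokernel i) 0) = Module.length A (Coh.HH X ((Coh.Rpush f 1).obj M) 0) :=
    LinearEquiv.length_eq (LinearEquiv.ofLinear (hhMap A e.hom 0) (hhMap A e.inv 0)
      (LinearMap.ext fun x => by
        simp only [LinearMap.comp_apply, LinearMap.id_apply, hhMap_apply, ← Sheaf.H.map_comp_apply, ← Functor.map_comp,
          Iso.inv_hom_id, CategoryTheory.Functor.map_id]
        exact Sheaf.H.map_id_apply x)
      (LinearMap.ext fun x => by
        simp only [LinearMap.comp_apply, LinearMap.id_apply, hhMap_apply, ← Sheaf.H.map_comp_apply, ← Functor.map_comp,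
          Iso.hom_inv_id, CategoryTheory.Functor.map_id]
        exact Sheaf.H.map_id_apply x))
  rw [← he]
  refine length_add_of_factor (hhDelta A hS₁ 0) (fun p => ?_) (hhMap A i 0) (hhMap A (cokernel.π i) 0)
    (fun r => ?_) (exact₂ hS₂ 0) (fun x y h => ?_)
    ((hhDelta A hS 0).comp (h0PushLin hf S.X₃).toLinearMap) (fun p => ?_) ?_
  · obtain ⟨x, hx⟩ := (exact₁ (A := A) hS₁ 0 p).1 (@Subsingleton.elim _ (hJ 0) _ _)
    exact ⟨x, hx⟩
  · obtain ⟨x, hx⟩ := (exact₃ (A := A) hS₂ 0 r).1 (@Subsingleton.elim _ hI _ _)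
    exact ⟨x, hx⟩
  · apply (ProjCoh.H0top _).injective
    have h1 := congrArg (ProjCoh.H0top _) h
    rw [hhMap_apply, hhMap_apply, ProjCoh.H0top_map, ProjCoh.H0top_map] at h1
    haveI : Mono ((Scheme.Modules.toPresheaf X).map i) := Functor.map_mono _ _
    exact ((AddCommGrpCat.mono_iff_injective _).1
      (inferInstance : Mono (((Scheme.Modules.toPresheaf X).map i).app (op ⊤)))) h1
  · obtain ⟨x, hx⟩ := (exact₁ (A := A) hS 0 p).1 (@Subsingleton.elim _ (Snapper.subsingleton_HH_injective J 0) _ _)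
    exact ⟨(h0PushLin hf S.X₃).symm x, (congrArg (hhDelta A hS 0) ((h0PushLin hf S.X₃).apply_symm_apply x)).trans hx⟩
  · ext z
    rw [LinearMap.mem_ker, LinearMap.comp_apply, LinearEquiv.coe_toLinearMap]
    constructor
    · intro hz
      obtain ⟨x, hx⟩ := (exact₃ (A := A) hS 0 _).1 hz
      refine ⟨hhMap A (cokernel.π (F.map S.f)) 0 ((h0PushLin hf S.X₂).symm x), ?_, ?_⟩
      · exact (exact₃ (A := A) hS₁ 0 _).2 ⟨_, rfl⟩
      · apply (h0PushLin hf S.X₃).injective
        rw [← hx, hhMap_apply, hhMap_apply, ← Sheaf.H.map_comp_apply, ← Functor.map_comp, cokernel.π_desc,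
          ← hhMap_apply (A := A), h0PushLin_natural, LinearEquiv.apply_symm_apply]
    · rintro ⟨w, hw, rfl⟩
      obtain ⟨x, rfl⟩ := (exact₃ (A := A) hS₁ 0 w).1 hw
      refine (exact₃ (A := A) hS 0 _).2 ⟨h0PushLin hf S.X₂ x, ?_⟩
      rw [← h0PushLin_natural]
      refine congrArg (h0PushLin hf S.X₃) ?_
      simp only [S₁, hhMap_apply, ← Sheaf.H.map_comp_apply, ← Functor.map_comp]
      rw [cokernel.π_desc]

end GrothLib.RatSing29
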