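import Groth.Agent.Lib.RLpsi8.FibreVanish
import Groth.Agent.Lib.DimIneq9.Basic
import Groth.Agent.Lib.ArSurf29.DesingEngine

/-!
# Modifications of the spectrum of a two-dimensional local domain
-/

universe u

set_option linter.all false
set_option backward.isDefEq.respectTransparency false

open CategoryTheory CategoryTheory.Limits AlgebraicGeometry Opposite TopologicalSpace Abelian

noncomputable section

namespace GrothLib.RatSing29

variable {A : Type u} [CommRing A] [IsDomain A] [IsLocalRing A] [IsNoetherianRing A]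
  {X : Scheme.{u}} (f : X ⟶ Spec (CommRingCat.of A)) [IsProper f] [IsIntegral X]

/-- The generic point of a modification lies over the generic point. -/
theorem apply_genericPoint (U : (Spec (CommRingCat.of A)).Opens)
    (hU : (U : Set (Spec (CommRingCat.of A))).Nonempty) (hiso : IsIso (f ∣_ U)) :
    f (genericPoint X) = genericPoint (Spec (CommRingCat.of A)) := by
  haveI := hiso
  obtain ⟨w, hw⟩ := hU
  haveI : IsOpenImmersion ((f ⁻¹ᵁ U).ι ≫ f) := by rw [← morphismRestrict_ι]; infer_instance
  obtain ⟨e, -⟩ := Birat.birational_of_openImmersion f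
    ⟨f ⁻¹ᵁ U, ⟨_, ((f ∣_ U).homeomorph.symm ⟨w, hw⟩).2⟩, ‹_›⟩
  exact e

/-- A birational proper morphism does not raise the dimension. -/
theorem dim_le_of_birational {W Z : Scheme.{u}} [IsIntegral W] [IsIntegral Z] [IsNoetherian Z] (s : W ⟶ Z)
    [IsProper s] (V : Z.Opens) (hV : (V : Set Z).Nonempty) (hiso : IsIso (s ∣_ V)) {d : WithBot ℕ∞}
    (hdim : topologicalKrullDim Z ≤ d) : topologicalKrullDim W ≤ d := by
  haveI := hiso
  obtain ⟨w₀, hw₀⟩ := hV
  obtain ⟨z₀, hz₀⟩ := (s ∣_ V).homeomorph.surjective ⟨w₀, hw₀⟩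
  haveI : IsOpenImmersion ((s ⁻¹ᵁ V).ι ≫ s) := by rw [← morphismRestrict_ι]; infer_instance
  obtain ⟨e, -⟩ := Birat.birational_of_openImmersion s ⟨s ⁻¹ᵁ V, ⟨_, z₀.2⟩, ‹_›⟩
  have hηV : genericPoint Z ∈ V := (genericPoint_specializes w₀).mem_open V.isOpen hw₀
  rw [GrothLib.AlgSp.topologicalKrullDim_eq_iSup_stalk]
  refine iSup_le fun x => ?_
  obtain ⟨n, hn, -⟩ := GrothLib.Altitude.exists_trdeg_eq_dim_closure s x
  obtain ⟨m, hm, hmdim⟩ := GrothLib.Altitude.exists_trdeg_eq_dim_closure s (genericPoint W)
  have hm0 : m = 0 := by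
    haveI : Subsingleton (s.fiber (s (genericPoint W))) := ⟨fun a b => by
      refine (s.fiberι _).isEmbedding.injective ?_
      have ha := (s.range_fiberι _).le ⟨a, rfl⟩
      have hb := (s.range_fiberι _).le ⟨b, rfl⟩
      exact ArSurf29.injective_over_open s V
        (show s _ ∈ V by rw [show s _ = s (genericPoint W) from ha, e]; exact hηV)
        (Eq.trans ha (Eq.symm hb))⟩
    haveI : Subsingleton ↥(closure {s.asFiber (genericPoint W)} : Set (s.fiber (s (genericPoint W)))) :=
      ⟨fun a b => Subtype.ext (Subsingleton.elim _ _)⟩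
    have h0 := topologicalKrullDim_zero_of_discreteTopology
      ↥(closure {s.asFiber (genericPoint W)} : Set (s.fiber (s (genericPoint W))))
    rw [hmdim] at h0
    exact Nat.le_zero.1 (by exact_mod_cast h0)
  have hcomp : ∀ ξ : W, closure {ξ} ∈ irreducibleComponents ↥W → ξ = genericPoint W := fun ξ hξ => by
    rw [irreducibleComponents_eq_singleton, Set.mem_singleton_iff] at hξ
    exact (genericPoint_spec W).eq hξ |>.symm
  have h := GrothLib.DimFormula.ringKrullDim_stalk_add_trdeg_le s x n 0 hn fun ξ hξ _ => by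
    rw [hcomp ξ hξ, hm, hm0]
  refine le_trans (le_add_of_nonneg_right (by simp)) (h.trans ?_)
  simp only [Nat.cast_zero, add_zero]
  exact (GrothLib.Ref1.ringKrullDim_stalk_le_topologicalKrullDim _).trans hdim

/-- The fibres of a modification of a local domain, other than a field, of dimension at most two. -/
theorem dim_fiber_le_one_of_le (hdim : topologicalKrullDim (Spec (CommRingCat.of A)) ≤ 2)
    (hne : IsLocalRing.closedPoint A ≠ genericPoint (Spec (CommRingCat.of A)))
    (hbir : ∃ U : (Spec (CommRingCat.of A)).Opens, (U : Set (Spec (CommRingCat.of A))).Nonempty ∧ IsIso (f ∣_ U))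
    (s : Spec (CommRingCat.of A)) : topologicalKrullDim ↥(f.fiber s) ≤ ((1 : ℕ) : WithBot ℕ∞) := by
  obtain ⟨U, hU, hiso⟩ := hbir
  have hX : Order.krullDim X ≤ 2 :=
    (CurvePoints.krullDim_points_eq X).trans_le (dim_le_of_birational f U hU hiso hdim)
  refine (CurvePoints.krullDim_points_eq _).ge.trans ?_
  refine iSup_le fun p => ?_
  have hmono : StrictMono (f.fiberι s) := by
    intro a b hab
    refine lt_iff_le_not_ge.mpr ⟨Scheme.le_iff_specializes.mpr
      ((Scheme.le_iff_specializes.mp hab.le).map (f.fiberι _).continuous), fun e => hab.not_ge ?_⟩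
    exact Scheme.le_iff_specializes.mpr
      ((f.fiberι _).isEmbedding.isInducing.specializes_iff.mp (Scheme.le_iff_specializes.mp e))
  let p' := p.map _ hmono
  have hps : ∀ i, f (p' i) = s := fun i => (f.range_fiberι s).le ⟨p i, rfl⟩
  suffices h : ∃ q : LTSeries X, q.length = p.length + 1 by
    obtain ⟨q, hq⟩ := h
    have h2 := (Order.LTSeries.length_le_krullDim q).trans hX
    rw [hq] at h2
    have h3 : p.length + 1 ≤ 2 := by exact_mod_cast h2
    exact_mod_cast (show p.length ≤ 1 by omega)
  by_cases hs : s = IsLocalRing.closedPoint A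
  · refine ⟨p'.snoc (genericPoint X) (lt_iff_le_not_ge.mpr
      ⟨Scheme.le_iff_specializes.mpr (genericPoint_specializes _), fun e => hne ?_⟩), rfl⟩
    have h1 : s ⤳ genericPoint (Spec (CommRingCat.of A)) := by
      rw [← apply_genericPoint f U hU hiso, ← hps (Fin.last p'.length)]
      exact (Scheme.le_iff_specializes.mp e).map f.continuous
    exact hs ▸ (h1.antisymm (genericPoint_specializes s)).eq
  · obtain ⟨x', hx', hfx'⟩ := f.isClosedMap.specializingMap
      (show f p'.head ⤳ IsLocalRing.closedPoint A from IsLocalRing.specializes_closedPoint _)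
    refine ⟨p'.cons x' (lt_iff_le_not_ge.mpr ⟨Scheme.le_iff_specializes.mpr hx', fun e => hs ?_⟩), by simp [p']⟩
    have h1 := ((Scheme.le_iff_specializes.mp e).map f.continuous)
    rw [hfx', show f p'.head = s from hps 0] at h1
    exact (IsLocalRing.specializes_closedPoint s).antisymm h1 |>.eq

/-- The fibres of a modification of a two-dimensional local domain have dimension at most one. -/
theorem dim_fiber_le_one (hdim : ringKrullDim A = 2)
    (hbir : ∃ U : (Spec (CommRingCat.of A)).Opens, (U : Set (Spec (CommRingCat.of A))).Nonempty ∧ IsIso (f ∣_ U))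
    (s : Spec (CommRingCat.of A)) : topologicalKrullDim ↥(f.fiber s) ≤ ((1 : ℕ) : WithBot ℕ∞) := by
  have hS : topologicalKrullDim (Spec (CommRingCat.of A)) = 2 :=
    (PrimeSpectrum.topologicalKrullDim_eq_ringKrullDim A).trans hdim
  refine dim_fiber_le_one_of_le f hS.le (fun h3 => ?_) hbir s
  haveI : Subsingleton (Spec (CommRingCat.of A)) := ⟨fun a b => by
    have : ∀ a : Spec (CommRingCat.of A), a = IsLocalRing.closedPoint A := fun a =>
      (IsLocalRing.specializes_closedPoint a).antisymm
        (h3 ▸ (genericPoint_specializes a : genericPoint (Spec (CommRingCat.of A)) ⤳ a)) |>.eq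
    rw [this a, this b]⟩
  have h0 := topologicalKrullDim_zero_of_discreteTopology (Spec (CommRingCat.of A))
  rw [hS] at h0
  norm_num at h0

/-- Quasi-coherent cohomology vanishes in degrees above the fibre dimension. -/
theorem subsingleton_HH_of_fibres (hfib : ∀ s, topologicalKrullDim ↥(f.fiber s) ≤ ((1 : ℕ) : WithBot ℕ∞))
    (F : X.Modules) [F.IsQuasicoherent] (p : ℕ) (hp : 1 < p) : Subsingleton (Coh.HH X F p) := by
  have h1 := RLpsi8.FibreVanish.subsingleton_ext_of_isZero f F p
    (RLpsi8.FibreVanish.isZero_RpushAb f 1 hfib F p hp) (isAffineOpen_top _)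
  rw [Scheme.Hom.preimage_top] at h1
  exact @Equiv.subsingleton _ _ (Cohom.HEquivTop (Coh.toAb F) p).symm.toEquiv.symm h1

/-- Quasi-coherent cohomology of a modification vanishes in degrees at least two. -/
theorem subsingleton_HH_two_le (hdim : ringKrullDim A = 2)
    (hbir : ∃ U : (Spec (CommRingCat.of A)).Opens, (U : Set (Spec (CommRingCat.of A))).Nonempty ∧ IsIso (f ∣_ U))
    (F : X.Modules) [F.IsQuasicoherent] (p : ℕ) (hp : 1 < p) : Subsingleton (Coh.HH X F p) :=
  subsingleton_HH_of_fibres f (dim_fiber_le_one f hdim hbir) F p hp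

end GrothLib.RatSing29
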