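import Groth.Agent.S7411
import Groth.Agent.Lib.RatSing29.ModifDim
import Groth.Agent.Lib.Cohom.RpushModules
import Groth.Agent.Lib.Cohom.RpushSections
import Groth.Agent.Lib.QCoh.SupportExact

/-!
# Higher direct images between surfaces vanish away from closed points
-/

universe u

set_option linter.all false
set_option backward.isDefEq.respectTransparency false

open CategoryTheory CategoryTheory.Limits AlgebraicGeometry Opposite TopologicalSpace Abelian

noncomputable section

namespace GrothLib.RatSing29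

variable {W Z : Scheme.{u}} [IsIntegral W] [IsIntegral Z] (g : W ⟶ Z) [IsProper g]

/-- Over non-closed points the fibres of a birational morphism of surfaces are finite. -/
theorem dim_fiber_le_zero_of_not_isClosed [CompactSpace Z]
    (hbir : ∃ U : Z.Opens, (U : Set Z).Nonempty ∧ IsIso (g ∣_ U)) (hW : topologicalKrullDim W ≤ 2)
    {z : Z} (hz : ¬ IsClosed ({z} : Set Z)) :
    topologicalKrullDim ↥(g.fiber z) ≤ ((0 : ℕ) : WithBot ℕ∞) := by
  obtain ⟨U, hU, hiso⟩ := hbir
  haveI := hiso
  obtain ⟨w₀, hw₀⟩ := hU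
  obtain ⟨q₀, hq₀⟩ := (g ∣_ U).homeomorph.surjective ⟨w₀, hw₀⟩
  haveI : IsOpenImmersion ((g ⁻¹ᵁ U).ι ≫ g) := by rw [← morphismRestrict_ι]; infer_instance
  obtain ⟨eη, -⟩ := Birat.birational_of_openImmersion g ⟨g ⁻¹ᵁ U, ⟨_, q₀.2⟩, ‹_›⟩
  have hηU : genericPoint Z ∈ U := (genericPoint_specializes w₀).mem_open U.isOpen hw₀
  by_cases hzη : z = genericPoint Z
  · haveI : Subsingleton ↥(g.fiber z) := ⟨fun a b => by
      refine (g.fiberι _).isEmbedding.injective ?_
      have ha := (g.range_fiberι _).le ⟨a, rfl⟩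
      have hb := (g.range_fiberι _).le ⟨b, rfl⟩
      exact ArSurf29.injective_over_open g U (show g _ ∈ U by rw [show g _ = z from ha, hzη]; exact hηU)
        (Eq.trans ha (Eq.symm hb))⟩
    exact (CurvePoints.krullDim_points_eq _).ge.trans (Order.krullDim_nonpos_of_subsingleton.trans (by simp))
  obtain ⟨c, hc, hcc⟩ := (isClosed_closure (s := ({z} : Set Z))).exists_closed_singleton ⟨z, subset_closure rfl⟩
  have hcz : c ≠ z := fun h => hz (h ▸ hcc)
  have hX : Order.krullDim W ≤ 2 := (CurvePoints.krullDim_points_eq W).trans_le hW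
  refine (CurvePoints.krullDim_points_eq _).ge.trans ?_
  refine iSup_le fun p => ?_
  have hmono : StrictMono (g.fiberι z) := by
    intro a b hab
    refine lt_iff_le_not_ge.mpr ⟨Scheme.le_iff_specializes.mpr
      ((Scheme.le_iff_specializes.mp hab.le).map (g.fiberι _).continuous), fun e => hab.not_ge ?_⟩
    exact Scheme.le_iff_specializes.mpr
      ((g.fiberι _).isEmbedding.isInducing.specializes_iff.mp (Scheme.le_iff_specializes.mp e))
  let p' := p.map _ hmono
  have hps : ∀ i, g (p' i) = z := fun i => (g.range_fiberι z).le ⟨p i, rfl⟩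
  obtain ⟨x', hx', hgx'⟩ := g.isClosedMap.specializingMap
    (show g p'.head ⤳ c from (hps 0).symm ▸ specializes_iff_mem_closure.2 hc)
  have h1 : x' < p'.head := lt_iff_le_not_ge.mpr ⟨Scheme.le_iff_specializes.mpr hx', fun e => hcz ?_⟩
  swap
  · have h2 := ((Scheme.le_iff_specializes.mp e).map g.continuous)
    rw [hgx', show g p'.head = z from hps 0] at h2
    exact (h2.antisymm (specializes_iff_mem_closure.2 hc)).eq
  have h3 : p'.last < genericPoint W := lt_iff_le_not_ge.mpr
    ⟨Scheme.le_iff_specializes.mpr (genericPoint_specializes _), fun e => hzη ?_⟩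
  swap
  · have h2 := ((Scheme.le_iff_specializes.mp e).map g.continuous)
    rw [show g p'.last = z from hps _, eη] at h2
    exact (h2.antisymm (genericPoint_specializes z)).eq
  have h4 := (Order.LTSeries.length_le_krullDim ((p'.cons x' h1).snoc (genericPoint W) (by simpa using h3))).trans hX
  simp [p'] at h4
  have h5 : p.length + 1 + 1 ≤ 2 := by exact_mod_cast h4
  exact_mod_cast (show p.length ≤ 0 by omega)

/-- `R^i g_*` of a quasi-coherent module is supported at closed points for `i ≥ 1`. -/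
theorem isClosed_of_nontrivial_stalk_Rpush [CompactSpace Z] [HasInjectiveResolutions W.Modules]
    (hbir : ∃ U : Z.Opens, (U : Set Z).Nonempty ∧ IsIso (g ∣_ U)) (hW : topologicalKrullDim W ≤ 2)
    (M : W.Modules) [M.IsQuasicoherent] (i : ℕ) (hi : 1 ≤ i) {z : Z}
    (hne : Nontrivial (((Coh.Rpush g i).obj M).presheaf.stalk z)) : IsClosed ({z} : Set Z) := by
  by_contra hz
  haveI : Coh.IsQCoh M := ‹M.IsQuasicoherent›
  have h0 := Groth.Agent.S7411.result g z 0 (dim_fiber_le_zero_of_not_isClosed g hbir hW hz) M i hi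
  obtain ⟨e⟩ := Cohom.nonempty_homology_iso_RpushAb g (Cohom.FlRes.ofInjective (injectiveResolution M)) i
  let e' : Coh.toAb ((Coh.Rpush g i).obj M) ≅ (Coh.RpushAb g i).obj (Coh.toAb M) :=
    (SheafOfModules.toSheaf Z.ringCatSheaf).mapIso (Cohom.rpushIso g M i) ≪≫ e
  haveI : Subsingleton ↑((TopCat.Presheaf.stalkFunctor AddCommGrpCat.{u} z).obj
      ((sheafToPresheaf _ _).obj ((Coh.RpushAb g i).obj (Coh.toAb M)))) := AddCommGrpCat.subsingleton_of_isZero h0
  have h1 : Subsingleton (((Coh.Rpush g i).obj M).presheaf.stalk z) :=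
    ((TopCat.Presheaf.stalkFunctor AddCommGrpCat.{u} z).mapIso ((sheafToPresheaf _ _).mapIso e')).addCommGroupIsoToAddEquiv.toEquiv.subsingleton
  exact not_subsingleton_iff_nontrivial.2 hne h1

end GrothLib.RatSing29
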