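import Groth.Agent.Lib.FormalFn.Push

/-!
# Cohomology of acyclic direct images
-/

universe u

set_option linter.all false
set_option backward.isDefEq.respectTransparency false

open CategoryTheory CategoryTheory.Limits AlgebraicGeometry Opposite TopologicalSpace Abelian

noncomputable section

namespace GrothLib.RatSing29

variable {A : Type u} [CommRing A] {X W : Scheme.{u}} [X.Over (Spec (CommRingCat.of A))]
  [W.Over (Spec (CommRingCat.of A))] (i : W ⟶ X)
  (hi : (W ↘ Spec (CommRingCat.of A)) = i ≫ (X ↘ Spec (CommRingCat.of A)))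

include hi in
/-- `H^p(W, G) = H^p(X, i_* G)` linearly, for `G` acyclic over the affine opens of the target. -/
theorem nonempty_push_linearEquiv (G : W.Modules)
    (hac : Cohom.AcyclicOn i.base X.affineOpens (Coh.toAb G)) (p : ℕ) :
    Nonempty (Coh.HH W G p ≃ₗ[A] Coh.HH X ((Scheme.Modules.pushforward i).obj G) p) := by
  obtain ⟨c⟩ := Cohom.nonempty_comparison_pushFun i.base X.isBasis_affineOpens (⊤ : X.Opens) p
  let e : Coh.HH W G p ≃+ Coh.HH X ((Scheme.Modules.pushforward i).obj G) p :=
    (Cohom.HEquivTop (Coh.toAb G) p).trans ((c.equiv (Coh.toAb G) hac).trans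
      (Cohom.HEquivTop (Coh.toAb ((Scheme.Modules.pushforward i).obj G)) p).symm)
  refine ⟨e.toLinearEquiv fun a x => ?_⟩
  let φ' := (SheafOfModules.toSheaf W.ringCatSheaf).map (Formal.smulMod A G a)
  let φ'' := (SheafOfModules.toSheaf X.ringCatSheaf).map
    ((Scheme.Modules.pushforward i).map (Formal.smulMod A G a))
  refine (congrArg e (FormalFn.smul_eq_map G a p x)).trans ?_
  refine Eq.trans ?_ (FormalFn.smul_eq_map ((Scheme.Modules.pushforward i).obj G) a p (e x)).symm
  rw [← FormalFn.push_map_smulMod i hi G a]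
  apply (Cohom.HEquivTop (Coh.toAb ((Scheme.Modules.pushforward i).obj G)) p).injective
  refine (AddEquiv.apply_symm_apply _ _).trans ?_
  refine Eq.trans ?_ (FormalFn.HEquivTop_map φ'' p _).symm
  refine Eq.trans ?_ (congrArg (fun t : Ext.{u} _ _ p => t.comp (Ext.mk₀ φ'') (add_zero p))
    (AddEquiv.apply_symm_apply _ _).symm)
  exact (congrArg (c.equiv (Coh.toAb G) hac) (FormalFn.HEquivTop_map φ' p x)).trans
    (c.naturality φ' hac hac _)

end GrothLib.RatSing29
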