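import Groth.Agent.Lib.RefHull14.Basic
import Groth.Agent.Lib.OX.CompactBdd
import Groth.Agent.Lib.Cohom.LinearLES
import Groth.Agent.Lib.RatSing29.ModifDim

/-!
# Globally generated modules on spaces without second cohomology
-/

universe u

set_option linter.all false
set_option backward.isDefEq.respectTransparency false

open CategoryTheory CategoryTheory.Limits AlgebraicGeometry Opposite TopologicalSpace

noncomputable section

namespace GrothLib.RatSing29

variable {X : Scheme.{u}} [CompactSpace X] [QuasiSeparatedSpace X]

/-- Cohomology of a direct sum vanishes when that of each summand does. -/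
theorem subsingleton_HH_coprod {ι : Type u} (H : ι → X.Modules) (p : ℕ)
    (h : ∀ i, Subsingleton (Coh.HH X (H i) p)) : Subsingleton (Coh.HH X (∐ H) p) := by
  have := OX.preservesColimit_ext_genF (U := (⊤ : X.Opens)) CompactSpace.isCompact_univ
    (isQuasiSeparated_univ_iff.2 inferInstance) p H
  let G := (Abelian.extFunctor.{u} p).obj (op ((OX.genF X).obj ⊤))
  have hc := isColimitOfPreserves G (colimit.isColimit (Discrete.functor H))
  have hi : ∀ i, IsZero (G.obj (H i)) := fun i => by
    obtain ⟨e⟩ := OX.nonempty_ext_genTop_equiv (H i) p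
    haveI := h i
    haveI : Subsingleton ↑(G.obj (H i)) := e.subsingleton
    exact AddCommGrpCat.isZero_of_subsingleton _
  have hz : IsZero (G.obj (∐ H)) := by
    rw [IsZero.iff_id_eq_zero]
    exact hc.hom_ext fun ⟨i⟩ => (hi i).eq_of_src _ _
  obtain ⟨e⟩ := OX.nonempty_ext_genTop_equiv (∐ H) p
  exact @Equiv.subsingleton _ _ e.symm (AddCommGrpCat.subsingleton_of_isZero hz)

variable (A : Type u) [CommRing A] [X.Over (Spec (CommRingCat.of A))]

include A in
/-- First cohomology is right exact on quasi-coherent modules without second cohomology. -/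
theorem subsingleton_H1_of_epi (h2 : ∀ K : X.Modules, K.IsQuasicoherent → Subsingleton (Coh.HH X K 2))
    {M N : X.Modules} [M.IsQuasicoherent] [N.IsQuasicoherent] (g : M ⟶ N) [Epi g]
    (h : Subsingleton (Coh.HH X M 1)) : Subsingleton (Coh.HH X N 1) := by
  have hS : (ShortComplex.mk (kernel.ι g) g (kernel.condition g)).ShortExact :=
    { exact := ShortComplex.exact_of_f_is_kernel _ (kernelIsKernel g) }
  refine subsingleton_of_forall_eq 0 fun y => ?_
  obtain ⟨x, rfl⟩ := (Cohom.exact₃ (A := A) hS 1 y).1
    (@Subsingleton.elim _ (h2 _ (QCoh.isQuasicoherent_kernel g)) _ _)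
  rw [@Subsingleton.elim _ h x 0, map_zero]

include A in
/-- A globally generated quasi-coherent module inherits the vanishing of first cohomology. -/
theorem subsingleton_H1_of_gg (h2 : ∀ K : X.Modules, K.IsQuasicoherent → Subsingleton (Coh.HH X K 2))
    (h : Subsingleton (Coh.HH X (Coh.structureModule X) 1)) {F : X.Modules} [F.IsQuasicoherent]
    (hg : Curv2.IsGloballyGenerated F) : Subsingleton (Coh.HH X F 1) := by
  obtain ⟨ι, p, hp⟩ := hg
  haveI := hp
  haveI := RefHull14.isQuasicoherent_free (X := X) ι
  exact subsingleton_H1_of_epi A h2 p (subsingleton_HH_coprod (fun _ : ι => Coh.structureModule X) 1 fun _ => h)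

end GrothLib.RatSing29
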