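import Groth.Agent.S7299
import Groth.Agent.S2348
import Groth.Agent.Lib.BlowUpProper.Basic
import Groth.Agent.Lib.BlowUp.Rees
import Groth.Agent.Lib.BlowUp.Exists
import Groth.Agent.Lib.NormFib.Birational
import Groth.Agent.Lib.CycNorm12.Sheaf
import Groth.Agent.Lib.RedTotal.Basic
import Mathlib.RingTheory.IntegralClosure.IntegrallyClosed

/-!
# The blow-up of a rational singularity is normal
-/

universe u

set_option linter.all false
set_option backward.isDefEq.respectTransparency false

open CategoryTheory CategoryTheory.Limits AlgebraicGeometry Opposite TopologicalSpace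

noncomputable section

namespace GrothLib.RatSing29

/-- The inverse image of an ideal of the base is generated by the images of its generators. -/
theorem genBy_comap {A : Type u} [CommRing A] {X : Scheme.{u}} [X.Over (Spec (CommRingCat.of A))] {r : ℕ}
    (a : Fin r → A) {J : Ideal A} (hJ : J = Ideal.span (Set.range a)) :
    GenBy ((Curv2.idealSheaf A J).comap (X ↘ Spec (CommRingCat.of A))) a := fun U => by
  refine (GrothLib.BlowUp.ideal_comap_eq_map (X := X) (Curv2.idealSheaf A J)
    (X ↘ Spec (CommRingCat.of A)) ⟨⊤, isAffineOpen_top _⟩ U le_top).trans ?_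
  rw [Curv2.idealSheaf, Scheme.IdealSheafData.ofIdealTop_ideal, hJ]
  simp only [Ideal.map_span, ← Set.range_comp]
  rfl

theorem exists_section_of_local {X : Scheme.{u}} (I : X.IdealSheafData) {x : Γ(X, ⊤)}
    (h : ∀ p : X, ∃ U : X.affineOpens, p ∈ U.1 ∧ X.presheaf.map (homOfLE (le_top : U.1 ≤ ⊤)).op x ∈ I.ideal U) :
    ∀ U : X.affineOpens, X.presheaf.map (homOfLE (le_top : U.1 ≤ ⊤)).op x ∈ I.ideal U := by
  choose V hpV hV using h
  have h0 : I.subschemeι.app ⊤ x = 0 := by
    refine I.subscheme.sheaf.eq_of_locally_eq'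
      (fun p : X => I.subschemeι ⁻¹ᵁ (V p).1) _ (fun p => homOfLE le_top)
      (fun z _ => TopologicalSpace.Opens.mem_iSup.2 ⟨I.subschemeι z, hpV _⟩) _ _ fun p => ?_
    have h3 := hV p
    rw [← Scheme.IdealSheafData.ker_subschemeι_app, RingHom.mem_ker] at h3
    refine Eq.trans ?_ (map_zero _).symm
    exact (ConcreteCategory.congr_hom (I.subschemeι.naturality (homOfLE (le_top : (V p).1 ≤ ⊤)).op) x).symm.trans h3
  intro U
  rw [← Scheme.IdealSheafData.ker_subschemeι_app, RingHom.mem_ker]
  refine (ConcreteCategory.congr_hom (I.subschemeι.naturality (homOfLE (le_top : U.1 ≤ ⊤)).op) x).trans ?_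
  show I.subscheme.presheaf.map _ (I.subschemeι.app ⊤ x) = 0
  rw [h0, map_zero]

/-- Elements integral over a power of the maximal ideal of a rational singularity lie in it. -/
theorem mem_pow_of_integral {A : Type u} [CommRing A] [IsDomain A] [IsLocalRing A] [IsNoetherianRing A]
    [IsIntegrallyClosed A] (hN : CAlg.IsNagata A) (hdim : ringKrullDim A = 2) (hA : Curv2.IsRationalSing A)
    (Y : Scheme.{u}) (f : Y ⟶ Spec (CommRingCat.of A)) [IsProper f] [IsIntegral Y] (hYn : Pi1.IsNormalScheme Y)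
    (hbir : ∃ U : (Spec (CommRingCat.of A)).Opens, (U : Set (Spec (CommRingCat.of A))).Nonempty ∧ IsIso (f ∣_ U))
    (hE : _root_.BlowUp.IsEffCartierIdeal ((Curv2.idealSheaf A (IsLocalRing.maximalIdeal A)).comap f))
    {N k : ℕ} {b : A} (c : ℕ → A) (hc : ∀ i < k, c i ∈ IsLocalRing.maximalIdeal A ^ (N * (k - i)))
    (he : b ^ k + ∑ i ∈ Finset.range k, c i * b ^ i = 0) : b ∈ IsLocalRing.maximalIdeal A ^ N := by
  letI : Y.Over (Spec (CommRingCat.of A)) := ⟨f⟩
  set I := (Curv2.idealSheaf A (IsLocalRing.maximalIdeal A)).comap f with hIdef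
  have hmem := fun n => (Groth.Agent.S7299.result A hN hdim hA Y f hYn hbir hE n).2
  refine (hmem N b).1 fun U => ?_
  refine exists_section_of_local (I ^ N) (x := Coh.toGlobal f b) (fun p => ?_) U
  obtain ⟨V, hpV, t, ht, hV⟩ := hE p
  refine ⟨V, hpV, ?_⟩
  haveI : Nonempty V.1 := ⟨⟨p, hpV⟩⟩
  haveI := CycNorm12.isIntegrallyClosed_sections hYn V.2
  let R := Γ(Y, V.1)
  let φ : A →+* R := (Y.presheaf.map (homOfLE (le_top : V.1 ≤ ⊤)).op).hom.comp (Coh.toGlobal f)
  have hd : ∀ i, ∃ d : R, i < k → d * t ^ (N * (k - i)) = φ (c i) := fun i => by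
    by_cases hi : i < k
    · have h1 := (hmem (N * (k - i)) (c i)).2 (hc i hi) V
      rw [ideal_pow_eq, hV, Ideal.span_singleton_pow, Ideal.mem_span_singleton'] at h1
      obtain ⟨d, hd⟩ := h1
      exact ⟨d, fun _ => hd⟩
    · exact ⟨0, fun h => absurd h hi⟩
  choose d hd using hd
  show φ b ∈ (I ^ N).ideal V
  rw [ideal_pow_eq, hV, Ideal.span_singleton_pow, Ideal.mem_span_singleton']
  let K := FractionRing R
  have ht0 : algebraMap R K t ≠ 0 :=
    (map_ne_zero_iff _ (IsFractionRing.injective R K)).2 (nonZeroDivisors.ne_zero ht)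
  let y : K := algebraMap R K (φ b) / algebraMap R K t ^ N
  have hy : y ^ k + ∑ i ∈ Finset.range k, algebraMap R K (d i) * y ^ i = 0 := by
    have h1 : (algebraMap R K t ^ N) ^ k * (y ^ k + ∑ i ∈ Finset.range k, algebraMap R K (d i) * y ^ i) =
        algebraMap R K (φ (b ^ k + ∑ i ∈ Finset.range k, c i * b ^ i)) := by
      have hy' : algebraMap R K t ^ N * y = algebraMap R K (φ b) := mul_div_cancel₀ _ (pow_ne_zero _ ht0)
      rw [mul_add, Finset.mul_sum, map_add, map_add, map_sum, map_sum, map_pow, map_pow, ← hy', mul_pow]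
      congr 1
      refine Finset.sum_congr rfl fun i hi => ?_
      have hik := Finset.mem_range.1 hi
      rw [map_mul, map_mul, map_pow, map_pow, ← hd i hik, map_mul, map_pow, ← hy', pow_mul,
        mul_pow (algebraMap R K t ^ N) y i]
      have e : (algebraMap R K t ^ N) ^ k = (algebraMap R K t ^ N) ^ (k - i) * (algebraMap R K t ^ N) ^ i := by
        rw [← pow_add, Nat.sub_add_cancel hik.le]
      rw [e]
      ring
    rw [he, map_zero, map_zero] at h1
    exact (mul_eq_zero.1 h1).resolve_left (pow_ne_zero _ (pow_ne_zero _ ht0))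
  have hint : _root_.IsIntegral R y := by
    refine ⟨Polynomial.X ^ k + ∑ i ∈ Finset.range k, Polynomial.C (d i) * Polynomial.X ^ i, ?_, ?_⟩
    · refine Polynomial.monic_X_pow_add ((Polynomial.degree_lt_iff_coeff_zero _ _).2 fun m hm => ?_)
      simp only [Polynomial.finsetSum_coeff, Polynomial.coeff_C_mul_X_pow]
      exact Finset.sum_eq_zero fun i hi => if_neg (by have := Finset.mem_range.1 hi; omega)
    · simpa [Polynomial.eval₂_add, Polynomial.eval₂_finsetSum] using hy
  obtain ⟨z, hz⟩ := (isIntegrallyClosed_iff K).1 inferInstance hint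
  refine ⟨z, IsFractionRing.injective R K ?_⟩
  rw [map_mul, hz, map_pow, div_mul_cancel₀ _ (pow_ne_zero _ ht0)]

open GrothLib.BlowUp in
/-- The affine blow-up algebra is integrally closed when the powers of the ideal are. -/
theorem isIntegrallyClosed_affineAlgebra {A : Type u} [CommRing A] [IsDomain A] [IsIntegrallyClosed A]
    {I : Ideal A} {a : A} (ha : a ∈ I) (ha0 : a ≠ 0)
    (hI : ∀ {N k : ℕ} {b : A} (c : ℕ → A), (∀ i < k, c i ∈ I ^ (N * (k - i))) →
      b ^ k + ∑ i ∈ Finset.range k, c i * b ^ i = 0 → b ∈ I ^ N) :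
    IsIntegrallyClosed ↥(_root_.BlowUp.affineAlgebra A I a) := by
  let S := Localization.Away a
  let R := _root_.BlowUp.affineAlgebra A I a
  have hle : Submonoid.powers a ≤ nonZeroDivisors A :=
    Submonoid.powers_le.2 (mem_nonZeroDivisors_of_ne_zero ha0)
  haveI : IsDomain S := IsLocalization.isDomain_localization hle
  haveI : IsIntegrallyClosed S := isIntegrallyClosed_of_isLocalization S (Submonoid.powers a) hle
  have hinj : Function.Injective (algebraMap A S) := IsLocalization.injective S hle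
  haveI : FaithfulSMul R S := (faithfulSMul_iff_algebraMap_injective _ _).2 Subtype.val_injective
  have hu : IsUnit (algebraMap A S a) := IsLocalization.Away.algebraMap_isUnit a
  have hrep : ∀ z : R, ∃ M, ∀ M' ≥ M, ∃ x ∈ I ^ M', (z : S) * algebraMap A S a ^ M' = algebraMap A S x := by
    have up : ∀ {z : S} {M : ℕ} {x : A}, x ∈ I ^ M → z * algebraMap A S a ^ M = algebraMap A S x →
        ∀ M' ≥ M, ∃ x' ∈ I ^ M', z * algebraMap A S a ^ M' = algebraMap A S x' := by
      intro z M x hx hz M' hM'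
      obtain ⟨e, rfl⟩ := Nat.exists_eq_add_of_le hM'
      refine ⟨x * a ^ e, pow_add I M e ▸ Ideal.mul_mem_mul hx (Ideal.pow_mem_pow ha e), ?_⟩
      rw [pow_add, ← mul_assoc, hz, map_mul, map_pow]
    rintro ⟨z, hz⟩
    induction hz using Algebra.adjoin_induction with
    | mem z hz =>
      obtain ⟨x, hx, rfl⟩ := hz
      exact ⟨1, up (M := 1) (by rwa [pow_one]) (by rw [pow_one]; exact IsLocalization.mk'_spec S x ⟨a, Submonoid.mem_powers a⟩)⟩
    | algebraMap r => exact ⟨0, up (M := 0) (x := r) (by simp) (by simp; rfl)⟩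
    | add x y hx hy e1 e2 =>
      obtain ⟨M, hM⟩ := e1; obtain ⟨M₂, hM₂⟩ := e2
      refine ⟨max M M₂, fun M' hM' => ?_⟩
      obtain ⟨p, hp, hp'⟩ := hM M' (le_trans (le_max_left _ _) hM')
      obtain ⟨q, hq, hq'⟩ := hM₂ M' (le_trans (le_max_right _ _) hM')
      exact ⟨p + q, add_mem hp hq, by rw [map_add, ← hp', ← hq', add_mul]⟩
    | mul x y hx hy e1 e2 =>
      obtain ⟨M, hM⟩ := e1; obtain ⟨M₂, hM₂⟩ := e2
      obtain ⟨p, hp, hp'⟩ := hM M le_rfl
      obtain ⟨q, hq, hq'⟩ := hM₂ M₂ le_rfl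
      refine ⟨M + M₂, up (x := p * q) (pow_add I M M₂ ▸ Ideal.mul_mem_mul hp hq) ?_⟩
      rw [map_mul, ← hp', ← hq', pow_add]
      ring
  haveI : IsIntegrallyClosedIn R S := by
    refine isIntegrallyClosedIn_iff.2 ⟨Subtype.val_injective, fun {z} hz => ?_⟩
    obtain ⟨p, hp, hpz⟩ := hz
    obtain ⟨e, x₀, hx₀⟩ : ∃ (e : ℕ) (x₀ : A), z * algebraMap A S a ^ e = algebraMap A S x₀ := by
      obtain ⟨⟨x₀, ⟨_, e, rfl⟩⟩, h⟩ := IsLocalization.surj (Submonoid.powers a) z
      exact ⟨e, x₀, by simpa using h⟩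
    choose M hM using fun i => hrep (p.coeff i)
    let N := e + (Finset.range p.natDegree).sup M
    have hu' : ∀ i, ∃ u, i < p.natDegree → u ∈ I ^ (N * (p.natDegree - i)) ∧
        (p.coeff i : S) * algebraMap A S a ^ (N * (p.natDegree - i)) = algebraMap A S u := fun i => by
      by_cases hi : i < p.natDegree
      · obtain ⟨u, hu, hu'⟩ := hM i (N * (p.natDegree - i))
          (((Finset.le_sup (Finset.mem_range.2 hi)).trans (Nat.le_add_left _ _)).trans
            (Nat.le_mul_of_pos_right _ (Nat.sub_pos_of_lt hi)))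
        exact ⟨u, fun _ => ⟨hu, hu'⟩⟩
      · exact ⟨0, fun h => absurd h hi⟩
    choose u hu' using hu'
    let b := x₀ * a ^ (N - e)
    have hb : z * algebraMap A S a ^ N = algebraMap A S b := by
      rw [map_mul, ← hx₀, map_pow, mul_assoc, ← pow_add, Nat.add_sub_cancel' (Nat.le_add_right e _)]
    have hmem : b ∈ I ^ N := hI u (fun i hi => (hu' i hi).1) (by
      apply hinj
      rw [map_add, map_sum, map_pow, map_zero, ← hb]
      have h1 : p.eval₂ (algebraMap R S) z * algebraMap A S a ^ (N * p.natDegree) = 0 := by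
        rw [hpz, zero_mul]
      rw [Polynomial.eval₂_eq_sum_range, Finset.sum_range_succ, show p.coeff p.natDegree = 1 from hp,
        map_one, one_mul] at h1
      rw [← h1, add_mul, Finset.sum_mul, mul_pow, ← pow_mul, add_comm]
      congr 1
      refine Finset.sum_congr rfl fun i hi => ?_
      have hik := Finset.mem_range.1 hi
      rw [map_mul, map_pow, ← hb, ← (hu' i hik).2, mul_pow, ← pow_mul]
      show _ = (p.coeff i : S) * z ^ i * _
      have e1 : N * p.natDegree = N * (p.natDegree - i) + N * i := by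
        rw [← Nat.mul_add, Nat.sub_add_cancel hik.le]
      rw [e1, pow_add]
      ring)
    refine ⟨⟨_, mk'_mem_of_mem_pow a N hmem⟩, ?_⟩
    show IsLocalization.mk' S b _ = z
    rw [IsLocalization.mk'_eq_iff_eq_mul, ← hb]
    simp
  exact IsIntegrallyClosed.of_isIntegrallyClosed_of_isIntegrallyClosedIn R S

/-- A normal modification on which the maximal ideal becomes invertible. -/
theorem exists_normal_modification {A : Type u} [CommRing A] [IsDomain A] [IsLocalRing A] [IsNoetherianRing A]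
    (hN : CAlg.IsNagata A) (hne : IsLocalRing.maximalIdeal A ≠ ⊥) :
    ∃ (Y : Scheme.{u}) (f : Y ⟶ Spec (CommRingCat.of A)) (_ : IsProper f) (_ : IsIntegral Y),
      Pi1.IsNormalScheme Y ∧
      (∃ U : (Spec (CommRingCat.of A)).Opens, (U : Set (Spec (CommRingCat.of A))).Nonempty ∧ IsIso (f ∣_ U)) ∧
      _root_.BlowUp.IsEffCartierIdeal ((Curv2.idealSheaf A (IsLocalRing.maximalIdeal A)).comap f) := by
  let S := Spec (CommRingCat.of A)
  let J := Curv2.idealSheaf A (IsLocalRing.maximalIdeal A)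
  let X := Proj (Rees.deg (reesAlgebra (IsLocalRing.maximalIdeal A)))
  let b : X ⟶ S := X ↘ S
  have hb : _root_.BlowUp.IsBlowUp b J := GrothLib.BlowUp.isBlowUp_proj (IsLocalRing.maximalIdeal A)
  obtain ⟨t, ht, ht0⟩ := Submodule.exists_mem_ne_zero_of_ne_bot hne
  have hJne : J ≠ ⊥ := fun h => ht0 (by
    have h1 : (Scheme.ΓSpecIso (CommRingCat.of A)).inv t ∈ J.ideal ⟨⊤, isAffineOpen_top _⟩ := by
      rw [show J.ideal ⟨⊤, isAffineOpen_top _⟩ = _ from GrothLib.BlowUp.ideal_idealSheaf_top _]
      exact Ideal.mem_map_of_mem _ ht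
    rw [h, Scheme.IdealSheafData.ideal_bot] at h1
    exact (ConcreteCategory.bijective_of_isIso (Scheme.ΓSpecIso (CommRingCat.of A)).inv).1
      ((show (Scheme.ΓSpecIso (CommRingCat.of A)).inv t = 0 by simpa using h1).trans (map_zero _).symm))
  obtain ⟨hXi, hgen, -⟩ := Groth.Agent.S2348.result J hJne b hb
  haveI := hXi
  haveI : IsProper b := GrothLib.BlowUpProper.isProper_of_isBlowUp hb
  haveI : IsLocallyNoetherian X := LocallyOfFiniteType.isLocallyNoetherian b
  haveI : CompactSpace X := QuasiCompact.compactSpace_of_compactSpace b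
  haveI : IsNoetherian X := {}
  haveI : QuasiCompact (X.fromSpecStalk (genericPoint X)) := inferInstance
  haveI : QuasiSeparated (X.fromSpecStalk (genericPoint X)) := inferInstance
  have hNS : ∀ U : S.affineOpens, CAlg.IsNagata Γ(S, U.1) := fun U => by
    have h := LocallyOfFiniteType.finiteType_appLE (𝟙 S) (isAffineOpen_top S) U.2 le_top
    letI := ((Scheme.Hom.appLE (𝟙 S) ⊤ U.1 le_top).hom.comp (Scheme.ΓSpecIso (CommRingCat.of A)).inv.hom).toAlgebra
    haveI : Algebra.FiniteType A Γ(S, U.1) :=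
      RingHom.FiniteType.comp h (RingHom.FiniteType.of_surjective _
        (ConcreteCategory.bijective_of_isIso (Scheme.ΓSpecIso (CommRingCat.of A)).inv).2)
    exact GrothLib.N2.isNagata_of_finiteType hN _
  have hfin := GrothLib.NormFib.isFinite_of_nagata (GrothLib.BlowUpProper.isNagata_of_locallyOfFiniteType b hNS)
  haveI := hfin
  let ν := Curv2.normalizationι X
  obtain ⟨V', hV', hV'i⟩ := GrothLib.NormFib.exists_isIso_of_finite hfin
  let Y := Curv2.normalization X
  have hνη : ν (genericPoint Y) = genericPoint X := by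
    haveI := hV'i
    obtain ⟨x, hx⟩ := hV'
    haveI : IsOpenImmersion ((ν ⁻¹ᵁ V').ι ≫ ν) := by rw [← morphismRestrict_ι]; infer_instance
    obtain ⟨e, -⟩ := Birat.birational_of_openImmersion ν
      ⟨ν ⁻¹ᵁ V', ⟨_, ((ν ∣_ V').homeomorph.symm ⟨x, hx⟩).2⟩, ‹_›⟩
    exact e
  refine ⟨Y, ν ≫ b, inferInstance, inferInstance, GrothLib.NormFib.isNormalScheme_normalization, ?_, ?_⟩
  · let V : S.Opens := J.support.compl
    have hVi : IsIso (b ∣_ V) := GrothLib.BlowUp.isIso_off_center hb
    have hηV : genericPoint S ∈ V := by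
      intro h
      have h1 : (J.support : Set S) = Set.univ := Set.eq_univ_of_forall fun s =>
        (genericPoint_specializes s).mem_closed J.support.isClosed h
      simp only [J, Curv2.idealSheaf] at h1
      rw [Scheme.IdealSheafData.coe_support_ofIdealTop, Spec_zeroLocus, ← Ideal.coe_comap,
        Ideal.comap_map_of_bijective _ (ConcreteCategory.bijective_of_isIso (Scheme.ΓSpecIso (CommRingCat.of A)).inv)] at h1
      exact ht0 (by simpa using (h1.ge (Set.mem_univ (⟨⊥, Ideal.isPrime_bot⟩ : PrimeSpectrum A)) :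
        _ ∈ PrimeSpectrum.zeroLocus _) ht)
    haveI := hVi
    let O : S.Opens := V ⊓ ⟨(b '' (V' : Set X)ᶜ)ᶜ, (b.isClosedMap _ V'.isOpen.isClosed_compl).isOpen_compl⟩
    have hO : genericPoint S ∈ O := ⟨hηV, by
      rintro ⟨x, hx, hxe⟩
      refine hx ?_
      have : x = genericPoint X := ArSurf29.injective_over_open b V (hxe ▸ hηV) (hxe.trans hgen.symm)
      rw [this]
      exact (genericPoint_specializes hV'.some).mem_open V'.isOpen hV'.some_mem⟩
    refine ⟨O, ⟨_, hO⟩, ?_⟩
    haveI : IsIso (b ∣_ O) := GrothLib.Nagata6.isIso_restrict_of_le b V O inf_le_left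
    haveI : IsIso (ν ∣_ (b ⁻¹ᵁ O)) := by
      haveI := hV'i
      exact GrothLib.Nagata6.isIso_restrict_of_le ν V' _ fun x hx => not_not.1 fun h => hx.2 ⟨x, h, rfl⟩
    rw [morphismRestrict_comp]
    infer_instance
  · intro y
    letI : X.Over S := ⟨b⟩
    obtain ⟨U, hxU, s, hs, hU⟩ := hb.1 (ν y)
    obtain ⟨W, hyW, hWU⟩ := GrothLib.BlowUp.exists_affine_mem_le (W := ν ⁻¹ᵁ U.1) hxU
    refine ⟨W, hyW, ν.appLE U.1 W.1 hWU s, ?_, ?_⟩
    · haveI : Nonempty W.1 := ⟨⟨y, hyW⟩⟩
      refine mem_nonZeroDivisors_of_ne_zero fun h0 => ?_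
      obtain ⟨r, a, ha⟩ := Submodule.fg_iff_exists_fin_generating_family.1 (IsNoetherian.noetherian (IsLocalRing.maximalIdeal A))
      letI : Y.Over S := ⟨ν ≫ b⟩
      have hgY := genBy_comap (X := Y) a ha.symm W
      have hmapU : ((Curv2.idealSheaf A (IsLocalRing.maximalIdeal A)).comap (ν ≫ b)).ideal W =
          (Ideal.span {s}).map (ν.appLE U.1 W.1 hWU).hom := by
        rw [Scheme.IdealSheafData.comap_comp, GrothLib.BlowUp.ideal_comap_eq_map _ ν U W hWU, hU]
      rw [Ideal.map_span, Set.image_singleton] at hmapU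
      rw [show (ν.appLE U.1 W.1 hWU).hom s = 0 from h0, Ideal.span_singleton_eq_bot.2 rfl] at hmapU
      have hall : ∀ i, a i = 0 := fun i => by
        have h1 : gOn Y (a i) W.1 = 0 := by
          have h2 : gOn Y (a i) W.1 ∈ Ideal.span (Set.range fun i => gOn Y (a i) W.1) := Ideal.subset_span ⟨i, rfl⟩
          rw [← hgY] at h2
          exact (Submodule.mem_bot _).1 (hmapU.le h2)
        haveI : Nonempty ((⊤ : Y.Opens) : Scheme.{u}) := ⟨⟨y, trivial⟩⟩
        have h3 : Coh.toGlobal (ν ≫ b) (a i) = 0 :=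
          map_injective_of_isIntegral Y (homOfLE (le_top : W.1 ≤ ⊤)) (h1.trans (map_zero _).symm)
        by_contra hne
        have hmap : (ν ≫ b) (genericPoint Y) = genericPoint S := by
          rw [Scheme.Hom.comp_apply, hνη, hgen]
        have h4 : genericPoint Y ∉ Y.basicOpen (Coh.toGlobal (ν ≫ b) (a i)) := by
          rw [h3, Scheme.basicOpen_zero]
          exact fun h => h
        apply h4
        show genericPoint Y ∈ Y.basicOpen ((ν ≫ b).appTop _)
        rw [← Scheme.preimage_basicOpen_top]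
        show (ν ≫ b) (genericPoint Y) ∈ S.basicOpen _
        rw [hmap, basicOpen_eq_of_affine' (R := CommRingCat.of A)]
        show genericPoint S ∈ PrimeSpectrum.basicOpen _
        rw [PrimeSpectrum.mem_basicOpen, genericPoint_eq_bot_of_affine]
        simpa using hne
      refine ht0 ?_
      rw [← ha] at ht
      obtain ⟨cf, rfl⟩ := Ideal.mem_span_range_iff_exists_fun.1 ht
      exact Finset.sum_eq_zero fun i _ => by rw [hall i, mul_zero]
    · rw [Scheme.IdealSheafData.comap_comp, GrothLib.BlowUp.ideal_comap_eq_map _ ν U W hWU, hU, Ideal.map_span,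
        Set.image_singleton]

end GrothLib.RatSing29
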