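import Groth.Agent.Lib.RatSing29.GraphModel
import Groth.Prelude.Def_ModelsG

/-!
# Models are compared by the valuations of their fibre components
-/

universe u

set_option linter.all false
set_option backward.isDefEq.respectTransparency false

open CategoryTheory CategoryTheory.Limits AlgebraicGeometry Opposite TopologicalSpace

noncomputable section

namespace GrothLib.RatSing29

/-- The local ring at a non-closed point, other than the generic one, of a normal surface is a DVR. -/
theorem isDiscreteValuationRing_stalk_of_curve {X : Scheme.{u}} [IsIntegral X] [IsLocallyNoetherian X]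
    (hd : topologicalKrullDim X ≤ 2) {w c : X} (hwc : w ⤳ c) (hne : w ≠ c) (hw : w ≠ genericPoint X)
    (hN : IsIntegrallyClosed (X.presheaf.stalk w)) : IsDiscreteValuationRing (X.presheaf.stalk w) := by
  have hco : Order.coheight w = 1 := by
    refine le_antisymm ?_ ?_
    · refine (Order.coheight_le_coe_iff (n := 1)).2 fun y hy => ?_
      have hyw : y ⤳ w := Scheme.le_iff_specializes.mp hy.le
      have hne' : y ≠ w := fun h => hy.ne h.symm
      have hyη : y = genericPoint X := by
        by_contra h
        exact GrothLib.ArSurf29.no_chain_four hd (genericPoint_specializes y) hyw hwc (Ne.symm h) hne' hne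
      have hmax : IsMax y := fun z hz => by
        subst hyη
        exact Scheme.le_iff_specializes.mpr (genericPoint_specializes z)
      rw [Order.coheight_eq_zero.2 hmax]
      exact_mod_cast Nat.one_pos
    · rw [ENat.one_le_iff_ne_zero, ne_eq, Order.coheight_eq_zero]
      intro h
      refine hw ?_
      have h1 : genericPoint X ⤳ w := genericPoint_specializes w
      exact ((Scheme.le_iff_specializes.mp (h (Scheme.le_iff_specializes.mpr h1))).antisymm h1).eq
  have h1 : ringKrullDim (X.presheaf.stalk w) = 1 := by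
    rw [ringKrullDim_stalk_eq_coheight, hco]; rfl
  have : Ring.KrullDimLE 1 (X.presheaf.stalk w) := Ring.krullDimLE_iff.2 h1.le
  have : Ring.DimensionLEOne (X.presheaf.stalk w) := ⟨fun hp hp' =>
    Ideal.IsPrime.isMaximal_of_ne_bot hp' hp⟩
  have hnf : ¬ IsField (X.presheaf.stalk w) := fun hF => by
    rw [ringKrullDim_eq_zero_of_isField hF] at h1
    exact zero_ne_one h1
  have : IsDedekindDomain (X.presheaf.stalk w) := {}
  exact ((IsDiscreteValuationRing.TFAE _ hnf).out 0 2).2 this

/-- A local ring dominating a DVR inside the field of functions is equal to it. -/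
theorem range_eq_of_dominates {B O K : Type u} [CommRing B] [IsDomain B] [IsDiscreteValuationRing B] [CommRing O]
    [IsLocalRing O] [Field K] (β : B →+* K) (o : O →+* K) (φ : B →+* O) [IsLocalHom φ]
    (hβ : Function.Injective β) (ho : Function.Injective o) (hcomp : ∀ b, o (φ b) = β b)
    (hfrac : ∀ t : K, ∃ a s : B, s ≠ 0 ∧ t * β s = β a) : Set.range β = Set.range o := by
  haveI : IsDomain O := ho.isDomain o
  have hinj : Function.Injective φ := fun a b h => hβ (by rw [← hcomp, h, hcomp])
  have hb := GrothLib.CurvePoints.bijective_of_isDiscreteValuationRing φ hinj fun t => by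
    obtain ⟨a, s, hs, h⟩ := hfrac (o t)
    exact ⟨a, s, hs, ho (by rw [map_mul, hcomp, hcomp, h])⟩
  ext t
  constructor
  · rintro ⟨b, rfl⟩; exact ⟨φ b, hcomp b⟩
  · rintro ⟨s, rfl⟩
    obtain ⟨b, rfl⟩ := hb.2 s
    exact ⟨b, (hcomp b).symm⟩

/-- Fractions in the local ring of a birational scheme. -/
theorem jmap_frac {C Z : Scheme.{u}} [IsIntegral C] [IsIntegral Z] (σ : C ⟶ Z) [IsOpenImmersion σ] {z : Z}
    (h : σ (genericPoint C) ⤳ z) (t : C.functionField) :
    ∃ a s : Z.presheaf.stalk z, s ≠ 0 ∧ t * jmap σ (genericPoint C) h s = jmap σ (genericPoint C) h a := by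
  have hb := ConcreteCategory.bijective_of_isIso (σ.stalkMap (genericPoint C))
  have hη : genericPoint Z ⤳ σ (genericPoint C) := genericPoint_specializes _
  have hinj : Function.Injective (Z.presheaf.stalkSpecializes hη) :=
    GrothLib.MorQ9.injective_stalkSpecializes_generic _
  obtain ⟨T, rfl⟩ := hb.2 t
  obtain ⟨⟨a, s⟩, hs⟩ := IsLocalization.surj (nonZeroDivisors (Z.presheaf.stalk z))
    (Z.presheaf.stalkSpecializes hη T : Z.functionField)
  refine ⟨a, s, nonZeroDivisors.ne_zero s.2, ?_⟩
  simp only [jmap, RingHom.comp_apply]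
  rw [← map_mul]
  refine congrArg _ (hinj ?_)
  rw [map_mul]
  simp only [TopCat.Presheaf.stalkSpecializes_comp_apply]
  exact hs

/-- The non-closed points of the special fibre of a normal model are its generic points. -/
theorem mem_fibreComponents_of_not_isClosed {R : Type u} [CommRing R] [IsDomain R] [IsDiscreteValuationRing R]
    {C : Scheme.{u}} [IsIntegral C] (fC : C ⟶ Spec (CommRingCat.of (FractionRing R)))
    (hC1 : topologicalKrullDim C ≤ 1)
    (WR : Over (Spec (CommRingCat.of R))) [IsIntegral WR.left] (hWn : Pi1.IsNormalScheme WR.left)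
    [IsProper WR.hom] [Flat WR.hom] (iW : C ⟶ WR.left)
    (hiW : IsPullback iW fC WR.hom (Spec.map (CommRingCat.ofHom (algebraMap R (FractionRing R)))))
    {w : WR.left} (hws : w ∈ Models.specialFibreSet R WR) (hwc : ¬ IsClosed ({w} : Set WR.left)) :
    closure ({w} : Set WR.left) ∈ Models.fibreComponents R WR := by
  haveI : IsLocallyNoetherian WR.left := LocallyOfFiniteType.isLocallyNoetherian WR.hom
  haveI : CompactSpace WR.left := QuasiCompact.compactSpace_of_compactSpace WR.hom
  haveI : IsNoetherian WR.left := {}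
  have hdW := dim_le_two_of_normalModel hiW hWn hC1
  obtain ⟨d, hwd, hd⟩ := GrothLib.ArSurf29.exists_isClosed_specialization w
  have hwdne : w ≠ d := fun h => hwc (h ▸ hd)
  refine ⟨⟨isIrreducible_singleton.closure,
    (Models.isClosed_specialFibreSet R WR).closure_subset_iff.2 (Set.singleton_subset_iff.2 hws)⟩, fun T hT hle => ?_⟩
  obtain ⟨s, hs⟩ := QuasiSober.sober hT.1.closure isClosed_closure
  have hs' : s ∈ Models.specialFibreSet R WR :=
    (Models.isClosed_specialFibreSet R WR).closure_subset_iff.2 hT.2 hs.mem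
  have hsw : s ⤳ w := hs.specializes (subset_closure (hle (subset_closure rfl)))
  by_cases hne' : s = w
  · intro t ht
    rw [← hne', hs]
    exact subset_closure ht
  · refine (GrothLib.ArSurf29.no_chain_four hdW (genericPoint_specializes s) hsw hwd ?_ hne' hwdne).elim
    intro hη
    have h1 : WR.hom (iW (genericPoint C)) = IsLocalRing.closedPoint R := by
      have h2 : WR.hom s ⤳ WR.hom (iW (genericPoint C)) := by
        rw [← hη]; exact (genericPoint_specializes _).map WR.hom.continuous
      rw [show WR.hom s = IsLocalRing.closedPoint R from hs'] at h2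
      exact h2.mem_closed (IsLocalRing.isClosed_singleton_closedPoint R) rfl
    exact (GrothLib.ArSurf29.range_generic hiW).le ⟨_, rfl⟩ h1

/-- **Models are compared by the valuations of their fibre components.** -/
theorem exists_hom_of_centered {R : Type u} [CommRing R] [IsDomain R] [IsDiscreteValuationRing R]
    {C : Scheme.{u}} [IsIntegral C] (fC : C ⟶ Spec (CommRingCat.of (FractionRing R))) [IsProper fC]
    (hC1 : topologicalKrullDim C ≤ 1)
    (XR WR : Over (Spec (CommRingCat.of R))) [IsIntegral XR.left] [IsIntegral WR.left]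
    (hXn : Pi1.IsNormalScheme XR.left) (hWn : Pi1.IsNormalScheme WR.left)
    [IsProper XR.hom] [Flat XR.hom] [IsProper WR.hom] [Flat WR.hom]
    (iX : C ⟶ XR.left) (hiX : IsPullback iX fC XR.hom (Spec.map (CommRingCat.ofHom (algebraMap R (FractionRing R)))))
    (iW : C ⟶ WR.left) (hiW : IsPullback iW fC WR.hom (Spec.map (CommRingCat.ofHom (algebraMap R (FractionRing R)))))
    (H : ∀ (ξ : WR.left) (hξ : iW.base (genericPoint C) ⤳ ξ), ξ ∈ Models.specialFibreSet R WR →
      ¬ IsClosed ({ξ} : Set WR.left) →
        ∃ (ξ' : XR.left) (hξ' : iX.base (genericPoint C) ⤳ ξ'),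
          Set.range (jmap iX (genericPoint C) hξ') = Set.range (jmap iW (genericPoint C) hξ)) :
    ∃ φ : XR ⟶ WR, iX ≫ φ.left = iW := by
  let S := Spec (CommRingCat.of R)
  haveI : IsLocallyNoetherian XR.left := LocallyOfFiniteType.isLocallyNoetherian XR.hom
  haveI : CompactSpace XR.left := QuasiCompact.compactSpace_of_compactSpace XR.hom
  haveI : IsNoetherian XR.left := {}
  haveI : IsLocallyNoetherian WR.left := LocallyOfFiniteType.isLocallyNoetherian WR.hom
  haveI : CompactSpace WR.left := QuasiCompact.compactSpace_of_compactSpace WR.hom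
  haveI : IsNoetherian WR.left := {}
  have hdX := dim_le_two_of_normalModel hiX hXn hC1
  have hdW := dim_le_two_of_normalModel hiW hWn hC1
  obtain ⟨Z, hZ, j, σ, hgo, hj, hσo, hσ1, hσ2, hpr1, hpr2, hsq, hU⟩ :=
    exists_graph fC XR.hom WR.hom iX iW hiX hiW.w
  haveI := hZ; haveI := hj; haveI := hgo; haveI := hσo; haveI := hpr1; haveI := hpr2
  haveI : IsOpenImmersion iW := GrothLib.ArSurf29.isOpenImmersion_generic hiW
  let pr1 := j ≫ pullback.fst XR.hom WR.hom
  let pr2 := j ≫ pullback.snd XR.hom WR.hom
  haveI : IsLocallyNoetherian Z := LocallyOfFiniteType.isLocallyNoetherian pr1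
  haveI : CompactSpace Z := QuasiCompact.compactSpace_of_compactSpace pr1
  haveI : IsNoetherian Z := {}
  haveI : XR.left.IsSeparated := ⟨by rw [← terminal.comp_from XR.hom]; infer_instance⟩
  haveI : Z.IsSeparated := ⟨by rw [← terminal.comp_from pr1]; infer_instance⟩
  have hne : ((iX.opensRange : XR.left.Opens) : Set XR.left).Nonempty := ⟨_, ⟨genericPoint C, rfl⟩⟩
  have hZd : topologicalKrullDim Z ≤ 2 := dim_le_of_birational pr1 _ hne hU hdX
  have hηZ : σ (genericPoint C) = genericPoint Z := ((genericPoint_spec C).eq (by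
    have := σ.isOpenEmbedding
    exact genericPoint_spec C)) ▸ (genericPoint_eq_of_isOpenImmersion σ)
  have hclS : ∀ {T : Scheme.{u}} (q : T ⟶ S) [IsProper q] (t : T), IsClosed ({t} : Set T) →
      q t = IsLocalRing.closedPoint R := fun q _ t ht => by
    have h1 := q.isClosedMap _ ht
    rw [Set.image_singleton] at h1
    exact ((IsLocalRing.specializes_closedPoint (q t)).mem_closed h1 rfl).symm
  have hnoc : GrothLib.ExcP1.curvesOver pr1 = ∅ := by
    refine Set.eq_empty_iff_forall_notMem.2 fun v hv => ?_
    haveI := hU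
    let x := pr1 v
    have hx : IsClosed ({x} : Set XR.left) := hv.2
    have hxs : XR.hom x = IsLocalRing.closedPoint R := hclS XR.hom x hx
    obtain ⟨c, hvc, hc⟩ := GrothLib.ArSurf29.exists_isClosed_specialization v
    have hvne : v ≠ c := fun h => hv.1 (h ▸ hc)
    have hcx : pr1 c = x := ((hvc.map pr1.continuous).mem_closed hx rfl)
    have hws : WR.hom (pr2 v) = IsLocalRing.closedPoint R := by
      rw [← hxs, ← Scheme.Hom.comp_apply, ← Scheme.Hom.comp_apply]
      simp only [pr1, pr2, Category.assoc, pullback.condition]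
    -- the image in `WR` is not closed
    have hwc : ¬ IsClosed ({pr2 v} : Set WR.left) := by
      intro hw
      have hcw : pr2 c = pr2 v := ((hvc.map pr2.continuous).mem_closed hw rfl)
      let kx := XR.left.fromSpecResidueField x
      haveI : IsClosedImmersion kx := IsClosedImmersion.of_isPreimmersion _ (by
        rw [Scheme.range_fromSpecResidueField]; exact hx)
      haveI : IsFinite (kx ≫ XR.hom) :=
        IsFinite.iff_isProper_and_isAffineHom.2 ⟨inferInstance, inferInstance⟩
      let P := pullback (pullback.fst XR.hom WR.hom) kx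
      let ι : P ⟶ pullback XR.hom WR.hom := pullback.fst (pullback.fst XR.hom WR.hom) kx
      haveI : IsClosedImmersion ι := MorphismProperty.pullback_fst _ _ ‹IsClosedImmersion kx›
      let sn : P ⟶ WR.left := ι ≫ pullback.snd XR.hom WR.hom
      haveI : IsFinite sn := MorphismProperty.of_isPullback
        ((IsPullback.of_hasPullback (pullback.fst XR.hom WR.hom) kx).paste_horiz
          (IsPullback.of_hasPullback XR.hom WR.hom).flip).flip ‹IsFinite (kx ≫ XR.hom)›
      have hι : Set.range ι = pullback.fst XR.hom WR.hom ⁻¹' {x} := by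
        rw [Scheme.Pullback.range_fst, Scheme.range_fromSpecResidueField]
      obtain ⟨v', hv'⟩ : j v ∈ Set.range ι := by
        rw [hι]; exact rfl
      obtain ⟨c', hc'⟩ : j c ∈ Set.range ι := by
        rw [hι]
        show pullback.fst XR.hom WR.hom (j c) = x
        rw [← hcx]; rfl
      have hsp : v' ⤳ c' := ι.isEmbedding.isInducing.specializes_iff.1 (by rw [hv', hc']; exact hvc.map j.continuous)
      have hs : sn v' = sn c' := by
        show pullback.snd XR.hom WR.hom (ι v') = pullback.snd XR.hom WR.hom (ι c')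
        rw [hv', hc']
        exact hcw.symm
      haveI : DiscreteTopology ↥(sn ⁻¹' {sn v'}) := isDiscrete_iff_discreteTopology.1 (sn.isDiscrete_preimage_singleton _)
      have heq : (⟨v', rfl⟩ : ↥(sn ⁻¹' {sn v'})) = ⟨c', hs.symm⟩ :=
        ((subtype_specializes_iff (⟨v', rfl⟩ : ↥(sn ⁻¹' {sn v'})) ⟨c', hs.symm⟩).2 hsp).eq
      refine hvne (j.isClosedEmbedding.injective ?_)
      rw [← hv', ← hc']
      exact congrArg (fun t : ↥(sn ⁻¹' {sn v'}) => ι t.1) heq
    have hwη : pr2 v ≠ genericPoint WR.left := by
      intro h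
      have h1 : WR.hom (iW (genericPoint C)) = IsLocalRing.closedPoint R := by
        have h2 : WR.hom (pr2 v) ⤳ WR.hom (iW (genericPoint C)) := by
          rw [h]; exact (genericPoint_specializes _).map WR.hom.continuous
        rw [hws] at h2
        exact h2.mem_closed (IsLocalRing.isClosed_singleton_closedPoint R) rfl
      exact (GrothLib.ArSurf29.range_generic hiW).le ⟨_, rfl⟩ h1
    obtain ⟨d, hwd, hd⟩ := GrothLib.ArSurf29.exists_isClosed_specialization (pr2 v)
    have hwdne : pr2 v ≠ d := fun h => hwc (h ▸ hd)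
    haveI : IsDiscreteValuationRing (WR.left.presheaf.stalk (pr2 v)) :=
      isDiscreteValuationRing_stalk_of_curve hdW hwd hwdne hwη (hWn _).2
    haveI : IsDomain (WR.left.presheaf.stalk (pr2 v)) := (hWn _).1
    have hσv : σ (genericPoint C) ⤳ v := hηZ ▸ genericPoint_specializes v
    have hσc : σ (genericPoint C) ⤳ c := hηZ ▸ genericPoint_specializes c
    have hWv : iW (genericPoint C) ⤳ pr2 v := by
      rw [← hσ2]; exact hσv.map pr2.continuous
    have hXv : iX (genericPoint C) ⤳ x := by
      rw [← hσ1]; exact hσv.map pr1.continuous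
    have hXc : iX (genericPoint C) ⤳ pr1 c := by
      rw [← hσ1]; exact hσc.map pr1.continuous
    have h2 : Set.range (jmap iW (genericPoint C) hWv) = Set.range (jmap σ (genericPoint C) hσv) :=
      range_eq_of_dominates (K := C.functionField) _ _ (pr2.stalkMap v).hom (jmap_injective iW _) (jmap_injective σ _)
        (fun b => jmap_stalkMap σ pr2 hσ2 _ hσv hWv b) (jmap_frac iW hWv)
    obtain ⟨ξ', hξ', hr⟩ := H (pr2 v) hWv hws hwc
    have h3 : Set.range (jmap iX (genericPoint C) hXv) ⊆ Set.range (jmap σ (genericPoint C) hσv) := by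
      rintro _ ⟨t, rfl⟩
      exact ⟨_, jmap_stalkMap σ pr1 hσ1 _ hσv hXv t⟩
    have hsp : ξ' ⤳ x := specializes_of_jmap_le iX hXv hξ' (h3.trans (by rw [← h2, ← hr]))
    have hξ'x : ξ' = x := by
      by_contra hne'
      obtain ⟨t, ht, htu⟩ : ∃ t : XR.left.presheaf.stalk x, t ∈ IsLocalRing.maximalIdeal _ ∧
          IsUnit ((XR.left.presheaf.stalkSpecializes hsp).hom t) := by
        by_contra hcn
        push_neg at hcn
        have : IsLocalHom (XR.left.presheaf.stalkSpecializes hsp).hom := ⟨fun g hg => by
          by_contra hn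
          exact hcn g ((IsLocalRing.mem_maximalIdeal _).2 hn) hg⟩
        refine hne' ?_
        have h1 := congrArg (fun m => m (IsLocalRing.closedPoint _))
          (Scheme.SpecMap_stalkSpecializes_fromSpecStalk (X := XR.left) hsp)
        simp only [Scheme.Hom.comp_apply, Scheme.fromSpecStalk_closedPoint] at h1
        refine Eq.trans h1.symm ?_
        rw [show (Spec.map (XR.left.presheaf.stalkSpecializes hsp)) (IsLocalRing.closedPoint _) = IsLocalRing.closedPoint _ from
          IsLocalRing.comap_closedPoint (XR.left.presheaf.stalkSpecializes hsp).hom, Scheme.fromSpecStalk_closedPoint]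
      obtain ⟨t', ht'⟩ := htu.exists_right_inv
      obtain ⟨u', hu'⟩ : jmap iX (genericPoint C) hξ' t' ∈ Set.range (jmap σ (genericPoint C) hσv) := by
        rw [← h2, ← hr]; exact ⟨t', rfl⟩
      have h4 : (pr1.stalkMap v).hom t * u' = 1 := by
        refine jmap_injective σ hσv ?_
        rw [map_mul, hu', map_one, jmap_stalkMap σ pr1 hσ1 _ hσv hXv t]
        have h5 : jmap iX (genericPoint C) hXv t =
            jmap iX (genericPoint C) hξ' ((XR.left.presheaf.stalkSpecializes hsp).hom t) := by
          simp [jmap, TopCat.Presheaf.stalkSpecializes_comp_apply]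
        rw [h5, ← map_mul, ht', map_one]
      exact (IsLocalRing.mem_maximalIdeal _).1 ht
        (isUnit_of_map_unit (pr1.stalkMap v).hom t (IsUnit.of_mul_eq_one _ h4))
    subst hξ'x
    refine hvne (hvc.antisymm (specializes_of_jmap_le σ hσv hσc ?_)).eq
    rw [← h2, ← hr]
    rintro _ ⟨t, rfl⟩
    have hgen : ∀ (y : XR.left) (hy : y = x) (hyη : iX (genericPoint C) ⤳ y) (s : XR.left.presheaf.stalk x),
        ∃ s' : XR.left.presheaf.stalk y, jmap iX (genericPoint C) hyη s' = jmap iX (genericPoint C) hξ' s := by
      rintro y rfl hyη s; exact ⟨s, rfl⟩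
    obtain ⟨t', ht'⟩ := hgen (pr1 c) hcx hXc t
    exact ⟨_, (jmap_stalkMap σ pr1 hσ1 _ hσc hXc t').trans ht'⟩
  haveI := hU
  haveI : IsIso pr1 :=
    GrothLib.ExcP1.isIso_of_no_curves (f := pr1) hZd iX.opensRange hne (fun y => (hXn y).2) hnoc
  refine ⟨Over.homMk (inv pr1 ≫ pr2) ?_, ?_⟩
  · rw [Category.assoc, IsIso.inv_comp_eq]
    simp only [pr1, pr2, Category.assoc, pullback.condition]
  · simp only [Over.homMk_left]
    rw [← hσ1, ← hσ2]
    simp [pr1, pr2]

end GrothLib.RatSing29
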