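import Groth.Agent.Lib.RatSing29.ResidueAlg
import Groth.Agent.Lib.RatSing29.CenteredHom
import Groth.Agent.Lib.FlatStrat.Main
import Groth.Agent.Lib.BlowUp.Universal
import Groth.Agent.Lib.NormAmple.Integral

/-!
# An ideal separating the centre of a valuation
-/

universe u

set_option linter.all false
set_option backward.isDefEq.respectTransparency false

open CategoryTheory CategoryTheory.Limits AlgebraicGeometry Opposite TopologicalSpace

noncomputable section

namespace GrothLib.RatSing29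

/-- The map of function fields of a dominant morphism. -/
def ffmap {W Y : Scheme.{u}} [IsIntegral W] [IsIntegral Y] (τ : W ⟶ Y) (e : τ (genericPoint W) = genericPoint Y) :
    Y.functionField →+* W.functionField :=
  (τ.stalkMap (genericPoint W)).hom.comp (Y.presheaf.stalkSpecializes (specializes_of_eq e)).hom

theorem ffmap_stalk {W Y : Scheme.{u}} [IsIntegral W] [IsIntegral Y] (τ : W ⟶ Y)
    (e : τ (genericPoint W) = genericPoint Y) (w : W) (a : Y.presheaf.stalk (τ w)) :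
    W.presheaf.stalkSpecializes (genericPoint_specializes w) (τ.stalkMap w a) =
      ffmap τ e (Y.presheaf.stalkSpecializes (genericPoint_specializes (τ w)) a) := by
  simp only [ffmap, RingHom.comp_apply]
  rw [TopCat.Presheaf.stalkSpecializes_comp_apply]
  exact (Scheme.Hom.stalkSpecializes_stalkMap_apply τ (genericPoint W) w (genericPoint_specializes w) a).symm

theorem ffmap_congr {W Y : Scheme.{u}} [IsIntegral W] [IsIntegral Y] {f g : W ⟶ Y} (h : f = g)
    (e : f (genericPoint W) = genericPoint Y) : ffmap f e = ffmap g (h ▸ e) := by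
  subst h; rfl

theorem ffmap_comp {Z W Y : Scheme.{u}} [IsIntegral Z] [IsIntegral W] [IsIntegral Y] (f : Z ⟶ W) (g : W ⟶ Y)
    (ef : f (genericPoint Z) = genericPoint W) (eg : g (genericPoint W) = genericPoint Y)
    (e : (f ≫ g) (genericPoint Z) = genericPoint Y) : ffmap (f ≫ g) e = (ffmap f ef).comp (ffmap g eg) := by
  ext t
  simp only [ffmap, RingHom.comp_apply]
  rw [Scheme.Hom.stalkMap_comp]
  show f.stalkMap _ (g.stalkMap _ _) = _
  refine congrArg _ ?_
  rw [← Scheme.Hom.stalkSpecializes_stalkMap_apply g (f (genericPoint Z)) (genericPoint W) (specializes_of_eq ef)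
    (Y.presheaf.stalkSpecializes (specializes_of_eq eg) t)]
  rw [TopCat.Presheaf.stalkSpecializes_comp_apply]
  rfl

/-- Stalk maps of dominant morphisms of integral schemes are injective. -/
theorem injective_stalkMap {W Y : Scheme.{u}} [IsIntegral W] [IsIntegral Y] (τ : W ⟶ Y)
    (e : τ (genericPoint W) = genericPoint Y) (w : W) : Function.Injective (τ.stalkMap w) := fun a b h => by
  refine GrothLib.MorQ9.injective_stalkSpecializes_generic (τ w) ((ffmap τ e).injective ?_)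
  rw [← ffmap_stalk, ← ffmap_stalk, h]

theorem germ_congr {T Y : Scheme.{u}} {f g : T ⟶ Y} (e : f = g) (x : T) {V : Y.Opens} (hf : f x ∈ V) (hg : g x ∈ V)
    (a : Γ(Y, V)) : f.stalkMap x (Y.presheaf.germ V (f x) hf a) = g.stalkMap x (Y.presheaf.germ V (g x) hg a) := by
  subst e; rfl

theorem germ_comp {T W Y : Scheme.{u}} (f : T ⟶ W) (g : W ⟶ Y) (x : T) {V : Y.Opens} (h : (f ≫ g) x ∈ V)
    (a : Γ(Y, V)) : (f ≫ g).stalkMap x (Y.presheaf.germ V ((f ≫ g) x) h a) =
      f.stalkMap x (g.stalkMap (f x) (Y.presheaf.germ V (g (f x)) h a)) := by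
  rw [Scheme.Hom.stalkMap_comp]
  rfl

/-- The residue of the stalk map. -/
theorem kmap_residueFieldMap {R : Type u} [CommRing R] {T X : Scheme.{u}} (f : T ⟶ X)
    (p : X ⟶ Spec (CommRingCat.of R)) (pT : T ⟶ Spec (CommRingCat.of R)) (h : f ≫ p = pT) (t : T) (r : R) :
    f.residueFieldMap t (kmap p (f t) r) = kmap pT t r := by
  subst h
  show f.residueFieldMap t (X.evaluation ⊤ (f t) trivial _) = T.evaluation ⊤ t trivial _
  erw [Scheme.evaluation_naturality_apply]
  rfl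

theorem isIntegralElem_residueFieldMap {R : Type u} [CommRing R] {T X : Scheme.{u}} (f : T ⟶ X)
    (p : X ⟶ Spec (CommRingCat.of R)) (pT : T ⟶ Spec (CommRingCat.of R)) (h : f ≫ p = pT) (t : T)
    (z : X.residueField (f t)) :
    (kmap pT t).IsIntegralElem (f.residueFieldMap t z) ↔ (kmap p (f t)).IsIntegralElem z := by
  have hc : (f.residueFieldMap t).hom.comp (kmap p (f t)) = kmap pT t := RingHom.ext (kmap_residueFieldMap f p pT h t)
  constructor
  · rintro ⟨P, hP, h0⟩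
    refine ⟨P, hP, (f.residueFieldMap t).hom.injective ?_⟩
    rw [map_zero, Polynomial.hom_eval₂, hc]
    exact h0
  · rintro ⟨P, hP, h0⟩
    refine ⟨P, hP, ?_⟩
    rw [← hc, ← Polynomial.hom_eval₂, h0, map_zero]

/-- **An ideal separating the centre of a valuation with transcendental residues.** -/
theorem exists_separating_ideal {R : Type u} [CommRing R] [IsDomain R] [IsDiscreteValuationRing R]
    {W Y : Scheme.{u}} [IsIntegral W] [IsIntegral Y] (pW : W ⟶ Spec (CommRingCat.of R)) [LocallyOfFiniteType pW]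
    [IsNoetherian Y] (τ : W ⟶ Y) (e : τ (genericPoint W) = genericPoint Y)
    (halg : letI := (ffmap τ e).toAlgebra; Algebra.IsAlgebraic Y.functionField W.functionField)
    (ξ : W) [IsDiscreteValuationRing (W.presheaf.stalk ξ)] (hs : pW ξ = IsLocalRing.closedPoint R)
    (hnc : ¬ IsClosed ({ξ} : Set W)) :
    ∃ E : Y.IdealSheafData, E ≠ ⊥ ∧ ∀ (W₁ Y' : Scheme.{u}) [IsIntegral W₁] [IsIntegral Y']
      (ρ₁ : W₁ ⟶ W) (τ₁ : W₁ ⟶ Y') (q : Y' ⟶ Y) (pY' : Y' ⟶ Spec (CommRingCat.of R)) [LocallyOfFiniteType pY'],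
      ρ₁ ≫ τ = τ₁ ≫ q → τ₁ ≫ pY' = ρ₁ ≫ pW → ρ₁ (genericPoint W₁) = genericPoint W →
      _root_.BlowUp.IsEffCartierIdeal (E.comap q) →
      ∀ ξ₁ : W₁, ρ₁ ξ₁ = ξ → ¬ IsClosed ({τ₁ ξ₁} : Set Y') := by
  obtain ⟨z, hz⟩ : ∃ z : W.residueField ξ, ¬ (kmap pW ξ).IsIntegralElem z := by
    by_contra h
    push_neg at h
    exact hnc (isClosed_singleton_of_forall_integral pW hs h)
  obtain ⟨a₀, rfl⟩ := W.residue_surjective ξ z
  let j : W.presheaf.stalk ξ →+* W.functionField := (W.presheaf.stalkSpecializes (genericPoint_specializes ξ)).hom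
  have hj : Function.Injective j := GrothLib.MorQ9.injective_stalkSpecializes_generic ξ
  obtain ⟨t, b₀, htb, hb₀⟩ := exists_not_integral_residue (R := R) (ffmap τ e) halg j hj
    (fun s => by
      obtain ⟨⟨n, d⟩, hs'⟩ := IsLocalization.surj (nonZeroDivisors (W.presheaf.stalk ξ)) s
      have hd : j d ≠ 0 := fun h => nonZeroDivisors.ne_zero d.2 (hj (h.trans (map_zero j).symm))
      replace hs' : s * j d = j n := hs'
      rcases ValuationRing.dvd_total (d : W.presheaf.stalk ξ) n with ⟨c, hc⟩ | ⟨c, hc⟩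
      · refine Or.inl ⟨c, mul_right_cancel₀ hd ?_⟩
        rw [hs', hc, map_mul, mul_comm]
      · refine Or.inr ⟨c, ?_⟩
        by_cases hs0 : s = 0
        · have hn : (n : W.presheaf.stalk ξ) = 0 := hj (by rw [← hs', hs0, zero_mul, map_zero])
          exact absurd (by rw [hc, hn, zero_mul]) (nonZeroDivisors.ne_zero d.2)
        refine mul_left_cancel₀ hs0 ?_
        rw [mul_inv_cancel₀ hs0]
        refine mul_right_cancel₀ hd ?_
        rw [one_mul, mul_assoc, mul_comm (j c), ← mul_assoc, hs', ← map_mul, ← hc])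
    (W.residue ξ).hom (kmap pW ξ) (fun r hr => kmap_eq_zero pW hs hr) a₀ hz
  obtain ⟨V, hV, hyV, -⟩ := exists_isAffineOpen_mem_and_subset (show τ ξ ∈ (⊤ : Y.Opens) from trivial)
  haveI : Nonempty V := ⟨⟨_, hyV⟩⟩
  haveI := functionField_isFractionRing_of_isAffineOpen Y V hV
  obtain ⟨⟨a, b⟩, hab⟩ := IsLocalization.surj (nonZeroDivisors Γ(Y, V)) t
  haveI : IsNoetherianRing Γ(Y, V) := IsLocallyNoetherian.component_noetherian ⟨V, hV⟩
  obtain ⟨E, -, hE⟩ := GrothLib.FlatStrat.exists_ideal_extension ⟨V, hV⟩ (Ideal.span ({a, (b : Γ(Y, V))} : Set Γ(Y, V)))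
    (IsNoetherian.noetherian _)
  have hA : τ.stalkMap ξ (Y.presheaf.germ V (τ ξ) hyV a) = b₀ * τ.stalkMap ξ (Y.presheaf.germ V (τ ξ) hyV b) := by
    refine hj ?_
    rw [map_mul]
    show W.presheaf.stalkSpecializes _ _ = _ * W.presheaf.stalkSpecializes _ _
    rw [ffmap_stalk τ e, ffmap_stalk τ e, TopCat.Presheaf.germ_stalkSpecializes_apply,
      TopCat.Presheaf.germ_stalkSpecializes_apply, ← htb, ← map_mul]
    exact congrArg _ hab.symm
  have hbne : τ.stalkMap ξ (Y.presheaf.germ V (τ ξ) hyV b) ≠ 0 := by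
    intro h
    have h1 := injective_stalkMap τ e ξ (h.trans (map_zero _).symm)
    exact nonZeroDivisors.ne_zero b.2 (germ_injective_of_isIntegral Y (τ ξ) hyV (h1.trans (map_zero _).symm))
  refine ⟨E, fun hbot => ?_, ?_⟩
  · have hbI : (b : Γ(Y, V)) ∈ E.ideal ⟨V, hV⟩ := by rw [hE]; exact Ideal.subset_span (by simp)
    rw [hbot, Scheme.IdealSheafData.ideal_bot] at hbI
    exact nonZeroDivisors.ne_zero b.2 hbI
  intro W₁ Y' _ _ ρ₁ τ₁ q pY' _ hcomm hp hdom hq ξ₁ hξ₁ hclosed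
  subst hξ₁
  let y' := τ₁ ξ₁
  have hy : q y' = τ (ρ₁ ξ₁) := by
    rw [← Scheme.Hom.comp_apply, ← Scheme.Hom.comp_apply, hcomm]
  have hyV' : q y' ∈ V := hy ▸ hyV
  obtain ⟨U, hyU, s, hs0, hU⟩ := hq y'
  obtain ⟨U', hyU', hU'le⟩ := GrothLib.BlowUp.exists_affine_mem_le (W := U.1 ⊓ q ⁻¹ᵁ V) (x := y') ⟨hyU, hyV'⟩
  have hU'U : U' ≤ U := fun p hp => (hU'le hp).1
  have hU'V : U'.1 ≤ q ⁻¹ᵁ V := fun p hp => (hU'le hp).2
  let qq : Γ(Y, V) →+* Γ(Y', U'.1) := (q.appLE V U'.1 hU'V).hom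
  let gU := (Y'.presheaf.germ U'.1 y' hyU').hom
  let π := gU ((Y'.presheaf.map (homOfLE hU'U).op).hom s)
  have hspan : Ideal.span ({gU (qq a), gU (qq b)} : Set (Y'.presheaf.stalk y')) = Ideal.span {π} := by
    have h1 := congrArg (Ideal.map gU) ((Scheme.IdealSheafData.map_ideal (E.comap q) hU'U).trans
      ((GrothLib.BlowUp.ideal_comap_eq_map E q ⟨V, hV⟩ U' hU'V).trans (congrArg _ hE)))
    rw [hU] at h1
    simp only [Ideal.map_span, Set.image_pair, Set.image_singleton] at h1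
    exact h1.symm
  have hgq : ∀ c : Γ(Y, V), gU (qq c) = q.stalkMap y' (Y.presheaf.germ V (q y') hyV' c) := fun c => by
    rw [Scheme.Hom.germ_stalkMap_apply]
    show Y'.presheaf.germ U'.1 y' hyU' (q.appLE V U'.1 hU'V c) = _
    rw [Scheme.Hom.appLE, CommRingCat.comp_apply, TopCat.Presheaf.germ_res_apply]
  let μ := (ρ₁.stalkMap ξ₁).hom
  have hμ : Function.Injective μ := injective_stalkMap ρ₁ hdom ξ₁
  have hcmp : ∀ c : Γ(Y, V), τ₁.stalkMap ξ₁ (gU (qq c)) = μ (τ.stalkMap (ρ₁ ξ₁) (Y.presheaf.germ V (τ (ρ₁ ξ₁)) hyV c)) :=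
    fun c => by
      rw [hgq]
      exact ((germ_comp τ₁ q ξ₁ hyV' c).symm.trans (germ_congr hcomm.symm ξ₁ hyV' hyV c)).trans
        (germ_comp ρ₁ τ ξ₁ hyV c)
  obtain ⟨α, hα⟩ : π ∣ gU (qq a) := Ideal.mem_span_singleton.1 (hspan ▸ Ideal.subset_span (by simp))
  obtain ⟨β, hβ⟩ : π ∣ gU (qq b) := Ideal.mem_span_singleton.1 (hspan ▸ Ideal.subset_span (by simp))
  have hkey : μ b₀ * (τ₁.stalkMap ξ₁ β) = τ₁.stalkMap ξ₁ α := by
    have h1 := congrArg μ hA
    rw [map_mul, ← hcmp, ← hcmp, hα, hβ, map_mul, map_mul, ← mul_assoc, mul_comm (μ b₀), mul_assoc] at h1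
    refine (mul_left_cancel₀ ?_ h1).symm
    intro h0
    refine hbne (hμ ?_)
    rw [map_zero, ← hcmp, hβ, map_mul, h0, zero_mul]
  have hpY : pY' y' = IsLocalRing.closedPoint R := by
    rw [← hs, ← Scheme.Hom.comp_apply, hp, Scheme.Hom.comp_apply]
  have hπne : π ≠ 0 := by
    intro h0
    refine hbne (hμ ?_)
    rw [map_zero, ← hcmp, hβ, h0, zero_mul, map_zero]
  have hun : IsUnit α ∨ IsUnit β := by
    obtain ⟨γ, δ, hγδ⟩ := Ideal.mem_span_pair.1 (hspan.ge (Ideal.subset_span rfl))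
    have h1 : π * (γ * α + δ * β) = π * 1 := by
      rw [mul_one]
      conv_rhs => rw [← hγδ, hα, hβ]
      ring
    have h2 : γ * α + δ * β = 1 := mul_left_cancel₀ hπne h1
    rcases IsLocalRing.isUnit_or_isUnit_of_add_one h2 with h | h
    · exact Or.inl (isUnit_of_mul_isUnit_right h)
    · exact Or.inr (isUnit_of_mul_isUnit_right h)
  let R1 := (W₁.residue ξ₁).hom
  have hint : ∀ w : Y'.presheaf.stalk y', (kmap (τ₁ ≫ pY') ξ₁).IsIntegralElem (R1 (τ₁.stalkMap ξ₁ w)) := fun w => by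
    have h1 := (isIntegralElem_residueFieldMap τ₁ pY' _ rfl ξ₁ (Y'.residue y' w)).2
      (isIntegralElem_of_isClosed pY' hpY hclosed _)
    rwa [show τ₁.residueFieldMap ξ₁ (Y'.residue y' w) = R1 (τ₁.stalkMap ξ₁ w) from rfl] at h1
  have hgoal : (kmap (τ₁ ≫ pY') ξ₁).IsIntegralElem (R1 (μ b₀)) := by
    rcases hun with hu | hu
    · obtain ⟨γ, hγ⟩ := hu.exists_right_inv
      have h2 := congrArg R1 hkey
      have h3 : R1 (τ₁.stalkMap ξ₁ α) * R1 (τ₁.stalkMap ξ₁ γ) = 1 := by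
        rw [← map_mul, ← map_mul, hγ, map_one, map_one]
      rw [map_mul] at h2
      have h4 : R1 (μ b₀) * R1 (τ₁.stalkMap ξ₁ (β * γ)) = 1 := by
        rw [map_mul, map_mul, ← mul_assoc, h2, h3]
      rw [eq_inv_of_mul_eq_one_left h4]
      exact isIntegralElem_inv (τ₁ ≫ pY') hpY (hint _)
    · obtain ⟨γ, hγ⟩ := hu.exists_right_inv
      have h3 : μ b₀ = τ₁.stalkMap ξ₁ (α * γ) := by
        rw [map_mul, ← hkey, mul_assoc, ← map_mul, hγ, map_one, mul_one]
      rw [h3]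
      exact hint _
  refine hb₀ ((isIntegralElem_residueFieldMap ρ₁ pW (τ₁ ≫ pY') hp.symm ξ₁ (W.residue (ρ₁ ξ₁) b₀)).1 ?_)
  exact hgoal

end GrothLib.RatSing29
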