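import Groth.Agent.Lib.RatSing29.ModifDim
import Groth.Agent.Lib.ExcP1.Seq
import Groth.Agent.Lib.Stein.Count
import Groth.Agent.Lib.MorQ9.Normal
import Groth.Agent.Lib.ProperFib19.DVR

/-!
# Functions factoring along the curves of the closed fibre of a modification
-/

universe u

set_option linter.all false
set_option backward.isDefEq.respectTransparency false

open CategoryTheory CategoryTheory.Limits AlgebraicGeometry Opposite TopologicalSpace

noncomputable section

namespace GrothLib.RatSing29

variable {A : Type u} [CommRing A] [IsDomain A] {X : Scheme.{u}} [IsIntegral X]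
  (f : X ⟶ Spec (CommRingCat.of A))

/-- Fractions: every germ on a birational scheme over `Spec A` has a nonzero multiple coming from `A`. -/
theorem exists_mul_eq_germ_aux {R : CommRingCat.{u}} [IsDomain R] (f : X ⟶ Spec R) (e : f (genericPoint X) = genericPoint (Spec R))
    (hb : Function.Bijective (f.stalkMap (genericPoint X)).hom) (x : X) (g : X.presheaf.stalk x) (hg : g ≠ 0) :
    ∃ b : R, b ≠ 0 ∧ ∃ q : X.presheaf.stalk x,
      (X.presheaf.germ ⊤ x trivial).hom (((Scheme.ΓSpecIso R).inv ≫ f.appTop).hom b) = g * q := by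
  let σ := X.presheaf.stalkSpecializes (genericPoint_specializes x)
  let τ := (Spec R).presheaf.stalkSpecializes (specializes_of_eq e.symm)
  let τ' := (Spec R).presheaf.stalkSpecializes (specializes_of_eq e)
  have hτ : ∀ t, τ' (τ t) = t := fun t => by
    simp only [τ, τ']
    rw [TopCat.Presheaf.stalkSpecializes_comp_apply]
    simp
  have hτb : Function.Injective τ' := by
    refine Function.LeftInverse.injective (g := τ) fun t => ?_
    simp only [τ, τ']
    rw [TopCat.Presheaf.stalkSpecializes_comp_apply]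
    simp
  let al : R →+* (Spec R).functionField := algebraMap R (Spec R).functionField
  have hψ : ∀ a : R, (X.presheaf.germ ⊤ (genericPoint X) trivial).hom (((Scheme.ΓSpecIso R).inv ≫ f.appTop).hom a) =
      f.stalkMap (genericPoint X) (τ' (al a)) := fun a => by
    show _ = f.stalkMap (genericPoint X) (τ' (((Spec R).presheaf.germ ⊤ (genericPoint (Spec R)) trivial).hom
      ((Scheme.ΓSpecIso R).inv.hom a)))
    rw [TopCat.Presheaf.germ_stalkSpecializes_apply, Scheme.Hom.germ_stalkMap_apply]
    rfl
  obtain ⟨T, hT⟩ := hb.2 (σ g)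
  obtain ⟨⟨b, c⟩, hbc⟩ := IsLocalization.surj (nonZeroDivisors R) (τ T : (Spec R).functionField)
  have h1 : σ g * f.stalkMap (genericPoint X) (τ' (al c)) = f.stalkMap (genericPoint X) (τ' (al b)) := by
    have h := congrArg (fun t => f.stalkMap (genericPoint X) (τ' t)) hbc
    simp only [map_mul, hτ] at h
    rw [← hT]
    exact h
  have hinj : Function.Injective σ := GrothLib.MorQ9.injective_stalkSpecializes_generic x
  rw [← hψ, ← hψ] at h1
  have h2 : g * (X.presheaf.germ ⊤ x trivial).hom (((Scheme.ΓSpecIso R).inv ≫ f.appTop).hom c) =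
      (X.presheaf.germ ⊤ x trivial).hom (((Scheme.ΓSpecIso R).inv ≫ f.appTop).hom b) := hinj (by
    rw [map_mul]
    simp only [σ, TopCat.Presheaf.germ_stalkSpecializes_apply]
    exact h1)
  refine ⟨b, fun hb0 => ?_, _, h2.symm⟩
  have h3 : ∀ a : R, (X.presheaf.germ ⊤ (genericPoint X) trivial).hom (((Scheme.ΓSpecIso R).inv ≫ f.appTop).hom a) = 0 → a = 0 := fun a ha => by
    rw [hψ, ← map_zero (f.stalkMap (genericPoint X)).hom] at ha
    have h4 := hb.1 ha
    rw [← map_zero τ'.hom] at h4
    exact (IsFractionRing.injective R (Spec R).functionField) ((hτb h4).trans (map_zero al).symm)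
  rw [hb0, map_zero, map_zero, mul_eq_zero] at h2
  refine nonZeroDivisors.ne_zero c.2 (h3 _ ?_)
  have h5 := congrArg σ (h2.resolve_left hg)
  simp only [σ, TopCat.Presheaf.germ_stalkSpecializes_apply, map_zero] at h5
  exact h5

theorem exists_mul_eq_germ (e : f (genericPoint X) = genericPoint (Spec (CommRingCat.of A)))
    (hb : Function.Bijective (f.stalkMap (genericPoint X)).hom) (x : X) (g : X.presheaf.stalk x) (hg : g ≠ 0) :
    ∃ b : A, b ≠ 0 ∧ ∃ q : X.presheaf.stalk x,
      (X.presheaf.germ ⊤ x trivial).hom (Coh.toGlobal f b) = g * q :=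
  exists_mul_eq_germ_aux f e hb x g hg

variable [IsLocalRing A] [IsNoetherianRing A] [IsIntegrallyClosed A] [IsProper f]

/-- The components of the closed fibre of a modification which is not an isomorphism are curves. -/
theorem not_isClosed_of_component (hdim : ringKrullDim A = 2)
    (hbir : ∃ U : (Spec (CommRingCat.of A)).Opens, (U : Set (Spec (CommRingCat.of A))).Nonempty ∧ IsIso (f ∣_ U))
    (hf : ¬ IsIso f) (C : Set ↥(f.base ⁻¹' {IsLocalRing.closedPoint A}))
    (hC : C ∈ irreducibleComponents ↥(f.base ⁻¹' {IsLocalRing.closedPoint A}))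
    (ξ : ↥(f.base ⁻¹' {IsLocalRing.closedPoint A})) (hξ : IsGenericPoint ξ C) : ¬ IsClosed ({(ξ : X)} : Set X) := by
  intro hcl
  haveI : IsLocallyNoetherian X := LocallyOfFiniteType.isLocallyNoetherian f
  haveI : CompactSpace X := QuasiCompact.compactSpace_of_compactSpace f
  haveI : IsNoetherian X := {}
  obtain ⟨U, hU, hUi⟩ := hbir
  haveI := hUi
  obtain ⟨e, hb⟩ := GrothLib.ExcP1.birational_of_iso_over (f := f) U hU
  let F : Set X := f.base ⁻¹' {IsLocalRing.closedPoint A}
  have hcp : IsClosed ({IsLocalRing.closedPoint A} : Set (Spec (CommRingCat.of A))) :=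
    (PrimeSpectrum.isClosed_singleton_iff_isMaximal _).2 (IsLocalRing.maximalIdeal.isMaximal A)
  have hN : ∀ y : Spec (CommRingCat.of A), IsIntegrallyClosed ((Spec (CommRingCat.of A)).presheaf.stalk y) :=
    fun y => (GrothLib.ProperFib19.isNormalScheme_spec A y).2
  have hconn : ConnectedSpace ↥(f.fiber (IsLocalRing.closedPoint A)) := by
    haveI := hN (IsLocalRing.closedPoint A)
    refine GrothLib.Stein.connectedSpace_fiber_of_birational f e
      ((ConcreteCategory.isIso_iff_bijective _).2 hb) _ ?_
    exact GrothLib.Stein.isLocalRing_integralClosure_of_isIntegrallyClosed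
  haveI : ConnectedSpace ↥F := (f.fiberHomeo (IsLocalRing.closedPoint A)).surjective.connectedSpace
    (f.fiberHomeo (IsLocalRing.closedPoint A)).continuous
  haveI : NoetherianSpace ↥F := Topology.IsInducing.subtypeVal.noetherianSpace
  have hξc : IsClosed ({ξ} : Set ↥F) := by
    have : ({ξ} : Set ↥F) = Subtype.val ⁻¹' {(ξ : X)} := by ext w; simp [Subtype.ext_iff]
    rw [this]
    exact hcl.preimage continuous_subtype_val
  have hCeq : C = {ξ} := by rw [← hξ, hξc.closure_eq]
  have hopen : IsOpen ({ξ} : Set ↥F) := by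
    have h1 : ({ξ} : Set ↥F)ᶜ = ⋃ C' ∈ irreducibleComponents ↥F \ {C}, C' := by
      ext w
      simp only [Set.mem_compl_iff, Set.mem_singleton_iff, Set.mem_iUnion, Set.mem_diff, exists_prop]
      constructor
      · intro hw
        refine ⟨irreducibleComponent w, ⟨irreducibleComponent_mem_irreducibleComponents w, fun h => hw ?_⟩,
          mem_irreducibleComponent⟩
        have := h ▸ (mem_irreducibleComponent : w ∈ irreducibleComponent w)
        rwa [hCeq] at this
      · rintro ⟨C', ⟨hC', hne⟩, hw⟩ rfl
        refine hne (hC.eq_of_le hC'.1 ?_).symm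
        rw [hCeq]
        exact Set.singleton_subset_iff.2 hw
    rw [← isClosed_compl_iff, h1]
    exact (NoetherianSpace.finite_irreducibleComponents.subset Set.diff_subset).isClosed_biUnion
      fun C' hC' => isClosed_of_mem_irreducibleComponents C' hC'.1
  have huniv : ({ξ} : Set ↥F) = Set.univ := IsClopen.eq_univ ⟨hξc, hopen⟩ (Set.singleton_nonempty ξ)
  refine hf (GrothLib.ExcP1.isIso_of_no_curves (f := f) ?_ U hU hN ?_)
  · exact GrothLib.RatSing29.dim_le_of_birational f U hU hUi
      ((PrimeSpectrum.topologicalKrullDim_eq_ringKrullDim A).trans hdim).le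
  · refine Set.eq_empty_iff_forall_notMem.2 fun w hw => hw.1 ?_
    have hwF : w ∈ F := (IsLocalRing.specializes_closedPoint (f w)).mem_closed hw.2 rfl |>.symm
    have h2 : (⟨w, hwF⟩ : ↥F) ∈ ({ξ} : Set ↥F) := huniv ▸ trivial
    rw [show w = (ξ : X) from congrArg Subtype.val h2]
    exact hcl

/-- A component of the closed fibre has a closed point lying on no other component. -/
theorem exists_closedPoint_component (C : Set ↥(f.base ⁻¹' {IsLocalRing.closedPoint A}))
    (hC : C ∈ irreducibleComponents ↥(f.base ⁻¹' {IsLocalRing.closedPoint A})) :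
    ∃ x : ↥(f.base ⁻¹' {IsLocalRing.closedPoint A}), x ∈ C ∧ IsClosed ({(x : X)} : Set X) ∧
      ∀ C' ∈ irreducibleComponents ↥(f.base ⁻¹' {IsLocalRing.closedPoint A}), C' ≠ C → x ∉ C' := by
  haveI : IsLocallyNoetherian X := LocallyOfFiniteType.isLocallyNoetherian f
  haveI : CompactSpace X := QuasiCompact.compactSpace_of_compactSpace f
  haveI : IsNoetherian X := {}
  let F : Set X := f.base ⁻¹' {IsLocalRing.closedPoint A}
  haveI : NoetherianSpace ↥F := Topology.IsInducing.subtypeVal.noetherianSpace
  have hFc : IsClosed F :=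
    ((PrimeSpectrum.isClosed_singleton_iff_isMaximal _).2 (IsLocalRing.maximalIdeal.isMaximal A)).preimage f.continuous
  haveI : JacobsonSpace ↥(f.fiber (IsLocalRing.closedPoint A)) :=
    haveI : LocallyOfFiniteType (f.fiberToSpecResidueField (IsLocalRing.closedPoint A)) :=
      MorphismProperty.pullback_snd f _ inferInstance
    LocallyOfFiniteType.jacobsonSpace (f.fiberToSpecResidueField _)
  haveI : JacobsonSpace ↥F :=
    .of_isClosedEmbedding (f.fiberHomeo (IsLocalRing.closedPoint A)).symm.isClosedEmbedding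
  let O : Set ↥F := (⋃ C' ∈ irreducibleComponents ↥F \ {C}, C')ᶜ
  have hO : IsOpen O := ((NoetherianSpace.finite_irreducibleComponents.subset Set.diff_subset).isClosed_biUnion
      fun C' hC' => isClosed_of_mem_irreducibleComponents C' hC'.1).isOpen_compl
  haveI : QuasiSober ↥F := hFc.isClosedEmbedding_subtypeVal.quasiSober
  obtain ⟨η, hη⟩ := QuasiSober.sober hC.1 (isClosed_of_mem_irreducibleComponents C hC)
  have hne : (C ∩ O).Nonempty := by
    refine ⟨η, hη.mem, fun h => ?_⟩
    simp only [Set.mem_iUnion, Set.mem_diff, Set.mem_singleton_iff, exists_prop] at h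
    obtain ⟨C', ⟨hC', hne⟩, h⟩ := h
    refine hne (hC.eq_of_le hC'.1 ?_).symm
    rw [← hη]
    exact closure_minimal (Set.singleton_subset_iff.2 h) (isClosed_of_mem_irreducibleComponents C' hC')
  obtain ⟨x, ⟨hxC, hxO⟩, hx⟩ := nonempty_inter_closedPoints hne
    ((isClosed_of_mem_irreducibleComponents C hC).isLocallyClosed.inter hO.isLocallyClosed)
  refine ⟨x, hxC, ?_, fun C' hC' hne' hx' => hxO ?_⟩
  · rw [← Set.image_singleton]
    exact hFc.isClosedEmbedding_subtypeVal.isClosedMap _ hx
  · simp only [Set.mem_iUnion, Set.mem_diff, Set.mem_singleton_iff, exists_prop]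
    exact ⟨C', ⟨hC', hne'⟩, hx'⟩

end GrothLib.RatSing29
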