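import Groth.Agent.Lib.RatSing29.StalkRational
import Groth.Agent.Lib.RatSing29.FactorFun
import Groth.Agent.Lib.BlowUp.Universal
import Groth.Agent.Lib.Birat.LqfSep

/-!
# Modifications over punctured spectra, integrality of base changes
-/

universe u

set_option linter.all false
set_option backward.isDefEq.respectTransparency false

open CategoryTheory CategoryTheory.Limits AlgebraicGeometry Opposite TopologicalSpace

noncomputable section

namespace GrothLib.RatSing29

/-- A proper birational morphism onto a normal two-dimensional local scheme is an isomorphism over the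
punctured spectrum. -/
theorem isIso_restrict_punctured {A : Type u} [CommRing A] [IsDomain A] [IsLocalRing A] [IsNoetherianRing A]
    [IsIntegrallyClosed A] (hdim : ringKrullDim A = 2) {X : Scheme.{u}} (f : X ⟶ Spec (CommRingCat.of A))
    [IsProper f] [IsIntegral X]
    (hbir : ∃ U : (Spec (CommRingCat.of A)).Opens, (U : Set (Spec (CommRingCat.of A))).Nonempty ∧ IsIso (f ∣_ U))
    (O : (Spec (CommRingCat.of A)).Opens) (hO : IsLocalRing.closedPoint A ∉ O) : IsIso (f ∣_ O) := by
  haveI : IsLocallyNoetherian X := LocallyOfFiniteType.isLocallyNoetherian f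
  haveI : CompactSpace X := QuasiCompact.compactSpace_of_compactSpace f
  haveI : IsNoetherian X := {}
  obtain ⟨U, hU, hUi⟩ := hbir
  haveI := hUi
  obtain ⟨e, hb⟩ := GrothLib.ExcP1.birational_of_iso_over (f := f) U hU
  obtain ⟨u₀, hu₀⟩ := hU
  have hX : topologicalKrullDim X ≤ 2 := dim_le_of_birational f U ⟨u₀, hu₀⟩ hUi
    ((PrimeSpectrum.topologicalKrullDim_eq_ringKrullDim A).trans hdim).le
  have hcp : IsClosed ({IsLocalRing.closedPoint A} : Set (Spec (CommRingCat.of A))) :=
    (PrimeSpectrum.isClosed_singleton_iff_isMaximal _).2 (IsLocalRing.maximalIdeal.isMaximal A)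
  have hex : ∀ y : O, ∃ D : (Spec (CommRingCat.of A)).Opens, (y : Spec (CommRingCat.of A)) ∈ D ∧ IsIso (f ∣_ D) := by
    rintro ⟨y, hy⟩
    have hne : y ≠ IsLocalRing.closedPoint A := fun h => hO (h ▸ hy)
    obtain ⟨x, hx⟩ : y ∈ Set.range f.base :=
      (genericPoint_specializes y).mem_closed f.isClosedMap.isClosed_range ⟨_, e⟩
    haveI : LocallyOfFiniteType (f.fiberToSpecResidueField y) := MorphismProperty.pullback_snd f _ inferInstance
    haveI : IsLocallyNoetherian (f.fiber y) := LocallyOfFiniteType.isLocallyNoetherian (f.fiberToSpecResidueField y)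
    haveI : CompactSpace ↥(f.fiber y) := QuasiCompact.compactSpace_of_compactSpace (f.fiberToSpecResidueField y)
    haveI : IsNoetherian (f.fiber y) := {}
    have hT : ∀ v : ↥(f.fiber y), IsClosed ({v} : Set ↥(f.fiber y)) := by
      intro v
      rw [← closure_subset_iff_isClosed]
      intro w hw
      by_contra hne'
      have hvw : v ⤳ w := specializes_iff_mem_closure.2 hw
      have hv : f (f.fiberι y v) = y := (f.range_fiberι y).le ⟨v, rfl⟩
      have hw' : f (f.fiberι y w) = y := (f.range_fiberι y).le ⟨w, rfl⟩
      have hdist : f.fiberι y v ≠ f.fiberι y w := fun h => hne' ((f.fiberι y).isEmbedding.injective h).symm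
      have hη : genericPoint X ≠ f.fiberι y v := by
        intro h
        have hyU : y ∈ U := by
          rw [← hv, ← h, e]
          exact (genericPoint_specializes u₀).mem_open U.isOpen hu₀
        exact hdist (GrothLib.ArSurf29.injective_over_open f U (show f (f.fiberι y v) ∈ U by rw [hv]; exact hyU) (hv.trans hw'.symm))
      obtain ⟨c, hc, hfc⟩ := f.isClosedMap.specializingMap
        (show f (f.fiberι y w) ⤳ IsLocalRing.closedPoint A from IsLocalRing.specializes_closedPoint _)
      exact GrothLib.ArSurf29.no_chain_four hX (genericPoint_specializes _)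
        (hvw.map (f.fiberι y).continuous) hc hη hdist fun h => hne (by rw [← hfc, ← h, hw'])
    obtain ⟨a, ha⟩ : x ∈ Set.range (f.fiberι y) := (f.range_fiberι y).ge hx
    have hq : f.QuasiFiniteAt x := by
      subst hx
      refine Scheme.Hom.quasiFiniteAt_iff_isOpen_singleton_asFiber.2 ?_
      exact GrothLib.ArSurf29.isOpen_singleton_of_isClosed_points Topology.IsEmbedding.id
        (by rw [Set.range_id]; exact isClosed_univ) (fun v _ => hT v) _
    haveI := (GrothLib.ProperFib19.isNormalScheme_spec A (f x)).2
    obtain ⟨D, hD, hDi⟩ := GrothLib.Birat.exists_isIso_morphismRestrict f e hb x hq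
    exact ⟨D, hx ▸ hD, hDi⟩
  choose D hD hi using hex
  let O' : (Spec (CommRingCat.of A)).Opens := ⨆ y, D y
  haveI : IsIso (f ∣_ O') := by
    refine (IsZariskiLocalAtTarget.iff_of_iSup_eq_top (P := MorphismProperty.isomorphisms Scheme.{u})
      (fun y : O => O'.ι ⁻¹ᵁ D y) ?_).mpr fun y => ?_
    · exact (Scheme.Hom.preimage_iSup _ _).symm.trans (Scheme.Opens.ι_preimage_self O')
    · refine ((MorphismProperty.isomorphisms Scheme.{u}).arrow_mk_iso_iff
        (morphismRestrictRestrict f O' (O'.ι ⁻¹ᵁ D y))).mpr ?_
      rw [Scheme.Hom.image_preimage_eq_opensRange_inf, Scheme.Opens.opensRange_ι,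
        inf_eq_right.mpr (le_iSup D y)]
      exact hi y
  exact GrothLib.Nagata6.isIso_restrict_of_le f O' O fun y hy => TopologicalSpace.Opens.mem_iSup.2 ⟨⟨y, hy⟩, hD _⟩

/-- A scheme which is integral outside an effective Cartier divisor is integral. -/
theorem isIntegral_of_effCartier_compl {P : Scheme.{u}} [IsLocallyNoetherian P] {D : P.IdealSheafData}
    (hD : _root_.BlowUp.IsEffCartierIdeal D) (hint : IsIntegral ((D.support.compl : P.Opens) : Scheme.{u})) :
    IsIntegral P := by
  haveI := hint
  haveI : IsReduced P := by
    choose V hxV hV using hD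
    have key : ∀ x, IsReduced (V x).1.toScheme := by
      intro x
      obtain ⟨e, he, eE⟩ := hV x
      have hd := GrothLib.BlowUp.disjoint_basicOpen_support (eE.ge (Ideal.mem_span_singleton_self e))
      have hle : P.basicOpen e ≤ D.support.compl := fun y hy => Set.disjoint_left.mp hd hy
      have hW : IsReduced (P.basicOpen e).toScheme := isReduced_of_isOpenImmersion (P.homOfLE hle)
      have : _root_.IsReduced Γ(P, P.basicOpen e) := by
        have := hW.component_reduced ⊤
        exact isReduced_of_injective (P.basicOpen e).topIso.inv.hom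
          (ConcreteCategory.bijective_of_isIso (P.basicOpen e).topIso.inv).1
      have hr : _root_.IsReduced Γ(P, (V x).1) :=
        isReduced_of_injective _ (GrothLib.BlowUp.injective_res_basicOpen he)
      have : IsAffine (V x).1.toScheme := (V x).2
      have : _root_.IsReduced Γ((V x).1.toScheme, ⊤) :=
        isReduced_of_injective (V x).1.topIso.hom.hom
          (ConcreteCategory.bijective_of_isIso (V x).1.topIso.hom).1
      exact isReduced_of_isAffine_isReduced _
    let 𝒰 := (Scheme.openCoverOfIsOpenCover P (fun x => (V x).1)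
      (top_unique fun x _ => TopologicalSpace.Opens.mem_iSup.mpr ⟨x, hxV x⟩))
    have : ∀ i, IsReduced (𝒰.X i) := key
    exact IsReduced.of_openCover P 𝒰
  have hirr : IrreducibleSpace P := by
    have h1 : IsIrreducible ((D.support.compl : P.Opens) : Set P) :=
      isIrreducible_iff_irreducibleSpace.2 (inferInstanceAs (IrreducibleSpace ((D.support.compl : P.Opens) : Scheme.{u})))
    have h2 : closure ((D.support.compl : P.Opens) : Set P) = Set.univ := by
      refine Set.eq_univ_of_forall fun x => ?_
      obtain ⟨ξ, hξ⟩ := QuasiSober.sober (isIrreducible_irreducibleComponent (x := x)) isClosed_irreducibleComponent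
      have hmax : ∀ y : P, y ⤳ ξ → y = ξ := fun y hy => by
        refine (hy.antisymm ?_).eq
        have hsub : irreducibleComponent x ⊆ closure ({y} : Set P) := by
          rw [← hξ]
          exact closure_minimal (Set.singleton_subset_iff.2 (specializes_iff_mem_closure.1 hy)) isClosed_closure
        have heq := eq_irreducibleComponent (isIrreducible_singleton.closure.2) hsub
        exact hξ.specializes (heq ▸ subset_closure rfl)
      refine (hξ.specializes mem_irreducibleComponent).mem_closed isClosed_closure (subset_closure ?_)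
      exact GrothLib.BlowUp.notMem_support_of_maximal hD hmax
    have h3 : IsIrreducible (Set.univ : Set P) := h2 ▸ h1.closure
    haveI : PreirreducibleSpace P := ⟨h3.2⟩
    exact ⟨Set.nonempty_iff_univ_nonempty.2 h3.1⟩
  exact isIntegral_of_irreducibleSpace_of_isReduced _

end GrothLib.RatSing29
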