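import Groth.Agent.Lib.RatSing29.StalkRational
import Mathlib.RingTheory.EssentialFiniteness

/-!
# Birational extensions essentially of finite type are local rings of modifications
-/

universe u

set_option linter.all false
set_option backward.isDefEq.respectTransparency false

open CategoryTheory CategoryTheory.Limits AlgebraicGeometry Opposite TopologicalSpace

noncomputable section

namespace GrothLib.RatSing29

/-- Rational singularities are stable under isomorphism. -/
theorem isRationalSing_of_ringEquiv {A B : Type u} [CommRing A] [CommRing B] (e : A ≃+* B)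
    (h : Curv2.IsRationalSing A) : Curv2.IsRationalSing B := by
  intro X f hf hX hXn hb
  haveI := hf
  obtain ⟨U, ⟨u, hu⟩, hU⟩ := hb
  haveI := hU
  let s : Spec (CommRingCat.of B) ⟶ Spec (CommRingCat.of A) := Spec.map e.toCommRingCatIso.hom
  haveI : IsIso s := inferInstance
  haveI : IsProper (f ≫ s) := inferInstance
  refine h X (f ≫ s) inferInstance hX hXn ⟨(inv s) ⁻¹ᵁ U, ⟨s u, ?_⟩, ?_⟩
  · show inv s (s u) ∈ U
    rw [← Scheme.Hom.comp_apply, IsIso.hom_inv_id]
    exact hu
  · haveI : IsIso (f ∣_ (s ⁻¹ᵁ ((inv s) ⁻¹ᵁ U))) := by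
      refine GrothLib.Nagata6.isIso_restrict_of_le f U _ fun x (hx : inv s (s x) ∈ U) => ?_
      rwa [← Scheme.Hom.comp_apply, IsIso.hom_inv_id] at hx
    rw [morphismRestrict_comp]
    infer_instance

variable {A B : Type u} [CommRing A] [CommRing B] [IsDomain A] [IsDomain B] [IsLocalRing A] [IsLocalRing B]
  [IsNoetherianRing A] [Algebra A B]

/-- A birational extension essentially of finite type is a local ring of an affine blow-up algebra. -/
theorem exists_isLocalization_affineAlgebra (hinj : Function.Injective (algebraMap A B)) [Algebra.EssFiniteType A B]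
    (hfrac : ∀ b : B, ∃ a a' : A, a' ≠ 0 ∧ algebraMap A B a' * b = algebraMap A B a) :
    ∃ (I : Ideal A) (c : A) (hc : c ∈ I), c ≠ 0 ∧
      ∃ (θ : ↥(_root_.BlowUp.affineAlgebra A I c) →+* B),
        letI := θ.toAlgebra
        IsLocalization.AtPrime B ((IsLocalRing.maximalIdeal B).comap θ) := by
  classical
  choose num den hden hnd using hfrac
  let G := Algebra.EssFiniteType.finset A B
  let c := ∏ g ∈ G, den g
  have hc0 : c ≠ 0 := Finset.prod_ne_zero_iff.2 fun g _ => hden g
  have hw : ∀ g ∈ G, ∃ x : A, algebraMap A B c * g = algebraMap A B x := fun g hg => by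
    refine ⟨(∏ i ∈ G.erase g, den i) * num g, ?_⟩
    rw [show c = (∏ i ∈ G.erase g, den i) * den g from (Finset.prod_erase_mul G den hg).symm, map_mul, map_mul,
      mul_assoc, hnd]
  choose x hx using hw
  let I : Ideal A := Ideal.span (insert c {a | ∃ g hg, x g hg = a})
  have hcI : c ∈ I := Ideal.subset_span (Set.mem_insert _ _)
  have hφc : algebraMap A B c ∈ nonZeroDivisors B :=
    mem_nonZeroDivisors_of_ne_zero ((map_ne_zero_iff _ hinj).2 hc0)
  have hle : I.map (algebraMap A B) ≤ Ideal.span {algebraMap A B c} := by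
    rw [Ideal.map_span, Ideal.span_le]
    rintro _ ⟨a, rfl | ⟨g, hg, rfl⟩, rfl⟩
    · exact Ideal.mem_span_singleton_self _
    · exact Ideal.mem_span_singleton'.2 ⟨g, by rw [mul_comm, hx]⟩
  obtain ⟨θ, hθ⟩ := GrothLib.BlowUp.exists_lift_affineAlgebra c (algebraMap A B) hφc hle
  refine ⟨I, c, hcI, hc0, θ, ?_⟩
  have hθA : ∀ a, θ (algebraMap A _ a) = algebraMap A B a := fun a => RingHom.congr_fun hθ a
  have hθinj : Function.Injective θ := by
    refine (injective_iff_map_eq_zero θ).2 fun r hr => ?_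
    obtain ⟨⟨a, ⟨_, e, rfl⟩⟩, he⟩ := IsLocalization.surj (Submonoid.powers c) (r : Localization.Away c)
    have he' : r * algebraMap A _ (c ^ e) = algebraMap A _ a := Subtype.ext he
    have ha : a = 0 := hinj (by
      rw [← hθA, ← he', map_mul, hr, zero_mul, map_zero])
    have hu : IsUnit (algebraMap A (Localization.Away c) (c ^ e)) :=
      IsLocalization.map_units _ (⟨c ^ e, e, rfl⟩ : Submonoid.powers c)
    rw [ha, map_zero] at he
    exact Subtype.ext (hu.mul_left_eq_zero.1 he)
  have hrange : ∀ y ∈ Algebra.EssFiniteType.subalgebra A B, ∃ r, θ r = y := by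
    intro y hy
    induction hy using Algebra.adjoin_induction with
    | mem y hy =>
      have hxI : x y hy ∈ I := Ideal.subset_span (Or.inr ⟨y, hy, rfl⟩)
      refine ⟨GrothLib.BlowUp.frac c ⟨x y hy, hxI⟩, (mul_cancel_left_mem_nonZeroDivisors hφc).1 ?_⟩
      rw [← hθA c, ← map_mul, GrothLib.BlowUp.algebraMap_mul_frac, hθA, hθA, hx y hy]
    | algebraMap r => exact ⟨algebraMap A _ r, hθA r⟩
    | add y z _ _ ey ez =>
      obtain ⟨r, rfl⟩ := ey; obtain ⟨r', rfl⟩ := ez
      exact ⟨r + r', map_add θ r r'⟩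
    | mul y z _ _ ey ez =>
      obtain ⟨r, rfl⟩ := ey; obtain ⟨r', rfl⟩ := ez
      exact ⟨r * r', map_mul θ r r'⟩
  letI := θ.toAlgebra
  refine ⟨⟨?_, fun s => ?_, ?_⟩⟩
  · rintro ⟨r, hr⟩
    by_contra hu
    exact hr (show θ r ∈ IsLocalRing.maximalIdeal B from hu)
  · obtain ⟨⟨⟨u, hu⟩, ⟨⟨v, hv⟩, hv'⟩⟩, hs⟩ :=
      IsLocalization.surj (Algebra.EssFiniteType.submonoid A B) s
    obtain ⟨ru, hru⟩ := hrange u hu
    obtain ⟨rv, hrv⟩ := hrange v hv
    refine ⟨⟨ru, rv, fun h => ?_⟩, ?_⟩
    · have h1 : θ rv ∈ IsLocalRing.maximalIdeal B := h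
      rw [hrv] at h1
      exact h1 hv'
    · show s * θ rv = θ ru
      rw [hru, hrv]
      exact hs
  · intro r r' h
    exact ⟨1, by rw [hθinj h]⟩

/-- A normal birational extension essentially of finite type is the local ring of a point of a normal modification. -/
theorem exists_modification_stalk (hN : CAlg.IsNagata A) (hinj : Function.Injective (algebraMap A B))
    [Algebra.EssFiniteType A B] [IsIntegrallyClosed B]
    (hfrac : ∀ b : B, ∃ a a' : A, a' ≠ 0 ∧ algebraMap A B a' * b = algebraMap A B a) :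
    ∃ (X : Scheme.{u}) (f : X ⟶ Spec (CommRingCat.of A)) (_ : IsProper f) (_ : IsIntegral X),
      Pi1.IsNormalScheme X ∧
      (∃ U : (Spec (CommRingCat.of A)).Opens, (U : Set (Spec (CommRingCat.of A))).Nonempty ∧ IsIso (f ∣_ U)) ∧
      ∃ z : X, Nonempty (X.presheaf.stalk z ≃+* B) := by
  obtain ⟨I, c, hcI, hc0, θ, hθ⟩ := exists_isLocalization_affineAlgebra hinj hfrac
  let S := Spec (CommRingCat.of A)
  let J := GrothLib.BlowUp.idealSheaf I
  let X₀ := Proj (Rees.deg (reesAlgebra I))
  let b : X₀ ⟶ S := X₀ ↘ S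
  have hb : _root_.BlowUp.IsBlowUp b J := GrothLib.BlowUp.isBlowUp_proj I
  have hJne : J ≠ ⊥ := fun h => hc0 (by
    have h1 : (Scheme.ΓSpecIso (CommRingCat.of A)).inv c ∈ J.ideal ⟨⊤, isAffineOpen_top _⟩ := by
      rw [show J.ideal ⟨⊤, isAffineOpen_top _⟩ = _ from GrothLib.BlowUp.ideal_idealSheaf_top _]
      exact Ideal.mem_map_of_mem _ hcI
    rw [h, Scheme.IdealSheafData.ideal_bot] at h1
    exact (ConcreteCategory.bijective_of_isIso (Scheme.ΓSpecIso (CommRingCat.of A)).inv).1
      ((show (Scheme.ΓSpecIso (CommRingCat.of A)).inv c = 0 by simpa using h1).trans (map_zero _).symm))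
  obtain ⟨hXi, hgen, -⟩ := Groth.Agent.S2348.result J hJne b hb
  haveI := hXi
  haveI : IsProper b := GrothLib.BlowUpProper.isProper_of_isBlowUp hb
  haveI : IsLocallyNoetherian X₀ := LocallyOfFiniteType.isLocallyNoetherian b
  haveI : CompactSpace X₀ := QuasiCompact.compactSpace_of_compactSpace b
  haveI : IsNoetherian X₀ := {}
  haveI : QuasiCompact (X₀.fromSpecStalk (genericPoint X₀)) := inferInstance
  haveI : QuasiSeparated (X₀.fromSpecStalk (genericPoint X₀)) := inferInstance
  have hfin := GrothLib.NormFib.isFinite_of_nagata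
    (GrothLib.BlowUpProper.isNagata_of_locallyOfFiniteType b (isNagata_spec hN))
  haveI := hfin
  let ν := Curv2.normalizationι X₀
  have hν := GrothLib.NormFib.exists_isIso_of_finite hfin
  -- the point of the chart
  let R := _root_.BlowUp.affineAlgebra A I c
  let q : Spec (CommRingCat.of R) := ⟨(IsLocalRing.maximalIdeal B).comap θ, inferInstance⟩
  let j := (GrothLib.BlowUp.reesCharts I).j ⟨c, hcI⟩
  haveI : IsOpenImmersion j := (GrothLib.BlowUp.reesCharts I).isOpenImmersion _
  letI := θ.toAlgebra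
  haveI : IsLocalization.AtPrime B q.asIdeal := hθ
  let e₀ : X₀.presheaf.stalk (j q) ≃+* B :=
    (asIso (j.stalkMap q)).commRingCatIsoToRingEquiv.trans
      ((AlgebraicGeometry.Spec.stalkIso (CommRingCat.of R) q).commRingCatIsoToRingEquiv.trans
        (IsLocalization.algEquiv q.asIdeal.primeCompl (Localization.AtPrime q.asIdeal) B).toRingEquiv)
  let O := (X₀.presheaf.stalk (j q) : Type u)
  haveI : IsDomain O := inferInstanceAs (IsDomain (X₀.presheaf.stalk (j q)))
  haveI : IsIntegrallyClosed O := IsIntegrallyClosed.of_equiv e₀.symm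
  -- normalization
  let P := pullback ν (X₀.fromSpecStalk (j q))
  let π : P ⟶ Spec (CommRingCat.of O) := pullback.snd ν (X₀.fromSpecStalk (j q))
  obtain ⟨hPi, -, V, hV, hVi⟩ := pullback_stalk_data ν GrothLib.NormFib.isNormalScheme_normalization hν (j q)
  haveI := hPi
  haveI : IsFinite π := MorphismProperty.pullback_snd ν (X₀.fromSpecStalk (j q)) hfin
  haveI : IsIso (π ∣_ V) := hVi
  have hbirπ := Birat.birational_of_openImmersion π ⟨π ⁻¹ᵁ V, (by
    obtain ⟨v, hv⟩ := hV
    exact ⟨_, ((π ∣_ V).homeomorph.symm ⟨v, hv⟩).2⟩), by rw [← morphismRestrict_ι]; infer_instance⟩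
  have hON : ∀ p : Spec (CommRingCat.of O), IsIntegrallyClosed ((Spec (CommRingCat.of O)).presheaf.stalk p) := fun p => by
    haveI : IsIntegrallyClosed (Localization.AtPrime p.asIdeal) :=
      isIntegrallyClosed_of_isLocalization _ p.asIdeal.primeCompl p.asIdeal.primeCompl_le_nonZeroDivisors
    exact IsIntegrallyClosed.of_equiv
      (AlgebraicGeometry.Spec.stalkIso (CommRingCat.of O) p).symm.commRingCatIsoToRingEquiv
  haveI : IsIso π := Birat.isIso_of_finite_birational π hbirπ.1 hbirπ.2 hON
  let cl : Spec (CommRingCat.of O) := IsLocalRing.closedPoint (X₀.presheaf.stalk (j q))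
  let i : Spec (CommRingCat.of O) ⟶ Curv2.normalization X₀ := inv π ≫ pullback.fst ν (X₀.fromSpecStalk (j q))
  haveI : Flat (X₀.fromSpecStalk (j q)) := GrothLib.FEt21.flat_fromSpecStalk _
  haveI : IsPreimmersion (pullback.fst ν (X₀.fromSpecStalk (j q))) :=
    MorphismProperty.pullback_fst ν (X₀.fromSpecStalk (j q)) inferInstance
  haveI : Flat (pullback.fst ν (X₀.fromSpecStalk (j q))) :=
    MorphismProperty.pullback_fst ν (X₀.fromSpecStalk (j q)) inferInstance
  haveI : IsIso (i.stalkMap cl) := RLpsi8.UnibRad.isIso_stalkMap_of_flat_preimmersion i cl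
  refine ⟨Curv2.normalization X₀, ν ≫ b, inferInstance, inferInstance,
    GrothLib.NormFib.isNormalScheme_normalization, exists_isIso_comp ν b hν ⟨J.support.compl, ?_,
      GrothLib.BlowUp.isIso_off_center hb⟩, i cl, ⟨?_⟩⟩
  · refine ⟨genericPoint S, fun h => hJne ?_⟩
    have h1 : J.support = ⊤ := SetLike.ext' (Set.eq_univ_of_forall fun z =>
      (genericPoint_specializes z).mem_closed J.support.isClosed h)
    exact Scheme.IdealSheafData.support_eq_top_iff.1 h1
  · haveI : IsLocalization.AtPrime O cl.asIdeal := IsLocalization.self fun x hx => by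
      by_contra hu
      exact hx (show x ∈ IsLocalRing.maximalIdeal O from hu)
    exact (asIso (i.stalkMap cl)).commRingCatIsoToRingEquiv.trans
      ((AlgebraicGeometry.Spec.stalkIso (CommRingCat.of O) cl).commRingCatIsoToRingEquiv.trans
        ((IsLocalization.algEquiv cl.asIdeal.primeCompl (Localization.AtPrime cl.asIdeal) O).toRingEquiv.trans e₀))

end GrothLib.RatSing29
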