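import Groth.Agent.Lib.RatSing29.StalkRational
import Groth.Agent.Lib.RatSing29.EssExt
import Groth.Agent.Lib.RatSing29.Completion
import Groth.Agent.Lib.N2.Scheme8
import Groth.Agent.S4710

/-!
# Dominating models: curves, stalks
-/

universe u

set_option linter.all false
set_option backward.isDefEq.respectTransparency false

open CategoryTheory CategoryTheory.Limits AlgebraicGeometry Opposite TopologicalSpace

noncomputable section

namespace GrothLib.RatSing29

/-- A proper birational morphism onto a normal scheme of dimension at most one is an isomorphism. -/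
theorem isIso_of_dim_le_one {X Y : Scheme.{u}} [IsIntegral X] [IsIntegral Y] [IsNoetherian Y] (f : X ⟶ Y)
    [IsProper f] (V : Y.Opens) (hV : (V : Set Y).Nonempty) (hiso : IsIso (f ∣_ V))
    (hN : ∀ y : Y, IsIntegrallyClosed (Y.presheaf.stalk y)) (hdim : topologicalKrullDim Y ≤ 1) : IsIso f := by
  haveI := hiso
  haveI : IsLocallyNoetherian X := LocallyOfFiniteType.isLocallyNoetherian f
  haveI : CompactSpace X := QuasiCompact.compactSpace_of_compactSpace f
  haveI : IsNoetherian X := {}
  have hX : topologicalKrullDim X ≤ 1 := dim_le_of_birational f V hV hiso hdim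
  obtain ⟨e, -⟩ := GrothLib.ExcP1.birational_of_iso_over (f := f) V hV
  refine GrothLib.ExcP1.isIso_of_no_curves (f := f) (hX.trans (by norm_num)) V hV hN ?_
  refine Set.eq_empty_iff_forall_notMem.2 fun v hv => ?_
  obtain ⟨c, hvc, hc⟩ := GrothLib.ArSurf29.exists_isClosed_specialization v
  have h1 : genericPoint X ≠ v := by
    intro h
    have h2 := GrothLib.ExcP1.mem_curvesOver_notMem V hv
    obtain ⟨w, hw⟩ := hV
    exact h2 (by rw [← h, e]; exact (genericPoint_specializes w).mem_open V.isOpen hw)
  have h3 := (GrothLib.ArSurf29.two_le_dim (genericPoint_specializes v) hvc h1 fun h => hv.1 (h ▸ hc)).trans hX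
  norm_num at h3

/-- A morphism with a section over an open, whose image is the whole preimage, is an isomorphism there. -/
theorem isPullback_of_section {Z X C : Scheme.{u}} (pr : Z ⟶ X) (g : C ⟶ X) [IsOpenImmersion g]
    (σ : C ⟶ Z) [IsOpenImmersion σ] (h : σ ≫ pr = g) (hr : ∀ z : Z, pr z ∈ Set.range g → z ∈ Set.range σ) :
    IsPullback σ (𝟙 C) pr g ∧ IsIso (pr ∣_ g.opensRange) := by
  let fs := pullback.fst pr g
  let sn := pullback.snd pr g
  let s : C ⟶ pullback pr g := pullback.lift σ (𝟙 C) (by rw [h, Category.id_comp])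
  have hs1 : s ≫ fs = σ := pullback.lift_fst _ _ _
  have hs2 : s ≫ sn = 𝟙 C := pullback.lift_snd _ _ _
  haveI : IsOpenImmersion fs := inferInstance
  haveI : IsOpenImmersion (s ≫ fs) := by rw [hs1]; infer_instance
  haveI : IsOpenImmersion s := IsOpenImmersion.of_comp s fs
  haveI : Surjective s := ⟨fun q => by
    have h1 : pr (fs q) ∈ Set.range g := ⟨sn q, by
      rw [← Scheme.Hom.comp_apply, ← Scheme.Hom.comp_apply]
      exact congrArg (fun m : pullback pr g ⟶ X => m q) pullback.condition.symm⟩
    obtain ⟨c, hc⟩ := hr _ h1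
    refine ⟨c, fs.isOpenEmbedding.injective ?_⟩
    rw [← Scheme.Hom.comp_apply, hs1, hc]⟩
  haveI : Epi s.base := (TopCat.epi_iff_surjective _).mpr s.surjective
  haveI : IsIso s := IsOpenImmersion.isIso s
  haveI : IsIso sn := by
    have : sn = inv s := IsIso.eq_inv_of_hom_inv_id hs2
    rw [this]; infer_instance
  refine ⟨?_, ?_⟩
  · exact IsPullback.of_iso_pullback ⟨by rw [h, Category.id_comp]⟩ (asIso s) hs1 hs2
  · exact ((MorphismProperty.isomorphisms Scheme.{u}).arrow_mk_iso_iff (morphismRestrictOpensRange pr g)).2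
      (inferInstanceAs (IsIso sn))

/-- The generic fibre of a model which maps isomorphically. -/
theorem exists_isPullback_of_iso_over {W X C : Scheme.{u}} (ρ : W ⟶ X) (g : C ⟶ X) [IsOpenImmersion g]
    (h : IsIso (ρ ∣_ g.opensRange)) : ∃ σ : C ⟶ W, IsPullback σ (𝟙 C) ρ g := by
  haveI : IsIso (pullback.snd ρ g) :=
    ((MorphismProperty.isomorphisms Scheme.{u}).arrow_mk_iso_iff (morphismRestrictOpensRange ρ g)).1 h
  exact ⟨inv (pullback.snd ρ g) ≫ pullback.fst ρ g,
    IsPullback.of_iso_pullback ⟨by rw [Category.assoc, pullback.condition, IsIso.inv_hom_id_assoc, Category.id_comp]⟩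
      (asIso (pullback.snd ρ g)).symm rfl (IsIso.inv_hom_id _)⟩

/-- Local rings of schemes with Nagata affine rings are Nagata. -/
theorem isNagata_stalk {X : Scheme.{u}} (hN : ∀ U : X.affineOpens, CAlg.IsNagata Γ(X, U.1)) (x : X) :
    CAlg.IsNagata (X.presheaf.stalk x) := by
  obtain ⟨V, hV, hxV, -⟩ := exists_isAffineOpen_mem_and_subset (show x ∈ (⊤ : X.Opens) from trivial)
  letI := TopCat.Presheaf.algebra_section_stalk X.presheaf (⟨x, hxV⟩ : V)
  haveI := hV.isLocalization_stalk ⟨x, hxV⟩
  let S := (hV.primeIdealOf ⟨x, hxV⟩).asIdeal.primeCompl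
  exact GrothLib.N2.isNagata_of_ringEquiv'
    (IsLocalization.algEquiv S (Localization S) (X.presheaf.stalk x)).toRingEquiv
    (Groth.Agent.S4710.result _ (hN ⟨V, hV⟩) S)

/-- The local rings of a normal modification of a surface with rational singularities are rational. -/
theorem isRationalSing_stalk_of_target {W X : Scheme.{u}} [IsIntegral W] [IsIntegral X] [IsNoetherian X]
    (hN : ∀ U : X.affineOpens, CAlg.IsNagata Γ(X, U.1)) (hXn : Pi1.IsNormalScheme X) (hdim : topologicalKrullDim X ≤ 2)
    (ρ : W ⟶ X) [IsProper ρ] (hWn : Pi1.IsNormalScheme W)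
    (hbir : ∃ U : X.Opens, (U : Set X).Nonempty ∧ IsIso (ρ ∣_ U))
    (w : W) (hrat : Curv2.IsRationalSing (X.presheaf.stalk (ρ w))) :
    Curv2.IsRationalSing (W.presheaf.stalk w) := by
  let x := ρ w
  let O := (X.presheaf.stalk x : Type u)
  obtain ⟨hP, hPn, hPb⟩ := pullback_stalk_data ρ hWn hbir x
  haveI := hP
  haveI : IsIntegrallyClosed O := (hXn x).2
  haveI : IsNoetherianRing O := inferInstanceAs (IsNoetherianRing (X.presheaf.stalk x))
  haveI : Flat (X.fromSpecStalk x) := GrothLib.FEt21.flat_fromSpecStalk x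
  let fs := pullback.fst ρ (X.fromSpecStalk x)
  let sn := pullback.snd ρ (X.fromSpecStalk x)
  haveI : IsPreimmersion fs := MorphismProperty.pullback_fst ρ (X.fromSpecStalk x) inferInstance
  haveI : Flat fs := MorphismProperty.pullback_fst ρ (X.fromSpecStalk x) inferInstance
  haveI : IsProper sn := MorphismProperty.pullback_snd ρ (X.fromSpecStalk x) ‹IsProper ρ›
  obtain ⟨q, hq⟩ : w ∈ Set.range fs := by
    rw [Scheme.Pullback.range_fst]
    exact ⟨IsLocalRing.closedPoint _, Scheme.fromSpecStalk_closedPoint⟩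
  suffices hgoal : Curv2.IsRationalSing (W.presheaf.stalk (fs q)) by rwa [hq] at hgoal
  haveI := RLpsi8.UnibRad.isIso_stalkMap_of_flat_preimmersion fs q
  refine isRationalSing_of_ringEquiv (asIso (fs.stalkMap q)).commRingCatIsoToRingEquiv.symm ?_
  have hdO : ringKrullDim O ≤ 2 := (GrothLib.Ref1.ringKrullDim_stalk_le_topologicalKrullDim x).trans hdim
  by_cases hd2 : ringKrullDim O = 2
  · exact isRationalSing_stalk (A := O) (isNagata_stalk hN x) hd2 hrat sn hPn hPb q
  · have hd1 : topologicalKrullDim (Spec (CommRingCat.of O)) ≤ 1 := by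
      rw [show topologicalKrullDim (Spec (CommRingCat.of O)) = ringKrullDim O from
        PrimeSpectrum.topologicalKrullDim_eq_ringKrullDim O]
      generalize ringKrullDim O = d at hdO hd2
      induction d using WithBot.recBotCoe with
      | bot => exact bot_le
      | coe a =>
        induction a using ENat.recTopCoe with
        | top => exact absurd hdO (by decide)
        | coe n =>
          have h0 : (n : ℕ∞) ≤ 2 := WithBot.coe_le_coe.1 hdO
          have h1 : n ≤ 2 := by exact_mod_cast h0
          have h2 : n ≠ 2 := fun h => hd2 (by subst h; rfl)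
          exact WithBot.coe_le_coe.2 (show (n : ℕ∞) ≤ 1 by exact_mod_cast (show n ≤ 1 by omega))
    obtain ⟨V, hV, hVi⟩ := hPb
    haveI : IsIso sn := isIso_of_dim_le_one (Y := Spec (CommRingCat.of O)) sn V hV hVi
      (fun y => (GrothLib.ProperFib19.isNormalScheme_spec O y).2) hd1
    have hqc : sn q = IsLocalRing.closedPoint O := by
      refine (X.fromSpecStalk x).isEmbedding.injective ?_
      rw [Scheme.fromSpecStalk_closedPoint, ← Scheme.Hom.comp_apply]
      refine (congrArg (fun m : pullback ρ (X.fromSpecStalk x) ⟶ X => m q) pullback.condition.symm).trans ?_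
      show ρ (fs q) = x
      rw [hq]
    refine isRationalSing_of_ringEquiv (asIso (sn.stalkMap q)).commRingCatIsoToRingEquiv ?_
    rw [hqc]
    exact isRationalSing_of_ringEquiv (stalkClosedPointIso (CommRingCat.of O)).symm.commRingCatIsoToRingEquiv hrat

end GrothLib.RatSing29
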