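import Groth.Agent.Lib.ArSurf29.ModelSurface
import Groth.Prelude.Def_Pi1

/-!
# A normal proper model of a curve is an integral surface
-/

universe u

set_option linter.all false
set_option backward.isDefEq.respectTransparency false

open CategoryTheory CategoryTheory.Limits AlgebraicGeometry TopologicalSpace IsLocalRing

noncomputable section

namespace GrothLib.RatSing29

open GrothLib.ArSurf29

variable {R : Type u} [CommRing R] [IsDomain R] [IsDiscreteValuationRing R]
  {X : Over (Spec (CommRingCat.of R))} [Flat X.hom]
  {C : Scheme.{u}} {f : C ⟶ Spec (CommRingCat.of (FractionRing R))} {g : C ⟶ X.left}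
  (hg : IsPullback g f X.hom (Spec.map (CommRingCat.ofHom (algebraMap R (FractionRing R)))))
  [IsIntegral C]

variable [IsProper X.hom] (hX : Pi1.IsNormalScheme X.left)
include hg hX

theorem isIntegral_of_normalModel : IsIntegral X.left := by
  haveI : IsLocallyNoetherian X.left := LocallyOfFiniteType.isLocallyNoetherian X.hom
  haveI : CompactSpace X.left := QuasiCompact.compactSpace_of_compactSpace X.hom
  haveI : IsNoetherian X.left := {}
  haveI : Nonempty X.left := ⟨g (genericPoint C)⟩
  haveI : ConnectedSpace X.left := by
    refine connectedSpace_iff_univ.2 ?_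
    rw [← closure_range_generic hg]
    exact (isConnected_range g.continuous).closure
  refine GrothLib.Ref1.isIntegral_of_connected fun x => ?_
  exact (hX x).1

/-- The local rings of a normal proper model have dimension at most two. -/
theorem dim_le_two_of_normalModel (hC : topologicalKrullDim C ≤ 1) : topologicalKrullDim X.left ≤ 2 := by
  haveI := isIntegral_of_normalModel hg hX
  haveI : IsLocallyNoetherian X.left := LocallyOfFiniteType.isLocallyNoetherian X.hom
  rw [GrothLib.AlgSp.topologicalKrullDim_eq_iSup_stalk]
  refine iSup_le fun x => ?_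
  obtain ⟨n, hn, -⟩ := GrothLib.Altitude.exists_trdeg_eq_dim_closure X.hom x
  obtain ⟨m, hm, hmdim⟩ := GrothLib.Altitude.exists_trdeg_eq_dim_closure X.hom (genericPoint X.left)
  have hm1 : m ≤ 1 := by
    haveI := isOpenImmersion_generic hg
    let F := X.hom.fiber (X.hom (genericPoint X.left))
    let ι := X.hom.fiberι (X.hom (genericPoint X.left))
    have hsub : ∀ z : F, ι z ∈ Set.range g := fun z => by
      rw [range_generic hg]
      intro hz
      have h1 : ι z ∈ X.hom ⁻¹' {X.hom (genericPoint X.left)} := (X.hom.range_fiberι _).le ⟨z, rfl⟩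
      have h2 : genericPoint X.left ∈ Models.specialFibreSet R X := (Eq.symm h1).trans hz
      rw [← genericPoint_eq hg] at h2
      exact (range_generic hg).le ⟨genericPoint C, rfl⟩ h2
    choose φ hφ using hsub
    have hind : Topology.IsInducing (g ∘ φ) := by
      rw [show g ∘ φ = ι from funext hφ]
      exact ι.isEmbedding.isInducing
    have hφc : Continuous φ := g.isEmbedding.isInducing.continuous_iff.2 (by
      rw [show g ∘ φ = ι from funext hφ]
      exact ι.continuous)
    have h3 : (m : WithBot ℕ∞) ≤ 1 := by
      rw [← hmdim]
      exact Topology.IsInducing.subtypeVal.topologicalKrullDim_le.trans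
        ((Topology.IsInducing.of_comp hφc g.continuous hind).topologicalKrullDim_le.trans hC)
    exact_mod_cast h3
  have hcomp : ∀ ξ : X.left, closure {ξ} ∈ irreducibleComponents ↥X.left → ξ = genericPoint X.left := fun ξ hξ => by
    rw [irreducibleComponents_eq_singleton, Set.mem_singleton_iff] at hξ
    exact (genericPoint_spec X.left).eq hξ |>.symm
  have h := GrothLib.DimFormula.ringKrullDim_stalk_add_trdeg_le X.hom x n 1 hn fun ξ hξ _ => by
    rw [hcomp ξ hξ, hm]
    exact_mod_cast hm1
  have hR : ringKrullDim ((Spec (CommRingCat.of R)).presheaf.stalk (X.hom x)) ≤ 1 :=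
    (GrothLib.Ref1.ringKrullDim_stalk_le_topologicalKrullDim _).trans (by
      rw [show topologicalKrullDim (Spec (CommRingCat.of R)) = ringKrullDim R from
        PrimeSpectrum.topologicalKrullDim_eq_ringKrullDim R]
      exact le_of_eq (IsDiscreteValuationRing.ringKrullDim_eq_one R))
  refine le_trans (le_add_of_nonneg_right (by simp)) (h.trans (le_trans (add_le_add hR le_rfl) ?_))
  norm_num

omit hX in
/-- The generic point of a model is not closed. -/
theorem not_isClosed_genericPoint [IsIntegral X.left] : ¬ IsClosed ({genericPoint X.left} : Set X.left) := by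
  intro h
  have h1 := X.hom.isClosedMap _ h
  rw [Set.image_singleton, ← genericPoint_eq hg] at h1
  have h2 : g (genericPoint C) ∉ Models.specialFibreSet R X := fun hx => (range_generic hg).le ⟨_, rfl⟩ hx
  exact h2 ((IsLocalRing.specializes_closedPoint (X.hom (g (genericPoint C)))).mem_closed h1 rfl).symm

end GrothLib.RatSing29
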