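import Groth.Agent.Lib.RatSing29.Dominate
import Groth.Agent.Lib.RatSing29.NormalModel
import Groth.Agent.Lib.CycP1.Graph
import Groth.Agent.Lib.CurvePoints.Basic
import Groth.Agent.Lib.MorQ9.Normal

/-!
# The closure of the graph of two models, and comparison of local rings
-/

universe u

set_option linter.all false
set_option backward.isDefEq.respectTransparency false

open CategoryTheory CategoryTheory.Limits AlgebraicGeometry Opposite TopologicalSpace

noncomputable section

namespace GrothLib.RatSing29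

/-- The closure of the graph of the birational correspondence of two models. -/
theorem exists_graph {R : Type u} [CommRing R] [IsDomain R] [IsDiscreteValuationRing R]
    {C X₁ X₂ : Scheme.{u}} [IsIntegral C] (f : C ⟶ Spec (CommRingCat.of (FractionRing R))) [IsProper f]
    (p₁ : X₁ ⟶ Spec (CommRingCat.of R)) (p₂ : X₂ ⟶ Spec (CommRingCat.of R)) [IsProper p₁] [IsProper p₂]
    (g₁ : C ⟶ X₁) (g₂ : C ⟶ X₂)
    (hg₁ : IsPullback g₁ f p₁ (Spec.map (CommRingCat.ofHom (algebraMap R (FractionRing R)))))
    (hw₂ : g₂ ≫ p₂ = f ≫ Spec.map (CommRingCat.ofHom (algebraMap R (FractionRing R)))) :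
    ∃ (Z : Scheme.{u}) (_ : IsIntegral Z) (j : Z ⟶ pullback p₁ p₂) (σ : C ⟶ Z) (_ : IsOpenImmersion g₁),
      IsClosedImmersion j ∧ IsOpenImmersion σ ∧ σ ≫ j ≫ pullback.fst p₁ p₂ = g₁ ∧
      σ ≫ j ≫ pullback.snd p₁ p₂ = g₂ ∧ IsProper (j ≫ pullback.fst p₁ p₂) ∧ IsProper (j ≫ pullback.snd p₁ p₂) ∧
      IsPullback σ (𝟙 C) (j ≫ pullback.fst p₁ p₂) g₁ ∧
      IsIso ((j ≫ pullback.fst p₁ p₂) ∣_ g₁.opensRange) := by
  let S := Spec (CommRingCat.of R)
  let T := Spec (CommRingCat.of (FractionRing R))
  let gn : T ⟶ S := Spec.map (CommRingCat.ofHom (algebraMap R (FractionRing R)))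
  haveI : IsOpenImmersion gn := by
    obtain ⟨π, hπ⟩ := IsDiscreteValuationRing.exists_irreducible R
    haveI := GrothLib.ArSurf29.isLocalizationAway_fractionRing hπ
    exact IsOpenImmersion.of_isLocalization π
  haveI : IsOpenImmersion g₁ := MorphismProperty.of_isPullback (P := @IsOpenImmersion) hg₁.flip inferInstance
  let γ : C ⟶ pullback p₁ p₂ := pullback.lift g₁ g₂ (hg₁.w.trans hw₂.symm)
  haveI : CompactSpace C := QuasiCompact.compactSpace_of_compactSpace f
  let pS : pullback p₁ p₂ ⟶ S := pullback.fst p₁ p₂ ≫ p₁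
  haveI : IsProper (pullback.fst p₁ p₂) := MorphismProperty.pullback_fst p₁ p₂ ‹IsProper p₂›
  haveI : IsProper (pullback.snd p₁ p₂) := MorphismProperty.pullback_snd p₁ p₂ ‹IsProper p₁›
  haveI : IsProper pS := inferInstance
  haveI : QuasiCompact γ := by
    haveI : (pullback p₁ p₂).IsSeparated := ⟨by rw [← terminal.comp_from pS]; infer_instance⟩
    infer_instance
  haveI : IsImmersion γ := by
    haveI : IsImmersion (γ ≫ pullback.fst p₁ p₂) := by
      rw [pullback.lift_fst]; infer_instance
    exact IsImmersion.of_comp γ (pullback.fst p₁ p₂)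
  haveI : IsIntegral γ.image := GrothLib.CycP1.isIntegral_image γ
  let pr := γ.imageι ≫ pullback.fst p₁ p₂
  have hσ : γ.toImage ≫ pr = g₁ := by
    simp only [pr, Scheme.Hom.toImage_imageι_assoc]
    exact pullback.lift_fst _ _ _
  let γK : C ⟶ pullback pS gn := pullback.lift γ f (by
    simp only [pS, γ, pullback.lift_fst_assoc]; exact hg₁.w)
  haveI : IsProper γK := by
    haveI : IsProper (γK ≫ pullback.snd pS gn) := by
      rw [pullback.lift_snd]; infer_instance
    haveI : IsSeparated (pullback.snd pS gn) := MorphismProperty.pullback_snd pS gn inferInstance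
    exact IsProper.of_comp γK (pullback.snd pS gn)
  have hclosed : ∀ z : γ.image, pr z ∈ Set.range g₁ → z ∈ Set.range γ.toImage := by
    rintro z ⟨c, hc⟩
    have h1 : pS (γ.imageι z) ∈ Set.range gn := ⟨f c, by
      show gn (f c) = p₁ (pr z)
      rw [← hc, ← Scheme.Hom.comp_apply, ← Scheme.Hom.comp_apply]
      exact congrArg (fun m : C ⟶ S => m c) hg₁.w.symm⟩
    obtain ⟨k, hk⟩ : γ.imageι z ∈ Set.range (pullback.fst pS gn) := by
      rw [Scheme.Pullback.range_fst]; exact h1
    have h2 : k ∈ Set.range γK := by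
      have h3 : γ.imageι z ∈ closure (Set.range γ) := by
        have h4 := map_mem_closure γ.imageι.continuous (γ.toImage.denseRange z) (t := Set.range γ) (by
          rintro _ ⟨c', rfl⟩
          exact ⟨c', by rw [← Scheme.Hom.comp_apply, Scheme.Hom.toImage_imageι]⟩)
        exact h4
      rw [← γK.isClosedMap.isClosed_range.closure_eq,
        (pullback.fst pS gn).isEmbedding.isInducing.closure_eq_preimage_closure_image, Set.mem_preimage, hk]
      refine closure_mono ?_ h3
      rintro _ ⟨c', rfl⟩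
      exact ⟨γK c', ⟨c', rfl⟩, by rw [← Scheme.Hom.comp_apply, pullback.lift_fst]⟩
    obtain ⟨c', hc'⟩ := h2
    refine ⟨c', γ.imageι.isClosedEmbedding.injective ?_⟩
    rw [← Scheme.Hom.comp_apply, Scheme.Hom.toImage_imageι, ← hk, ← hc', ← Scheme.Hom.comp_apply, pullback.lift_fst]
  obtain ⟨hsq, hU⟩ := isPullback_of_section pr g₁ γ.toImage hσ hclosed
  refine ⟨γ.image, inferInstance, γ.imageι, γ.toImage, inferInstance, inferInstance, inferInstance, hσ, ?_,
    inferInstance, inferInstance, hsq, hU⟩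
  rw [Scheme.Hom.toImage_imageι_assoc]
  exact pullback.lift_snd _ _ _

/-- The image of a local ring in the stalk at a generalisation, seen in a birational scheme. -/
def jmap {C Z : Scheme.{u}} (σ : C ⟶ Z) (c : C) {z : Z} (h : σ c ⤳ z) :
    Z.presheaf.stalk z →+* C.presheaf.stalk c :=
  (σ.stalkMap c).hom.comp (Z.presheaf.stalkSpecializes h).hom

theorem jmap_stalkMap {C Z X : Scheme.{u}} (σ : C ⟶ Z) (π : Z ⟶ X) {g : C ⟶ X} (e : σ ≫ π = g) (c : C) {z : Z}
    (h : σ c ⤳ z) (h' : g c ⤳ π z) (t : X.presheaf.stalk (π z)) :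
    jmap σ c h ((π.stalkMap z).hom t) = jmap g c h' t := by
  subst e
  simp only [jmap, RingHom.comp_apply]
  have h1 := Scheme.Hom.stalkSpecializes_stalkMap_apply π (σ c) z h t
  rw [Scheme.Hom.stalkMap_comp]
  exact congrArg (σ.stalkMap c).hom h1.symm

theorem jmap_injective {C Z : Scheme.{u}} [IsIntegral Z] [IsIntegral C] (σ : C ⟶ Z) [IsOpenImmersion σ] {z : Z}
    (h : σ (genericPoint C) ⤳ z) : Function.Injective (jmap σ (genericPoint C) h) := by
  have h1 : Function.Injective (σ.stalkMap (genericPoint C)) :=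
    (ConcreteCategory.bijective_of_isIso (σ.stalkMap (genericPoint C))).1
  refine h1.comp ?_
  have hη : genericPoint Z ⤳ σ (genericPoint C) := genericPoint_specializes _
  refine Function.Injective.of_comp (f := Z.presheaf.stalkSpecializes hη) ?_
  intro a b hab
  refine GrothLib.MorQ9.injective_stalkSpecializes_generic z ?_
  simpa [TopCat.Presheaf.stalkSpecializes_comp_apply] using hab

/-- Local rings of one separated integral scheme are compared inside the function field. -/
theorem specializes_of_jmap_le {C Z : Scheme.{u}} [IsIntegral C] [IsIntegral Z] [Z.IsSeparated] (σ : C ⟶ Z)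
    [IsOpenImmersion σ] {x y : Z} (hx : σ (genericPoint C) ⤳ x) (hy : σ (genericPoint C) ⤳ y)
    (h : Set.range (jmap σ (genericPoint C) hx) ⊆ Set.range (jmap σ (genericPoint C) hy)) : y ⤳ x := by
  refine GrothLib.MorQ9.specializes_of_stalk_le x y ?_
  rintro _ ⟨a, rfl⟩
  obtain ⟨b, hb⟩ := h ⟨a, rfl⟩
  refine ⟨b, ?_⟩
  have hs : Z.presheaf.stalkSpecializes hy b = Z.presheaf.stalkSpecializes hx a :=
    (ConcreteCategory.bijective_of_isIso (σ.stalkMap (genericPoint C))).1 hb
  have hη : genericPoint Z ⤳ σ (genericPoint C) := genericPoint_specializes _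
  have := congrArg (Z.presheaf.stalkSpecializes hη) hs
  simpa [TopCat.Presheaf.stalkSpecializes_comp_apply] using this

end GrothLib.RatSing29
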