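import Groth.Agent.Lib.Ample.FiniteGen
import Groth.Agent.Lib.CurveMult.GGCurve
import Groth.Agent.Lib.LocProj.Scheme
import Groth.Agent.Lib.Cohom.Vanishing
import Groth.Agent.Lib.ExcP1.Affine

/-!
# Degree one cohomology on the blow-up of an affine scheme in two elements
-/

universe u

set_option linter.all false
set_option backward.isDefEq.respectTransparency false

open CategoryTheory CategoryTheory.Limits AlgebraicGeometry Opposite TopologicalSpace Abelian MvPolynomial
open GrothLib.InvExt (mres)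
open GrothLib.Cohom

noncomputable section

namespace GrothLib.RatSing29

variable {X : Scheme.{u}}

/-- On an affine open the restrictions of spanning global sections span. -/
theorem span_eq_top_of_spanned {M : X.Modules} [M.IsQuasicoherent] {ι : Type*} {s : ι → Γ(M, ⊤)}
    (h : Ample.Spanned M s) {U : X.Opens} (hU : IsAffineOpen U) :
    Submodule.span Γ(X, U) (Set.range fun i => mres M (le_top : U ≤ ⊤) (s i)) = ⊤ := by
  refine eq_top_iff.2 fun m _ => ?_
  set S := Submodule.span Γ(X, U) (Set.range fun i => mres M (le_top : U ≤ ⊤) (s i))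
  let J : Ideal Γ(X, U) := Submodule.comap (LinearMap.toSpanSingleton Γ(X, U) Γ(M, U) m) S
  suffices hJ : J = ⊤ by
    have h1 : (1 : Γ(X, U)) ∈ J := hJ ▸ Submodule.mem_top
    simpa [J, Submodule.mem_comap] using h1
  by_contra hne
  obtain ⟨P, hP, hle⟩ := Ideal.exists_le_maximal _ hne
  let x : X := hU.fromSpec ⟨P, hP.isPrime⟩
  have hx : x ∈ U := hU.range_fromSpec.le ⟨_, rfl⟩
  obtain ⟨W, hW, hxW, hspan⟩ := h U m x hx
  obtain ⟨f, hfW, hxf⟩ := hU.exists_basicOpen_le (V := W) ⟨x, hxW⟩ hx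
  have h1 := Ample.mres_mem_span_range hfW hspan
  rw [InvExt.mres_mres] at h1
  letI := GrothLib.LocProj.secBasicModule M f
  haveI := GrothLib.LocProj.isLocalizedModule_resBasic M f hU
  let L := GrothLib.LocProj.resBasic M f
  have h2 : ∀ z ∈ Submodule.span Γ(X, X.basicOpen f)
      (Set.range fun i => mres M (le_top : X.basicOpen f ≤ ⊤) (s i)),
      ∃ k : ℕ, ∃ t ∈ S, f ^ k • z = L t := by
    intro z hz
    induction hz using Submodule.span_induction with
    | mem y hy =>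
      obtain ⟨i, rfl⟩ := hy
      refine ⟨0, _, Submodule.subset_span ⟨i, rfl⟩, ?_⟩
      rw [pow_zero, one_smul]
      exact (InvExt.mres_mres M _ _ _).symm
    | zero => exact ⟨0, 0, zero_mem _, by simp⟩
    | add y w _ _ hy hw =>
      obtain ⟨k, t, ht, e⟩ := hy
      obtain ⟨l, v, hv, e'⟩ := hw
      refine ⟨k + l, f ^ l • t + f ^ k • v, add_mem (S.smul_mem _ ht) (S.smul_mem _ hv), ?_⟩
      rw [map_add, map_smul, map_smul, ← e, ← e', smul_add, ← mul_smul, ← mul_smul, ← pow_add, ← pow_add,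
        add_comm l k]
    | smul c y _ hy =>
      obtain ⟨k, t, ht, e⟩ := hy
      haveI := hU.isLocalization_basicOpen f
      obtain ⟨⟨r, ⟨_, l, rfl⟩⟩, hr⟩ := IsLocalization.surj (Submonoid.powers f) c
      refine ⟨l + k, r • t, S.smul_mem _ ht, ?_⟩
      rw [map_smul, ← e]
      show algebraMap Γ(X, U) Γ(X, X.basicOpen f) (f ^ (l + k)) • c • y =
        algebraMap Γ(X, U) Γ(X, X.basicOpen f) r • algebraMap Γ(X, U) Γ(X, X.basicOpen f) (f ^ k) • y
      rw [← hr, smul_smul, smul_smul, pow_add, map_mul]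
      congr 1
      ring
  obtain ⟨k, t, ht, e⟩ := h2 _ h1
  have e' : L (f ^ k • m) = L t := by rw [map_smul, ← e]; rfl
  obtain ⟨⟨_, l, rfl⟩, hl⟩ := (IsLocalizedModule.eq_iff_exists (Submonoid.powers f) L).1 e'
  have hf : f ^ (l + k) ∈ J := by
    show f ^ (l + k) • m ∈ S
    rw [pow_add, mul_smul]
    exact (show f ^ l • (f ^ k • m) = f ^ l • t from hl) ▸ S.smul_mem _ ht
  have hfP : f ∈ P := hP.isPrime.mem_of_pow_mem _ (hle hf)
  have h3 : (⟨P, hP.isPrime⟩ : PrimeSpectrum Γ(X, U)) ∈ PrimeSpectrum.basicOpen f := by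
    have h4 : (⟨P, hP.isPrime⟩ : PrimeSpectrum Γ(X, U)) ∈ hU.fromSpec ⁻¹ᵁ X.basicOpen f := hxf
    rw [hU.fromSpec_preimage_basicOpen] at h4
    exact h4
  exact h3 hfP

section Charts

open GrothLib.Ample GrothLib.Ample.ProjMap GrothLib.ExcP1 GrothLib.BlowUp17

variable {A : Type u} [CommRing A] (a : Fin 2 → A) {b : X ⟶ Spec (CommRingCat.of A)}
  (hb : _root_.BlowUp.IsBlowUp b (GrothLib.BlowUp.idealSheaf (ctr a)))

local notation "U₀" => GrothLib.ExcP1.U a hb 0
local notation "U₁" => GrothLib.ExcP1.U a hb 1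

/-- The functions on the overlap of the two charts are sums of functions on the charts. -/
theorem exists_sum (y : Γ(X, U₀ ⊓ U₁)) :
    ∃ (p : Γ(X, U₀)) (q : Γ(X, U₁)),
      res (inf_le_left : U₀ ⊓ U₁ ≤ U₀) p + res (inf_le_right : U₀ ⊓ U₁ ≤ U₁) q = y := by
  let t := GrothLib.ExcP1.φ a hb 0 1
  let r₀ := res (inf_le_left : U₀ ⊓ U₁ ≤ U₀)
  let r₁ := res (inf_le_right : U₀ ⊓ U₁ ≤ U₁)
  let u := GrothLib.ExcP1.φ a hb 1 0
  have htu : r₀ t * r₁ u = 1 := by
    show res _ (GrothLib.ExcP1.φ a hb 0 1) * res _ (GrothLib.ExcP1.φ a hb 1 0) = 1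
    rw [← φ_change a hb 0 1 0 (U₀ ⊓ U₁) inf_le_left inf_le_right, φ_self, map_one]
  have key : ∀ (P : MvPolynomial (Var (0 : Fin 2)) A) (m : ℕ), ∃ (p : Γ(X, U₀)) (q : Γ(X, U₁)),
      r₀ p + r₁ q = r₀ (pieceHom (data a hb) 0 P) * r₁ u ^ m := by
    intro P
    induction P using MvPolynomial.induction_on with
    | C c =>
      intro m
      refine ⟨0, img (b := b) U₁ c * u ^ m, ?_⟩
      rw [map_zero, zero_add, map_mul, map_pow]
      congr 1
      have h1 : pieceHom (data a hb) 0 (MvPolynomial.C c) = img (b := b) U₀ c := eval₂Hom_C _ _ c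
      rw [h1]
      show res _ (img U₁ c) = res _ (img U₀ c)
      rw [res_img, res_img]
    | add P Q hP hQ =>
      intro m
      obtain ⟨p, q, h⟩ := hP m
      obtain ⟨p', q', h'⟩ := hQ m
      refine ⟨p + p', q + q', ?_⟩
      rw [map_add, map_add, map_add, map_add, add_mul, ← h, ← h']
      ring
    | mul_X P j hP =>
      intro m
      have hj : pieceHom (data a hb) 0 (MvPolynomial.X j) = t := by
        have e : j.1 = 1 := by
          have := j.2
          omega
        refine (eval₂Hom_X' _ _ j).trans ?_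
        show GrothLib.ExcP1.φ a hb 0 j.1 = _
        rw [e]
      cases m with
      | zero => exact ⟨pieceHom (data a hb) 0 (P * MvPolynomial.X j), 0, by rw [map_zero, pow_zero, mul_one, add_zero]⟩
      | succ m =>
        obtain ⟨p, q, h⟩ := hP m
        refine ⟨p, q, ?_⟩
        rw [h, map_mul, hj, map_mul, pow_succ, mul_assoc, mul_comm (r₁ u ^ m) (r₁ u), ← mul_assoc (r₀ t), htu,
          one_mul]
  have hloc := (isAffineOpen_U a hb 0).isLocalization_basicOpen t
  let e : X.basicOpen t = U₀ ⊓ U₁ := basicOpen_φ a hb 0 1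
  obtain ⟨⟨r, ⟨_, m, rfl⟩⟩, hr⟩ := IsLocalization.surj (Submonoid.powers t) (res e.le y)
  obtain ⟨P, rfl⟩ := pieceHom_surjective a hb 0 r
  obtain ⟨p, q, h⟩ := key P m
  refine ⟨p, q, h.trans ?_⟩
  have h2 := congrArg (res (show U₀ ⊓ U₁ ≤ X.basicOpen t from e.ge)) hr
  rw [map_mul, GrothLib.Ample.res_res, GrothLib.Ample.res_self] at h2
  have h3 : ∀ z : Γ(X, U₀), res (show U₀ ⊓ U₁ ≤ X.basicOpen t from e.ge) (algebraMap Γ(X, U₀) Γ(X, X.basicOpen t) z) = r₀ z :=
    fun z => GrothLib.Ample.res_res _ _ z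
  rw [h3, h3] at h2
  rw [← h2, mul_assoc, map_pow, ← mul_pow, htu, one_pow, mul_one]

include hb in
/-- Degree one cohomology of a globally generated module vanishes on the blow-up in two elements. -/
theorem subsingleton_h1 (F : X.Modules) [F.IsQuasicoherent] (hgg : Curv2.IsGloballyGenerated F) :
    Subsingleton (Ext.{u} (freeFun.obj (⊤ : X.Opens)) (Coh.toAb F) 1) := by
  obtain ⟨ι, s, hs⟩ := GrothLib.CurveMult.spanned_of_isGloballyGenerated hgg
  refine subsingleton_of_forall_eq 0 fun x => ?_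
  haveI := subsingleton_ext_freeFun_of_isAffineOpen (isAffineOpen_U a hb 0) F 0
  haveI := subsingleton_ext_freeFun_of_isAffineOpen (isAffineOpen_U a hb 1) F 0
  have hcov : U₀ ⊔ U₁ = ⊤ := by
    rw [← iSup_U a hb]
    refine le_antisymm (sup_le (le_iSup _ 0) (le_iSup _ 1)) (iSup_le fun i => ?_)
    fin_cases i
    · exact le_sup_left
    · exact le_sup_right
  refine eq_zero_of_res_eq_zero (Coh.toAb F) 0 hcov (fun y => ?_) x (Subsingleton.elim _ _) (Subsingleton.elim _ _)
  let W := U₀ ⊓ U₁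
  have key : ∀ m : Γ(F, W), ∃ (p : Γ(F, U₀)) (q : Γ(F, U₁)),
      mres F (inf_le_left : W ≤ U₀) p - mres F (inf_le_right : W ≤ U₁) q = m := by
    intro m
    have hW : IsAffineOpen W := by
      show IsAffineOpen (U₀ ⊓ U₁)
      rw [← basicOpen_φ a hb 0 1]
      exact (isAffineOpen_U a hb 0).basicOpen _
    have hm : m ∈ Submodule.span Γ(X, W) (Set.range fun i => mres F (le_top : W ≤ ⊤) (s i)) :=
      (span_eq_top_of_spanned hs hW).ge Submodule.mem_top
    obtain ⟨c, hc⟩ := Finsupp.mem_span_range_iff_exists_finsupp.mp hm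
    choose p q hpq using fun i => exists_sum a hb (c i)
    refine ⟨∑ i ∈ c.support, p i • mres F (le_top : U₀ ≤ ⊤) (s i),
      ∑ i ∈ c.support, (-q i) • mres F (le_top : U₁ ≤ ⊤) (s i), ?_⟩
    rw [← hc, Finsupp.sum]
    rw [show mres F (inf_le_left : W ≤ U₀) (∑ i ∈ c.support, p i • mres F (le_top : U₀ ≤ ⊤) (s i)) =
        ∑ i ∈ c.support, mres F (inf_le_left : W ≤ U₀) (p i • mres F (le_top : U₀ ≤ ⊤) (s i)) from map_sum _ _ _,
      show mres F (inf_le_right : W ≤ U₁) (∑ i ∈ c.support, (-q i) • mres F (le_top : U₁ ≤ ⊤) (s i)) =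
        ∑ i ∈ c.support, mres F (inf_le_right : W ≤ U₁) ((-q i) • mres F (le_top : U₁ ≤ ⊤) (s i)) from map_sum _ _ _,
      ← Finset.sum_sub_distrib]
    refine Finset.sum_congr rfl fun i _ => ?_
    rw [InvExt.mres_smul, InvExt.mres_smul, InvExt.mres_mres, InvExt.mres_mres, ← sub_smul, ← hpq i]
    congr 1
    show res _ (p i) - res _ (-q i) = res _ (p i) + res _ (q i)
    rw [map_neg, sub_neg_eq_add]
  obtain ⟨p, q, hpq⟩ := key (H0Equiv (Coh.toAb F) W y)
  refine ⟨(H0Equiv (Coh.toAb F) U₀).symm p, (H0Equiv (Coh.toAb F) U₁).symm q, ?_⟩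
  apply (H0Equiv (Coh.toAb F) W).injective
  rw [map_sub, H0Equiv_res, H0Equiv_res, AddEquiv.apply_symm_apply, AddEquiv.apply_symm_apply]
  exact hpq

end Charts

end GrothLib.RatSing29
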