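import Groth.Agent.Lib.RatSing29.StalkRational
import Groth.Agent.Lib.RLpsi8.ReesProj
import Groth.Agent.Lib.ProjQ9.Basic
import Groth.Agent.Lib.ProjQ8.Ops
import Groth.Agent.Lib.ProjQ8.Bundle
import Groth.Agent.Lib.NormAmple.Descent

/-!
# Normal modifications with maximal first cohomology
-/

universe u

set_option linter.all false
set_option backward.isDefEq.respectTransparency false

open CategoryTheory CategoryTheory.Limits AlgebraicGeometry Opposite TopologicalSpace

noncomputable section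

namespace GrothLib.RatSing29

/-- The normalized blow-up of an integral Noetherian Nagata scheme is projective. -/
theorem exists_projective_normal_blowUp (Z : Scheme.{u}) [IsIntegral Z] [IsNoetherian Z]
    (hN : ∀ U : Z.affineOpens, CAlg.IsNagata Γ(Z, U.1)) (E : Z.IdealSheafData) (hE : E ≠ ⊥) :
    ∃ (W : Scheme.{u}) (g : W ⟶ Z) (_ : IsProper g) (_ : IsIntegral W),
      Pi1.IsNormalScheme W ∧ (∃ V : Z.Opens, (V : Set Z).Nonempty ∧ IsIso (g ∣_ V)) ∧
      _root_.BlowUp.IsEffCartierIdeal (E.comap g) ∧ RelProj.IsProjective g := by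
  obtain ⟨X, b, hb⟩ := GrothLib.BlowUp.exists_isBlowUp Z E
  obtain ⟨hXi, hgen, -⟩ := Groth.Agent.S2348.result E hE b hb
  haveI := hXi
  haveI : IsProper b := GrothLib.BlowUpProper.isProper_of_isBlowUp hb
  haveI : IsLocallyNoetherian X := LocallyOfFiniteType.isLocallyNoetherian b
  haveI : CompactSpace X := QuasiCompact.compactSpace_of_compactSpace b
  haveI : IsNoetherian X := {}
  haveI : QuasiCompact (X.fromSpecStalk (genericPoint X)) := inferInstance
  haveI : QuasiSeparated (X.fromSpecStalk (genericPoint X)) := inferInstance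
  have hfin := GrothLib.NormFib.isFinite_of_nagata (GrothLib.BlowUpProper.isNagata_of_locallyOfFiniteType b hN)
  haveI := hfin
  let ν := Curv2.normalizationι X
  have hν := GrothLib.NormFib.exists_isIso_of_finite hfin
  let Y := Curv2.normalization X
  have hνη : ν (genericPoint Y) = genericPoint X := by
    obtain ⟨V', ⟨x, hx⟩, hV'i⟩ := hν
    haveI := hV'i
    haveI : IsOpenImmersion ((ν ⁻¹ᵁ V').ι ≫ ν) := by rw [← morphismRestrict_ι]; infer_instance
    obtain ⟨e, -⟩ := Birat.birational_of_openImmersion ν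
      ⟨ν ⁻¹ᵁ V', ⟨_, ((ν ∣_ V').homeomorph.symm ⟨x, hx⟩).2⟩, ‹_›⟩
    exact e
  refine ⟨Y, ν ≫ b, inferInstance, inferInstance, GrothLib.NormFib.isNormalScheme_normalization, ?_, ?_, ?_⟩
  · refine exists_isIso_comp ν b hν ⟨E.support.compl, ?_, GrothLib.BlowUp.isIso_off_center hb⟩
    refine ⟨genericPoint Z, fun h => hE ?_⟩
    have h1 : E.support = ⊤ := SetLike.ext' (Set.eq_univ_of_forall fun z =>
      (genericPoint_specializes z).mem_closed E.support.isClosed h)
    exact Scheme.IdealSheafData.support_eq_top_iff.1 h1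
  · rw [Scheme.IdealSheafData.comap_comp]
    exact isEffCartierIdeal_comap_of_generic ν hνη hb.1
  · obtain ⟨-, -, L, hL⟩ := GrothLib.ProjQ9.isQuasiProjective_of_isProjective
      (GrothLib.RLpsi8.ReesAlg.isProjective_of_isBlowUp (fun U => (IsLocallyNoetherian.component_noetherian U).noetherian _) hb)
    exact GrothLib.VA.isProjective_of_isQuasiProjective (ν ≫ b)
      ⟨inferInstance, inferInstance, _, GrothLib.NormAmple.isRelAmple_pullback (g := ν) b hL⟩

/-- **The local rings of a normal modification with maximal `H¹` are rational.** -/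
theorem isRationalSing_stalk_of_max {A : Type u} [CommRing A] [IsDomain A] [IsLocalRing A] [IsNoetherianRing A]
    [IsIntegrallyClosed A] (hN : CAlg.IsNagata A) (hdim : ringKrullDim A = 2)
    {X : Scheme.{u}} [X.Over (Spec (CommRingCat.of A))] [IsProper (X ↘ Spec (CommRingCat.of A))] [IsIntegral X]
    (hXn : Pi1.IsNormalScheme X)
    (hbir : ∃ U : (Spec (CommRingCat.of A)).Opens, (U : Set (Spec (CommRingCat.of A))).Nonempty ∧
      IsIso ((X ↘ Spec (CommRingCat.of A)) ∣_ U))
    (hfin : Module.length A (Coh.HH X (Coh.structureModule X) 1) ≠ ⊤)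
    (hmax : ∀ (W : Scheme.{u}) [W.Over (Spec (CommRingCat.of A))], IsProper (W ↘ Spec (CommRingCat.of A)) →
      IsIntegral W → Pi1.IsNormalScheme W →
      (∃ U : (Spec (CommRingCat.of A)).Opens, (U : Set (Spec (CommRingCat.of A))).Nonempty ∧
        IsIso ((W ↘ Spec (CommRingCat.of A)) ∣_ U)) →
      Module.length A (Coh.HH W (Coh.structureModule W) 1) ≤ Module.length A (Coh.HH X (Coh.structureModule X) 1))
    (z : X) : Curv2.IsRationalSing (X.presheaf.stalk z) := by
  let f := X ↘ Spec (CommRingCat.of A)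
  intro Y h hh hY hYn hYb
  haveI := hh; haveI := hY
  obtain ⟨U, hU, hUi⟩ := hYb
  haveI := hUi
  let O := (X.presheaf.stalk z : Type u)
  haveI : IsLocallyNoetherian X := LocallyOfFiniteType.isLocallyNoetherian f
  haveI : CompactSpace X := QuasiCompact.compactSpace_of_compactSpace f
  haveI : IsNoetherian X := {}
  haveI : IsNoetherian (Spec (CommRingCat.of O)) := inferInstance
  obtain ⟨J, Sb, b, hbJ, hadm, k, hk⟩ := Groth.Agent.S1274.result h U (NoetherianSpace.isCompact _)
  -- the extension of `J` to `X`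
  obtain ⟨V, hzV, -⟩ := GrothLib.BlowUp.exists_affine_mem_le (W := (⊤ : X.Opens)) (x := z) trivial
  let gm := (X.presheaf.germ V.1 z hzV).hom
  let J' : Ideal O := (J.ideal ⟨⊤, isAffineOpen_top _⟩).map (Scheme.ΓSpecIso (X.presheaf.stalk z)).hom.hom
  haveI : IsNoetherianRing Γ(X, V.1) := IsLocallyNoetherian.component_noetherian V
  obtain ⟨E, -, hE⟩ := GrothLib.FlatStrat.exists_ideal_extension V (J'.comap gm) (IsNoetherian.noetherian _)
  have he : (⊤ : (Spec (X.presheaf.stalk z)).Opens) ≤ X.fromSpecStalk z ⁻¹ᵁ V.1 := fun p _ => by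
    have h1 : X.fromSpecStalk z p ⤳ z := by
      have h2 : X.fromSpecStalk z p ∈ Set.range (X.fromSpecStalk z) := ⟨p, rfl⟩
      rw [Scheme.range_fromSpecStalk] at h2
      exact h2
    exact h1.mem_open V.1.isOpen hzV
  have hEJ : E.comap (X.fromSpecStalk z) = J := by
    refine Scheme.IdealSheafData.ext_of_isAffine ?_
    rw [GrothLib.BlowUp.ideal_comap_eq_map E (X.fromSpecStalk z) V ⟨⊤, isAffineOpen_top _⟩ he, hE]
    have h1 : ((X.fromSpecStalk z).appLE V.1 ⊤ he).hom =
        (Scheme.ΓSpecIso (X.presheaf.stalk z)).inv.hom.comp gm :=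
      RingHom.ext fun t => GrothLib.PicAff28.fromSpecStalk_appLE hzV he t
    letI := TopCat.Presheaf.algebra_section_stalk X.presheaf (⟨z, hzV⟩ : V.1)
    have := V.2.isLocalization_stalk ⟨z, hzV⟩
    have h2 : (J'.comap gm).map gm = J' :=
      IsLocalization.map_comap (V.2.primeIdealOf ⟨z, hzV⟩).asIdeal.primeCompl (X.presheaf.stalk z) J'
    rw [h1, ← Ideal.map_map, h2, Ideal.map_map, ← CommRingCat.hom_comp, Iso.hom_inv_id]
    exact Ideal.map_id _
  have hEne : E ≠ ⊥ := by
    intro hEb
    have hJb : J = ⊥ := by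
      refine hEJ ▸ ?_
      rw [hEb, Scheme.IdealSheafData.comap_bot]
    obtain ⟨u, hu⟩ := hU
    exact Set.disjoint_left.1 hadm.2 (show u ∈ (J.support : Set _) by
      rw [hJb, Scheme.IdealSheafData.support_bot]; trivial) hu
  obtain ⟨W, g, hg, hW, hWn, hgb, hgE⟩ := exists_normal_blowUp X
    (GrothLib.BlowUpProper.isNagata_of_locallyOfFiniteType f (isNagata_spec hN)) E hEne
  haveI := hg; haveI := hW
  haveI : IsLocallyNoetherian W := LocallyOfFiniteType.isLocallyNoetherian g
  have hWb := exists_isIso_comp g f hgb hbir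
  letI : W.Over (Spec (CommRingCat.of A)) := ⟨g ≫ f⟩
  haveI : IsProper (W ↘ Spec (CommRingCat.of A)) := inferInstanceAs (IsProper (g ≫ f))
  letI := RpushSupp20.hasInjectiveResolutions W
  obtain ⟨hgg, -, -, hlen⟩ := Groth.Agent.S7338.result A hdim X W hbir hWb hXn g rfl
  -- vanishing of the direct image
  have hle := hmax W inferInstance hW hWn hWb
  rw [hlen] at hle
  have hR0' : Module.length A (Coh.HH X ((Coh.Rpush g 1).obj (Coh.structureModule W)) 0) = 0 :=
    nonpos_iff_eq_zero.1 ((ENat.add_le_add_iff_left hfin).1 (hle.trans (add_zero _).ge))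
  have hR0 : Subsingleton (Coh.HH X ((Coh.Rpush g 1).obj (Coh.structureModule W)) 0) :=
    Module.length_eq_zero_iff.1 hR0'
  have hΓ : Subsingleton Γ((Coh.Rpush g 1).obj (Coh.structureModule W), ⊤) :=
    @Equiv.subsingleton _ _ (ProjCoh.H0top _).symm.toEquiv hR0
  have hRz : IsZero ((Coh.Rpush g 1).obj (Coh.structureModule W)) := by
    obtain ⟨ι, p, hp⟩ := hgg
    haveI := hp
    exact IsZero.of_epi_eq_zero p (Sigma.hom_ext _ _ fun i =>
      (hom_eq_zero_of_subsingleton _ hΓ).trans comp_zero.symm)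
  obtain ⟨hP, hPn, hPb⟩ := pullback_stalk_data g hWn hgb z
  haveI := hP
  let P := pullback g (X.fromSpecStalk z)
  let sP : P ⟶ Spec (CommRingCat.of O) := pullback.snd g (X.fromSpecStalk z)
  letI : P.Over (Spec (CommRingCat.of O)) := ⟨sP⟩
  have hP1 : Subsingleton (Coh.HH P (Coh.structureModule P) 1) := by
    obtain ⟨e⟩ := BCCoh.exists_stalk_Rpush_equiv g (Coh.structureModule W) (HomSh.isCoh_structureModule W) z 1 P
      (pullback.fst g (X.fromSpecStalk z)) (IsPullback.of_hasPullback g (X.fromSpecStalk z))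
    obtain ⟨e', -⟩ := FormalFn.exists_hh_equiv (A := O)
      (PicLoc.pullbackStructureIso (pullback.fst g (X.fromSpecStalk z))) 1
    haveI : Subsingleton (((Coh.Rpush g 1).obj (Coh.structureModule W)).presheaf.stalk z) :=
      ModuleCat.subsingleton_of_isZero ((OX.stalk z).map_isZero hRz)
    exact (e.trans e').toEquiv.symm.subsingleton
  -- the map to `Y`
  haveI : Flat (X.fromSpecStalk z) := GrothLib.FEt21.flat_fromSpecStalk z
  haveI : Flat (pullback.fst g (X.fromSpecStalk z)) :=
    MorphismProperty.pullback_fst g (X.fromSpecStalk z) inferInstance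
  have hPJ : _root_.BlowUp.IsEffCartierIdeal (J.comap sP) := by
    show _root_.BlowUp.IsEffCartierIdeal (J.comap (pullback.snd g (X.fromSpecStalk z)))
    rw [← hEJ, ← Scheme.IdealSheafData.comap_comp, ← pullback.condition, Scheme.IdealSheafData.comap_comp]
    exact GrothLib.BlowUp.isEffCartierIdeal_comap_of_flat _ hgE
  obtain ⟨l, hl, -⟩ := hbJ.2 P sP hPJ
  let m : P ⟶ Y := l ≫ k
  have hm : m ≫ h = sP := by simp only [m, Category.assoc, hk, hl]
  haveI : IsProper sP := MorphismProperty.pullback_snd g (X.fromSpecStalk z) hg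
  haveI : IsProper m := by
    haveI : IsProper (m ≫ h) := by rw [hm]; infer_instance
    exact IsProper.of_comp m h
  obtain ⟨V', hV', hV'i⟩ := hPb
  haveI : IsIso (sP ∣_ V') := hV'i
  let Ω : (Spec (CommRingCat.of O)).Opens := U ⊓ V'
  haveI hfO : IsIso (h ∣_ Ω) := GrothLib.Nagata6.isIso_restrict_of_le h U Ω inf_le_left
  have hrO : IsIso (sP ∣_ Ω) := GrothLib.Nagata6.isIso_restrict_of_le sP V' Ω inf_le_right
  haveI hmO : IsIso (m ∣_ (h ⁻¹ᵁ Ω)) := by
    have h1 := hrO
    rw [← hm, morphismRestrict_comp] at h1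
    haveI := h1
    haveI := hfO
    exact @IsIso.of_isIso_comp_right _ _ _ _ _ (m ∣_ (h ⁻¹ᵁ Ω)) (h ∣_ Ω) hfO h1
  haveI : IsDomain O := inferInstanceAs (IsDomain (X.presheaf.stalk z))
  obtain ⟨u, hu⟩ := hU
  obtain ⟨v, hv⟩ := hV'
  obtain ⟨q, hq⟩ := (h ∣_ Ω).homeomorph.surjective
    ⟨genericPoint _, (genericPoint_specializes u).mem_open U.isOpen hu, (genericPoint_specializes v).mem_open V'.isOpen hv⟩
  exact subsingleton_of_source m (isIso_app_of_birational m (fun y => (hYn y).2) (h ⁻¹ᵁ Ω) ⟨_, q.2⟩ hmO) hP1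

end GrothLib.RatSing29
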