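import Groth.Agent.Lib.RatSing29.GraphModel
import Groth.Agent.S15137
import Groth.Agent.S15136
import Groth.Agent.S2656

/-!
# Normal modifications of models
-/

universe u

set_option linter.all false
set_option backward.isDefEq.respectTransparency false

open CategoryTheory CategoryTheory.Limits AlgebraicGeometry Opposite TopologicalSpace

noncomputable section

namespace GrothLib.RatSing29

variable {R : Type u} [CommRing R] [IsDomain R] [IsDiscreteValuationRing R]

/-- Affine rings of schemes of finite type over a DVR of characteristic zero are Nagata. -/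
theorem isNagata_of_charZero [CharZero (FractionRing R)] {X : Scheme.{u}} (p : X ⟶ Spec (CommRingCat.of R))
    [LocallyOfFiniteType p] : ∀ U : X.affineOpens, CAlg.IsNagata Γ(X, U.1) := by
  haveI : CharZero R := ⟨fun a b h => Nat.cast_injective (R := FractionRing R) (by
    simpa using congrArg (algebraMap R (FractionRing R)) h)⟩
  exact GrothLib.BlowUpProper.isNagata_of_locallyOfFiniteType p (isNagata_spec (Groth.Agent.S2656.result R))

/-- A modification of a model is an isomorphism on the generic fibre. -/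
theorem isIso_over_generic {C X W : Scheme.{u}} [IsIntegral C] (hC1 : topologicalKrullDim C ≤ 1)
    [IsIntegral X] [IsNoetherian X] [IsIntegral W] (hXn : Pi1.IsNormalScheme X) (g : C ⟶ X) [IsOpenImmersion g]
    (ρ : W ⟶ X) [IsProper ρ] (hbir : ∃ V : X.Opens, (V : Set X).Nonempty ∧ IsIso (ρ ∣_ V)) :
    IsIso (ρ ∣_ g.opensRange) := by
  obtain ⟨V₀, ⟨v, hv⟩, hV₀i⟩ := hbir
  haveI := hV₀i
  have hne : ((g.opensRange : X.Opens) : Set X).Nonempty := ⟨_, ⟨genericPoint C, rfl⟩⟩
  haveI : Nonempty (g.opensRange : X.Opens).toScheme := ⟨⟨_, hne.some_mem⟩⟩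
  haveI : IsIntegral (g.opensRange : X.Opens).toScheme := isIntegral_of_isOpenImmersion (g.opensRange).ι
  obtain ⟨u, hu⟩ := hne
  have hη : genericPoint X ∈ g.opensRange := (genericPoint_specializes u).mem_open (g.opensRange).isOpen hu
  haveI : Nonempty (ρ ⁻¹ᵁ g.opensRange : W.Opens).toScheme := by
    obtain ⟨q, hq⟩ := (ρ ∣_ V₀).homeomorph.surjective ⟨genericPoint X, (genericPoint_specializes v).mem_open V₀.isOpen hv⟩
    refine ⟨⟨q.1, ?_⟩⟩
    show ρ q.1 ∈ g.opensRange
    have h : ρ q.1 = genericPoint X := by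
      have h0 := congrArg Subtype.val hq
      rw [show ((ρ ∣_ V₀).homeomorph q).1 = ((ρ ∣_ V₀) ≫ V₀.ι) q from rfl, morphismRestrict_ι] at h0
      exact h0
    rw [h]
    exact hη
  haveI : IsIntegral (ρ ⁻¹ᵁ g.opensRange : W.Opens).toScheme := isIntegral_of_isOpenImmersion (ρ ⁻¹ᵁ g.opensRange).ι
  have hdC : topologicalKrullDim (g.opensRange : X.Opens).toScheme ≤ 1 := by
    rw [← (g.isoOpensRange).inv.homeomorph.symm.isHomeomorph.topologicalKrullDim_eq]
    exact hC1
  haveI : IsProper (ρ ∣_ g.opensRange) := IsZariskiLocalAtTarget.restrict ‹IsProper ρ› _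
  haveI : CompactSpace (g.opensRange : X.Opens).toScheme :=
    isCompact_iff_compactSpace.1 (NoetherianSpace.isCompact _)
  haveI : IsNoetherian (g.opensRange : X.Opens).toScheme := {}
  refine isIso_of_dim_le_one (ρ ∣_ g.opensRange) ((g.opensRange).ι ⁻¹ᵁ V₀)
    ⟨⟨genericPoint X, hη⟩, (genericPoint_specializes v).mem_open V₀.isOpen hv⟩ ?_ (fun y => ?_) hdC
  · refine ((MorphismProperty.isomorphisms Scheme.{u}).arrow_mk_iso_iff
      (morphismRestrictRestrict ρ g.opensRange ((g.opensRange).ι ⁻¹ᵁ V₀))).mpr ?_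
    rw [Scheme.Hom.image_preimage_eq_opensRange_inf, Scheme.Opens.opensRange_ι]
    exact GrothLib.Nagata6.isIso_restrict_of_le ρ V₀ _ inf_le_right
  · haveI := (hXn ((g.opensRange).ι y)).2
    exact IsIntegrallyClosed.of_equiv (asIso ((g.opensRange).ι.stalkMap y)).commRingCatIsoToRingEquiv

/-- A normal integral scheme birational over a model is a model. -/
theorem exists_lift_of_modification {C X W : Scheme.{u}} [IsIntegral C] (hC1 : topologicalKrullDim C ≤ 1)
    {f : C ⟶ Spec (CommRingCat.of (FractionRing R))}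
    (p : X ⟶ Spec (CommRingCat.of R)) [IsProper p] [Flat p] {g : C ⟶ X}
    (hg : IsPullback g f p (Spec.map (CommRingCat.ofHom (algebraMap R (FractionRing R)))))
    [IsIntegral X] (hXn : Pi1.IsNormalScheme X) [IsIntegral W] (ρ : W ⟶ X) [IsProper ρ]
    (hbir : ∃ V : X.Opens, (V : Set X).Nonempty ∧ IsIso (ρ ∣_ V)) :
    ∃ (g' : C ⟶ W), g' ≫ ρ = g ∧ IsPullback g' f (ρ ≫ p) (Spec.map (CommRingCat.ofHom (algebraMap R (FractionRing R)))) ∧
      Flat (ρ ≫ p) ∧ (∀ t : C ⟶ W, t ≫ ρ = g → t = g') := by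
  haveI : IsOpenImmersion g := GrothLib.ArSurf29.isOpenImmersion_generic (X := Over.mk p) hg
  haveI : IsLocallyNoetherian X := LocallyOfFiniteType.isLocallyNoetherian p
  haveI : CompactSpace X := QuasiCompact.compactSpace_of_compactSpace p
  haveI : IsNoetherian X := {}
  haveI := isIso_over_generic hC1 hXn g ρ hbir
  obtain ⟨g', hsq⟩ := exists_isPullback_of_iso_over ρ g inferInstance
  have hsq' : IsPullback g' f (ρ ≫ p) (Spec.map (CommRingCat.ofHom (algebraMap R (FractionRing R)))) := by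
    simpa using hsq.paste_vert hg
  refine ⟨g', by simpa using hsq.w, hsq', ?_, fun t ht => ?_⟩
  · refine GrothLib.CurvePoints.flat_of_dominant ?_ (fun y => (GrothLib.ProperFib19.isNormalScheme_spec R y).2) _ ?_
    · rw [show topologicalKrullDim (Spec (CommRingCat.of R)) = ringKrullDim R from
        PrimeSpectrum.topologicalKrullDim_eq_ringKrullDim R]
      exact le_of_eq (IsDiscreteValuationRing.ringKrullDim_eq_one R)
    · have h1 : (ρ ≫ p) (g' (genericPoint C)) = genericPoint (Spec (CommRingCat.of R)) := by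
        rw [← Scheme.Hom.comp_apply, hsq'.w, Scheme.Hom.comp_apply]
        rw [show f (genericPoint C) = (default : Spec (CommRingCat.of (FractionRing R))) from Subsingleton.elim _ _]
        exact GrothLib.ProperFib19.genMap_default R (FractionRing R)
      have h2 : (ρ ≫ p) (genericPoint W) ⤳ genericPoint (Spec (CommRingCat.of R)) :=
        h1 ▸ (genericPoint_specializes (g' (genericPoint C))).map (ρ ≫ p).continuous
      exact (h2.antisymm (genericPoint_specializes _)).eq
  · have hw : t ≫ ρ = 𝟙 C ≫ g := by rw [Category.id_comp]; exact ht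
    have h2 := hsq.lift_fst t (𝟙 C) hw
    have h3 : hsq.lift t (𝟙 C) hw = 𝟙 C := by simpa using hsq.lift_snd t (𝟙 C) hw
    rw [h3, Category.id_comp] at h2
    exact h2.symm

/-- A normal model dominating a model and mapping to a second target. -/
theorem exists_normal_graph [CharZero (FractionRing R)] {C X₁ X₂ : Scheme.{u}} [IsIntegral C]
    (f : C ⟶ Spec (CommRingCat.of (FractionRing R))) [IsProper f]
    (p₁ : X₁ ⟶ Spec (CommRingCat.of R)) (p₂ : X₂ ⟶ Spec (CommRingCat.of R)) [IsProper p₁] [IsProper p₂]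
    [IsIntegral X₁] (g₁ : C ⟶ X₁) (g₂ : C ⟶ X₂)
    (hg₁ : IsPullback g₁ f p₁ (Spec.map (CommRingCat.ofHom (algebraMap R (FractionRing R)))))
    (hw₂ : g₂ ≫ p₂ = f ≫ Spec.map (CommRingCat.ofHom (algebraMap R (FractionRing R))))
    [Flat p₁] (hC1 : topologicalKrullDim C ≤ 1) (hn₁ : Pi1.IsNormalScheme X₁) :
    ∃ (W : Scheme.{u}) (_ : IsIntegral W) (ρ : W ⟶ X₁) (τ : W ⟶ X₂) (σ : C ⟶ W),
      Pi1.IsNormalScheme W ∧ IsProper ρ ∧ IsProper τ ∧ ρ ≫ p₁ = τ ≫ p₂ ∧ σ ≫ ρ = g₁ ∧ σ ≫ τ = g₂ ∧
      IsPullback σ f (ρ ≫ p₁) (Spec.map (CommRingCat.ofHom (algebraMap R (FractionRing R)))) ∧ Flat (ρ ≫ p₁) ∧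
      ∃ V : X₁.Opens, (V : Set X₁).Nonempty ∧ IsIso (ρ ∣_ V) := by
  obtain ⟨Z, hZ, j, σ₀, hgo, hj, hσo, hσ1, hσ2, hpr1, hpr2, hsq, hU⟩ := exists_graph f p₁ p₂ g₁ g₂ hg₁ hw₂
  haveI := hZ; haveI := hj; haveI := hgo; haveI := hσo; haveI := hpr1; haveI := hpr2
  let pr1 := j ≫ pullback.fst p₁ p₂
  let pr2 := j ≫ pullback.snd p₁ p₂
  haveI : IsLocallyNoetherian X₁ := LocallyOfFiniteType.isLocallyNoetherian p₁
  haveI : IsLocallyNoetherian Z := LocallyOfFiniteType.isLocallyNoetherian pr1
  haveI : CompactSpace X₁ := QuasiCompact.compactSpace_of_compactSpace p₁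
  haveI : CompactSpace Z := QuasiCompact.compactSpace_of_compactSpace pr1
  haveI : IsNoetherian Z := {}
  haveI : QuasiCompact (Z.fromSpecStalk (genericPoint Z)) := inferInstance
  haveI : QuasiSeparated (Z.fromSpecStalk (genericPoint Z)) := inferInstance
  have hfin := GrothLib.NormFib.isFinite_of_nagata (GrothLib.BlowUpProper.isNagata_of_locallyOfFiniteType pr1 (isNagata_of_charZero p₁))
  haveI := hfin
  let ν := Curv2.normalizationι Z
  haveI : IsProper (ν ≫ pr1) := inferInstance
  haveI : IsProper (ν ≫ pr2) := inferInstance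
  have hne : ((g₁.opensRange : X₁.Opens) : Set X₁).Nonempty := ⟨_, ⟨genericPoint C, rfl⟩⟩
  have hbir := exists_isIso_comp ν pr1 (GrothLib.NormFib.exists_isIso_of_finite hfin) ⟨g₁.opensRange, hne, hU⟩
  obtain ⟨σ, hσ, hsqW, hflat, -⟩ := exists_lift_of_modification hC1 p₁ hg₁ hn₁ (ν ≫ pr1) hbir
  refine ⟨Curv2.normalization Z, inferInstance, ν ≫ pr1, ν ≫ pr2, σ, GrothLib.NormFib.isNormalScheme_normalization,
    inferInstance, inferInstance, ?_, hσ, ?_, hsqW, hflat, hbir⟩
  · simp only [pr1, pr2, Category.assoc, pullback.condition]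
  · have hw : (σ ≫ ν) ≫ pr1 = 𝟙 C ≫ g₁ := by rw [Category.assoc, hσ, Category.id_comp]
    have h2 := hsq.lift_fst (σ ≫ ν) (𝟙 C) hw
    have h3 : hsq.lift (σ ≫ ν) (𝟙 C) hw = 𝟙 C := by simpa using hsq.lift_snd (σ ≫ ν) (𝟙 C) hw
    rw [h3, Category.id_comp] at h2
    rw [← Category.assoc, ← h2]
    exact hσ2

/-- Modifications of admissible models are admissible. -/
theorem admissible_of_modification [CharZero (FractionRing R)] {C X W : Scheme.{u}}
    {f : C ⟶ Spec (CommRingCat.of (FractionRing R))}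
    [SmoothOfRelativeDimension 1 f] [IsProper f] [GeometricallyConnected f]
    (p : X ⟶ Spec (CommRingCat.of R)) [IsProper p] [Flat p] {g : C ⟶ X}
    (hg : IsPullback g f p (Spec.map (CommRingCat.ofHom (algebraMap R (FractionRing R)))))
    [IsIntegral X] (hXn : Pi1.IsNormalScheme X)
    (hcf : Function.Surjective (Sheaf.H.map ((SheafOfModules.toSheaf X.ringCatSheaf).map
      (ClSub.toSubscheme (Models.specialFibreIdeal R (Over.mk p)))) 0))
    (hrat : ∀ x : X, IsClosed ({x} : Set X) → Curv2.IsRationalSing (X.presheaf.stalk x))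
    [IsIntegral W] (hWn : Pi1.IsNormalScheme W) (ρ : W ⟶ X) [IsProper ρ] [Flat (ρ ≫ p)]
    (hbir : ∃ V : X.Opens, (V : Set X).Nonempty ∧ IsIso (ρ ∣_ V)) :
    Function.Surjective (Sheaf.H.map ((SheafOfModules.toSheaf W.ringCatSheaf).map
        (ClSub.toSubscheme (Models.specialFibreIdeal R (Over.mk (ρ ≫ p))))) 0) ∧
      ∀ w : W, IsClosed ({w} : Set W) → Curv2.IsRationalSing (W.presheaf.stalk w) := by
  haveI : Smooth f := SmoothOfRelativeDimension.smooth (n := 1) f
  haveI : UniversallyOpen f := inferInstance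
  haveI : ConnectedSpace C := GeometricallyConnected.connectedSpace f f.isOpenMap
  haveI : IsIntegral C := GrothLib.Euler.isIntegral_of_smooth_connected (FractionRing R) f
  have hC : topologicalKrullDim C = 1 :=
    GrothLib.CotTangent.topologicalKrullDim_integral_of_smoothOfRelativeDimension f 1
  haveI : Flat (Over.mk p).hom := ‹Flat p›
  haveI : IsProper (Over.mk p).hom := ‹IsProper p›
  have hdim : topologicalKrullDim X ≤ 2 := dim_le_two_of_normalModel (X := Over.mk p) hg hXn hC.le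
  haveI : IsLocallyNoetherian X := LocallyOfFiniteType.isLocallyNoetherian p
  haveI : CompactSpace X := QuasiCompact.compactSpace_of_compactSpace p
  haveI : IsNoetherian X := {}
  refine ⟨?_, fun w hw => isRationalSing_stalk_of_target (isNagata_of_charZero p) hXn hdim ρ hWn hbir w
    (hrat _ (by rw [← Set.image_singleton]; exact ρ.isClosedMap _ hw))⟩
  letI : X.Over (Spec (CommRingCat.of R)) := ⟨p⟩
  letI : W.Over (Spec (CommRingCat.of R)) := ⟨ρ ≫ p⟩
  haveI : IsProper (X ↘ Spec (CommRingCat.of R)) := ‹IsProper p›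
  haveI : IsProper (W ↘ Spec (CommRingCat.of R)) := inferInstanceAs (IsProper (ρ ≫ p))
  haveI : Flat (X ↘ Spec (CommRingCat.of R)) := ‹Flat p›
  haveI : Flat (W ↘ Spec (CommRingCat.of R)) := ‹Flat (ρ ≫ p)›
  obtain ⟨-, -, ⟨e⟩⟩ := Groth.Agent.S15137.result R X C f ⟨‹Flat p›, inferInstance, inferInstance, g, hg⟩ hXn hrat W ρ
    rfl hWn hbir
  haveI := (Groth.Agent.S15136.result R X).1 hcf
  refine (Groth.Agent.S15136.result R W).2 ?_
  exact Function.Injective.noZeroSMulDivisors _ e.symm.injective (map_zero _) (map_smul e.symm)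

end GrothLib.RatSing29
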