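import Groth.Agent.Lib.RatSing29.NormExtFinite

/-!
# The normalisation of a modification of an affine normal scheme in a finite separable extension
-/

set_option autoImplicit false
set_option linter.all false
set_option backward.isDefEq.respectTransparency false

universe u

open AlgebraicGeometry CategoryTheory CategoryTheory.Limits TopologicalSpace Opposite

noncomputable section

namespace GrothLib.RatSing29

/-- The map from a ring to the sections over an open of its spectrum. -/
def specHom {A : Type u} [CommRing A] (D : (Spec (CommRingCat.of A)).Opens) : A →+* Γ(Spec (CommRingCat.of A), D) :=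
  ((Spec (CommRingCat.of A)).presheaf.map (homOfLE le_top).op).hom.comp (Scheme.ΓSpecIso (CommRingCat.of A)).inv.hom

theorem isLocalization_away_specHom {A : Type u} [CommRing A] (a : A) :
    letI := (specHom (PrimeSpectrum.basicOpen a : (Spec (CommRingCat.of A)).Opens)).toAlgebra
    IsLocalization.Away a Γ(Spec (CommRingCat.of A), PrimeSpectrum.basicOpen a) := by
  letI := (specHom (PrimeSpectrum.basicOpen a : (Spec (CommRingCat.of A)).Opens)).toAlgebra
  convert! StructureSheaf.IsLocalization.to_basicOpen A a using 1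
  apply Algebra.algebra_ext
  intro r
  rfl

theorem bijective_app_of_isIso_restrict {X Y : Scheme.{u}} (f : Y ⟶ X) (D : X.Opens) (h : IsIso (f ∣_ D)) :
    Function.Bijective (f.app D) := by
  haveI := h
  have h1 : IsIso ((f ∣_ D).app ⊤) := inferInstance
  rw [morphismRestrict_app] at h1
  have key : ∀ (O : X.Opens), O = D → IsIso (f.app O) → Function.Bijective (f.app D) := by
    rintro O rfl hO; exact ConcreteCategory.bijective_of_isIso _
  exact key _ (Scheme.Opens.ι_image_top D) (by exact @IsIso.of_isIso_comp_right _ _ _ _ _ _ _ inferInstance h1)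

/-- The map from a ring to the sections over an open of a scheme over it. -/
def secHom {A : Type u} [CommRing A] {Y : Scheme.{u}} (f : Y ⟶ Spec (CommRingCat.of A))
    (D : (Spec (CommRingCat.of A)).Opens) : A →+* Γ(Y, f ⁻¹ᵁ D) :=
  (f.app D).hom.comp (specHom D)

theorem secHom_res {A : Type u} [CommRing A] {Y : Scheme.{u}} (f : Y ⟶ Spec (CommRingCat.of A))
    (D : (Spec (CommRingCat.of A)).Opens) (a : A) :
    secHom f D a = Y.presheaf.map (homOfLE le_top).op (f.appTop ((Scheme.ΓSpecIso (CommRingCat.of A)).inv a)) :=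
  congr($(f.naturality (homOfLE (le_top (a := D))).op) ((Scheme.ΓSpecIso (CommRingCat.of A)).inv a))

/-- The sections over a basic open of the locus of isomorphism. -/
theorem exists_chart_modification {A : Type u} [CommRing A] {Y : Scheme.{u}} [IsIntegral Y]
    (f : Y ⟶ Spec (CommRingCat.of A))
    {U : (Spec (CommRingCat.of A)).Opens} (hU : (U : Set (Spec (CommRingCat.of A))).Nonempty) (hiso : IsIso (f ∣_ U)) :
    ∃ (a : A) (_ : a ≠ 0), IsAffineOpen (f ⁻¹ᵁ PrimeSpectrum.basicOpen a) ∧
      (letI := (secHom f (PrimeSpectrum.basicOpen a)).toAlgebra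
       IsLocalization.Away a Γ(Y, f ⁻¹ᵁ PrimeSpectrum.basicOpen a)) ∧
      genericPoint Y ∈ f ⁻¹ᵁ PrimeSpectrum.basicOpen a := by
  obtain ⟨p, hp⟩ := hU
  obtain ⟨_, ⟨a, rfl⟩, hpa, haU⟩ := PrimeSpectrum.isTopologicalBasis_basic_opens.exists_subset_of_mem_open hp U.isOpen
  have ha : a ≠ 0 := fun h => by simp [h] at hpa
  let D : (Spec (CommRingCat.of A)).Opens := PrimeSpectrum.basicOpen a
  have hDU : D ≤ U := haU
  haveI := hiso
  haveI : IsIso (f ∣_ D) := by
    have h := (morphismRestrictRestrict f U (U.ι ⁻¹ᵁ D))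
    have hD' : U.ι ''ᵁ (U.ι ⁻¹ᵁ D) = D := by
      rw [Scheme.Hom.image_preimage_eq_opensRange_inf, Scheme.Opens.opensRange_ι, inf_eq_right.2 hDU]
    rw [hD'] at h
    exact ((MorphismProperty.isomorphisms Scheme.{u}).arrow_mk_iso_iff h).1 inferInstance
  haveI : IsAffine D.toScheme := IsAffineOpen.Spec_basicOpen (R := CommRingCat.of A) a
  have hV : IsAffineOpen (f ⁻¹ᵁ D) := IsAffine.of_isIso (f ∣_ D)
  have hb : Function.Bijective (f.app D) := bijective_app_of_isIso_restrict f D inferInstance
  refine ⟨a, ha, hV, ?_, ?_⟩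
  · letI := (specHom D).toAlgebra
    haveI : IsLocalization.Away a Γ(Spec (CommRingCat.of A), D) := isLocalization_away_specHom a
    letI := (secHom f D).toAlgebra
    exact IsLocalization.isLocalization_of_algEquiv (Submonoid.powers a)
      (AlgEquiv.ofBijective ({ (f.app D).hom with commutes' := fun x => rfl } :
        Γ(Spec (CommRingCat.of A), D) →ₐ[A] Γ(Y, f ⁻¹ᵁ D)) hb)
  · obtain ⟨q, hq⟩ := (f ∣_ D).homeomorph.surjective ⟨p, hpa⟩
    exact (genericPoint_specializes q.1).mem_open (f ⁻¹ᵁ D).isOpen q.2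

/-- The function field of a modification. -/
theorem exists_functionField_hom {A : Type u} [CommRing A] [IsDomain A] (K L : Type u) [Field K] [Field L]
    [Algebra A K] [IsFractionRing A K] [Algebra K L] [Algebra A L] [IsScalarTower A K L]
    {Y : Scheme.{u}} [IsIntegral Y] (f : Y ⟶ Spec (CommRingCat.of A))
    {a : A} (ha : a ≠ 0) (hV : IsAffineOpen (f ⁻¹ᵁ PrimeSpectrum.basicOpen a))
    (hloc : letI := (secHom f (PrimeSpectrum.basicOpen a)).toAlgebra
       IsLocalization.Away a Γ(Y, f ⁻¹ᵁ PrimeSpectrum.basicOpen a))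
    (hη : genericPoint Y ∈ f ⁻¹ᵁ PrimeSpectrum.basicOpen a) :
    ∃ (φ : Y.functionField →+* L) (eK : K ≃+* Y.functionField),
      φ.comp eK.toRingHom = algebraMap K L ∧
      ∀ (W : Y.Opens) (hW : genericPoint Y ∈ W) (x : A),
        φ (Y.presheaf.germ W (genericPoint Y) hW (Y.presheaf.map (homOfLE le_top).op
          (f.appTop ((Scheme.ΓSpecIso (CommRingCat.of A)).inv x)))) = algebraMap A L x := by
  let D : (Spec (CommRingCat.of A)).Opens := PrimeSpectrum.basicOpen a
  let V : Y.Opens := f ⁻¹ᵁ D
  haveI : Nonempty V := ⟨⟨_, hη⟩⟩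
  letI : Algebra A Γ(Y, V) := (secHom f D).toAlgebra
  haveI : IsLocalization.Away a Γ(Y, V) := hloc
  haveI := functionField_isFractionRing_of_isAffineOpen Y V hV
  have haK : IsUnit (algebraMap A K a) :=
    isUnit_iff_ne_zero.2 fun h => ha (IsFractionRing.injective A K (by rw [h, map_zero]))
  letI : Algebra Γ(Y, V) K := (IsLocalization.Away.lift a haK).toAlgebra
  haveI : IsScalarTower A Γ(Y, V) K := IsScalarTower.of_algebraMap_eq fun x =>
    (IsLocalization.Away.lift_eq a haK x).symm
  haveI : IsFractionRing Γ(Y, V) K :=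
    IsFractionRing.isFractionRing_of_isDomain_of_isLocalization (Submonoid.powers a) Γ(Y, V) K
  let e := IsLocalization.algEquiv (nonZeroDivisors Γ(Y, V)) K Y.functionField
  refine ⟨(algebraMap K L).comp e.symm.toRingEquiv.toRingHom, e.toRingEquiv, RingHom.ext fun z => ?_, fun W hW x => ?_⟩
  · show algebraMap K L (e.symm (e z)) = _
    rw [e.symm_apply_apply]
  · have h1 : Y.presheaf.germ W (genericPoint Y) hW (Y.presheaf.map (homOfLE le_top).op
        (f.appTop ((Scheme.ΓSpecIso (CommRingCat.of A)).inv x))) = algebraMap Γ(Y, V) Y.functionField (secHom f D x) := by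
      show _ = Y.presheaf.germ V _ hη (secHom f D x)
      rw [secHom_res, TopCat.Presheaf.germ_res_apply, TopCat.Presheaf.germ_res_apply]
    show algebraMap K L (e.symm _) = _
    rw [h1, e.symm.commutes, show secHom f D x = algebraMap A Γ(Y, V) x from rfl,
      ← IsScalarTower.algebraMap_apply A Γ(Y, V) K, ← IsScalarTower.algebraMap_apply]

variable {A : Type u} [CommRing A] [IsDomain A] [IsNoetherianRing A] [IsIntegrallyClosed A]
  {B : Type u} [CommRing B] [IsDomain B] [IsIntegrallyClosed B] [Algebra A B] [Module.Finite A B]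

/-- The morphism to the normal affine cover is birational. -/
theorem isIso_restrict_of_sections {L : Type u} [Field L] [Algebra B L] [IsFractionRing B L] {a : A}
    {X : Scheme.{u}} [IsIntegral X] (h : X ⟶ Spec (CommRingCat.of B)) (ψ : X.functionField →+* L)
    (hψ : Function.Injective ψ)
    (hX : IsAffineOpen (h ⁻¹ᵁ PrimeSpectrum.basicOpen (algebraMap A B a)))
    (hη : genericPoint X ∈ h ⁻¹ᵁ PrimeSpectrum.basicOpen (algebraMap A B a))
    (hcomm : ∀ b : B, ψ (X.presheaf.germ _ _ hη (secHom h (PrimeSpectrum.basicOpen (algebraMap A B a)) b)) =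
      algebraMap B L b)
    (hint : ∀ s : Γ(X, h ⁻¹ᵁ PrimeSpectrum.basicOpen (algebraMap A B a)), ∃ (b : B) (n : ℕ),
      ψ (X.presheaf.germ _ _ hη s) * algebraMap B L (algebraMap A B a) ^ n = algebraMap B L b) :
    IsIso (h ∣_ PrimeSpectrum.basicOpen (algebraMap A B a)) := by
  let a' : B := algebraMap A B a
  let DB : (Spec (CommRingCat.of B)).Opens := PrimeSpectrum.basicOpen a'
  haveI : IsAffine DB.toScheme := IsAffineOpen.Spec_basicOpen (R := CommRingCat.of B) a'
  haveI : IsAffine (h ⁻¹ᵁ DB).toScheme := hX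
  let θ : Γ(X, h ⁻¹ᵁ DB) →+* L := ψ.comp (X.presheaf.germ _ _ hη).hom
  have hθi : Function.Injective θ := hψ.comp (germ_injective_of_isIntegral X _ _)
  letI : Algebra B Γ(Spec (CommRingCat.of B), DB) :=
    (specHom DB).toAlgebra
  haveI : IsLocalization.Away a' Γ(Spec (CommRingCat.of B), DB) := isLocalization_away_specHom a'
  let T := θ.comp (h.app DB).hom
  have hB : ∀ b : B, T (algebraMap B Γ(Spec (CommRingCat.of B), DB) b) = algebraMap B L b := hcomm
  have hu : IsUnit (algebraMap B Γ(Spec (CommRingCat.of B), DB) a') := IsLocalization.Away.algebraMap_isUnit _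
  have hne : algebraMap B L a' ≠ 0 := hB a' ▸ (hu.map T).ne_zero
  have hT : Function.Injective T := by
    refine (injective_iff_map_eq_zero T).2 fun x hx => ?_
    obtain ⟨n, b, hb⟩ := IsLocalization.Away.surj a' x
    have h1 := congrArg T hb
    rw [map_mul, hx, zero_mul, hB] at h1
    have hb0 : b = 0 := IsFractionRing.injective B L (by rw [map_zero]; exact h1.symm)
    rw [hb0, map_zero] at hb
    exact (hu.pow n).mul_left_eq_zero.1 hb
  have hbij : Function.Bijective (h.app DB) := by
    refine ⟨fun x y e => hT (congrArg θ e), fun s => ?_⟩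
    obtain ⟨b, n, hb⟩ := hint s
    refine ⟨algebraMap B _ b * ((hu.pow n).unit⁻¹ : (Γ(Spec (CommRingCat.of B), DB))ˣ), hθi ?_⟩
    refine mul_right_cancel₀ (pow_ne_zero n hne) ?_
    refine Eq.trans ?_ hb.symm
    have e : T (algebraMap B _ b * ((hu.pow n).unit⁻¹ : (Γ(Spec (CommRingCat.of B), DB))ˣ)) *
        T (algebraMap B Γ(Spec (CommRingCat.of B), DB) a' ^ n) = T (algebraMap B _ b) := by
      rw [← map_mul, mul_assoc, IsUnit.val_inv_mul, mul_one]
    have e2 : T (algebraMap B Γ(Spec (CommRingCat.of B), DB) a' ^ n) = algebraMap B L a' ^ n :=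
      (map_pow T _ n).trans (congrArg (fun z => z ^ n) (hB a'))
    exact (congrArg (fun z => T _ * z) e2.symm).trans (e.trans (hB b))
  haveI : IsIso (h ∣_ DB).appTop := by
    rw [morphismRestrict_appTop]
    haveI : IsIso (h.app (DB.ι ''ᵁ ⊤)) := by
      rw [Scheme.Opens.ι_image_top]
      exact (ConcreteCategory.isIso_iff_bijective _).2 hbij
    infer_instance
  exact (MorphismProperty.isomorphisms Scheme.{u}).arrow_mk_iso_iff (arrowIsoSpecΓOfIsAffine (h ∣_ DB)) |>.2
    (inferInstanceAs (IsIso (Spec.map (h ∣_ DB).appTop)))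

/-- **The normalisation of a modification in a finite separable extension.** -/
theorem exists_normal_cover (hinj : Function.Injective (algebraMap A B))
    (K L : Type u) [Field K] [Field L] [Algebra A K] [IsFractionRing A K] [Algebra B L] [IsFractionRing B L]
    [Algebra K L] [Algebra A L] [IsScalarTower A K L] [IsScalarTower A B L] [Algebra.IsSeparable K L]
    [FiniteDimensional K L]
    {Y : Scheme.{u}} [IsIntegral Y] (hYn : Pi1.IsNormalScheme Y) (f : Y ⟶ Spec (CommRingCat.of A)) [IsProper f]
    (hbir : ∃ U : (Spec (CommRingCat.of A)).Opens, (U : Set ↥(Spec (CommRingCat.of A))).Nonempty ∧ IsIso (f ∣_ U)) :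
    ∃ (X : Scheme.{u}) (_ : IsIntegral X) (π : X ⟶ Y) (_ : Surjective π) (_ : IsFinite π)
      (h : X ⟶ Spec (CommRingCat.of B)),
      Pi1.IsNormalScheme X ∧ NormAmple.fdeg π = Module.finrank K L ∧ IsProper h ∧
      ∃ U : (Spec (CommRingCat.of B)).Opens, (U : Set ↥(Spec (CommRingCat.of B))).Nonempty ∧ IsIso (h ∣_ U) := by
  haveI : IsLocallyNoetherian Y := LocallyOfFiniteType.isLocallyNoetherian f
  haveI : CompactSpace Y := QuasiCompact.compactSpace_of_compactSpace f
  obtain ⟨U, hU, hiso⟩ := hbir
  obtain ⟨a, ha, hV, hloc, hηV⟩ := exists_chart_modification f hU hiso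
  obtain ⟨φ, eK, hφK, hφA⟩ := exists_functionField_hom K L f ha hV hloc hηV
  letI iFL : Algebra Y.functionField L := φ.toAlgebra
  have hsq : (algebraMap Y.functionField L).comp eK.toRingHom = (RingEquiv.refl L).toRingHom.comp (algebraMap K L) := by
    rw [show algebraMap Y.functionField L = φ from rfl, hφK]; rfl
  have hφ : φ = (algebraMap K L).comp eK.symm.toRingHom := RingHom.ext fun z => by
    rw [RingHom.comp_apply, ← hφK]
    show φ z = φ (eK (eK.symm z))
    rw [eK.apply_symm_apply]
  have hfin : φ.Finite := hφ ▸ RingHom.Finite.comp (RingHom.finite_algebraMap.2 inferInstance)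
    (RingHom.Finite.of_surjective _ eK.symm.surjective)
  haveI : Algebra.IsSeparable Y.functionField L := Algebra.IsSeparable.of_equiv_equiv eK (RingEquiv.refl L) hsq
  have hdeg : Module.finrank K L = Module.finrank Y.functionField L :=
    Algebra.finrank_eq_of_equiv_equiv eK (RingEquiv.refl L) hsq
  let g : Spec (CommRingCat.of L) ⟶ Y := Spec.map (CommRingCat.ofHom φ) ≫ Y.fromSpecStalk (genericPoint Y)
  haveI : QuasiCompact g := inferInstance
  haveI : QuasiSeparated g := inferInstance
  haveI := surjective_fromNormalization φ g rfl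
  haveI : IsFinite g.fromNormalization := isFinite_fromNormalization_of_separable φ g rfl hYn hfin ‹_›
  let π := g.fromNormalization
  have hψ := psi_bijective φ g rfl hfin
  -- the morphism to `Spec B`
  have hglob : ∀ b : B, ∃ s : Γ(g.normalization, ⊤),
      psi g (g.normalization.presheaf.germ ⊤ (genericPoint g.normalization) trivial s) = algebraMap B L b := fun b =>
    exists_global_section φ g rfl hfin _ fun {_} => by
      obtain ⟨P, hP, hP0⟩ := Algebra.IsIntegral.isIntegral (R := A) b
      refine ⟨P.map (f.appTop.hom.comp (Scheme.ΓSpecIso (CommRingCat.of A)).inv.hom), hP.map _, ?_⟩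
      rw [Polynomial.eval₂_map]
      have he : (φ.comp (Y.germToFunctionField ⊤).hom).comp
          (f.appTop.hom.comp (Scheme.ΓSpecIso (CommRingCat.of A)).inv.hom) = algebraMap A L := by
        refine RingHom.ext fun x => ?_
        refine Eq.trans (congrArg φ ?_) (hφA ⊤ trivial x)
        exact (TopCat.Presheaf.germ_res_apply _ _ _ _ _).symm
      rw [he, IsScalarTower.algebraMap_eq A B L, ← Polynomial.hom_eval₂, hP0, map_zero]
  let γ : Γ(g.normalization, ⊤) →+* L :=
    (psi g).comp (g.normalization.presheaf.germ ⊤ (genericPoint g.normalization) trivial).hom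
  have hγ : Function.Injective γ := hψ.1.comp (germ_injective_of_isIntegral g.normalization _ _)
  let ρ : B →+* Γ(g.normalization, ⊤) :=
    { toFun := fun b => (hglob b).choose
      map_one' := hγ ((hglob 1).choose_spec.trans ((map_one (algebraMap B L)).trans (map_one γ).symm))
      map_mul' := fun x y => hγ (((hglob _).choose_spec.trans (map_mul (algebraMap B L) x y)).trans
        ((congrArg₂ (· * ·) (hglob x).choose_spec.symm (hglob y).choose_spec.symm).trans (map_mul γ _ _).symm))
      map_zero' := hγ ((hglob 0).choose_spec.trans ((map_zero (algebraMap B L)).trans (map_zero γ).symm))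
      map_add' := fun x y => hγ (((hglob _).choose_spec.trans (map_add (algebraMap B L) x y)).trans
        ((congrArg₂ (· + ·) (hglob x).choose_spec.symm (hglob y).choose_spec.symm).trans (map_add γ _ _).symm)) }
  have hρ : ∀ b, γ (ρ b) = algebraMap B L b := fun b => (hglob b).choose_spec
  have hρA : ρ.comp (algebraMap A B) = π.appTop.hom.comp (f.appTop.hom.comp (Scheme.ΓSpecIso (CommRingCat.of A)).inv.hom) := by
    refine RingHom.ext fun x => hγ ?_
    show γ (ρ (algebraMap A B x)) = _
    rw [hρ, ← IsScalarTower.algebraMap_apply]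
    show _ = psi g (g.normalization.presheaf.germ (π ⁻¹ᵁ ⊤) _ trivial (π.app ⊤ _))
    rw [← NormAmple.fmap_germ π (W := ⊤) trivial trivial]
    refine Eq.trans ?_ (RingHom.congr_fun (psi_fmap φ g rfl) _).symm
    refine Eq.trans (hφA ⊤ trivial x).symm (congrArg φ ?_)
    exact TopCat.Presheaf.germ_res_apply _ _ _ _ _
  let h : g.normalization ⟶ Spec (CommRingCat.of B) := g.normalization.toSpecΓ ≫ Spec.map (CommRingCat.ofHom ρ)
  let q : Spec (CommRingCat.of B) ⟶ Spec (CommRingCat.of A) := Spec.map (CommRingCat.ofHom (algebraMap A B))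
  have hhq : h ≫ q = π ≫ f := by
    show (g.normalization.toSpecΓ ≫ Spec.map (CommRingCat.ofHom ρ)) ≫ Spec.map (CommRingCat.ofHom (algebraMap A B)) = _
    rw [Category.assoc, ← Spec.map_comp]
    have e : CommRingCat.ofHom (algebraMap A B) ≫ CommRingCat.ofHom ρ =
        (Scheme.ΓSpecIso (CommRingCat.of A)).inv ≫ (π ≫ f).appTop := by
      apply CommRingCat.hom_ext
      exact hρA
    rw [e, Spec.map_comp, ← Scheme.toSpecΓ_naturality_assoc, toSpecΓ_SpecMap_ΓSpecIso_inv, Category.comp_id]
  haveI : IsProper h := by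
    haveI : IsProper (h ≫ q) := by rw [hhq]; infer_instance
    exact IsProper.of_comp h q
  refine ⟨g.normalization, inferInstance, π, inferInstance, inferInstance, h, NormExt8.isNormalScheme φ g rfl,
    (fdeg_eq φ g rfl hfin).trans hdeg.symm, inferInstance, PrimeSpectrum.basicOpen (algebraMap A B a), ?_, ?_⟩
  · refine ⟨(⊥ : PrimeSpectrum B), ?_⟩
    show algebraMap A B a ∉ (⊥ : Ideal B)
    exact fun h0 => ha (hinj (by rw [map_zero]; exact h0))
  have hpre : h ⁻¹ᵁ (PrimeSpectrum.basicOpen (algebraMap A B a)) = π ⁻¹ᵁ (f ⁻¹ᵁ PrimeSpectrum.basicOpen a) := by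
    rw [show PrimeSpectrum.basicOpen (algebraMap A B a) = q ⁻¹ᵁ PrimeSpectrum.basicOpen a from
      (PrimeSpectrum.comap_basicOpen _ a).symm]
    rw [← Scheme.Hom.comp_preimage, ← Scheme.Hom.comp_preimage, hhq]
  have hη : genericPoint g.normalization ∈ h ⁻¹ᵁ (PrimeSpectrum.basicOpen (algebraMap A B a)) := by
    rw [hpre]; exact NormAmple.genericPoint_mem_preimage π hηV
  refine isIso_restrict_of_sections (L := L) h (psi g) hψ.1 (hpre ▸ hV.preimage π) hη (fun b => ?_) fun s => ?_
  · rw [secHom_res, TopCat.Presheaf.germ_res_apply]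
    have e2 : h.appTop ((Scheme.ΓSpecIso (CommRingCat.of B)).inv b) = ρ b := by
      show (g.normalization.toSpecΓ ≫ Spec.map (CommRingCat.ofHom ρ)).appTop _ = _
      rw [Scheme.Hom.comp_appTop, Scheme.toSpecΓ_appTop]
      have e3 := congr($(Scheme.ΓSpecIso_inv_naturality (CommRingCat.ofHom ρ)) b)
      refine Eq.trans (congrArg (Scheme.ΓSpecIso Γ(g.normalization, ⊤)).hom e3.symm) ?_
      exact congr($(Iso.inv_hom_id (Scheme.ΓSpecIso Γ(g.normalization, ⊤))) (ρ b))
    rw [e2]
    exact hρ b
  · let V : Y.Opens := f ⁻¹ᵁ PrimeSpectrum.basicOpen a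
    haveI : Nonempty V := ⟨⟨_, hηV⟩⟩
    have key : ∀ (W : g.normalization.Opens) (hW' : genericPoint g.normalization ∈ W) (e : W = π ⁻¹ᵁ V)
        (t : Γ(g.normalization, W)),
        (φ.comp (Y.germToFunctionField V).hom).IsIntegralElem (psi g (g.normalization.presheaf.germ W _ hW' t)) := by
      rintro W hW' rfl t
      obtain ⟨-, -, hiff⟩ := NormExt8.exists_chart φ g rfl hV (genericPoint_mem_pre φ g rfl hηV)
      rw [psi_germ g _ (genericPoint_mem_pre φ g rfl hηV)]
      exact (hiff _).2 ⟨t, rfl⟩
    have hint := key _ hη hpre s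
    letI : Algebra A Γ(Y, V) := (secHom f (PrimeSpectrum.basicOpen a)).toAlgebra
    haveI : IsLocalization.Away a Γ(Y, V) := hloc
    letI : Algebra Γ(Y, V) L := (φ.comp (Y.germToFunctionField V).hom).toAlgebra
    haveI : IsScalarTower A Γ(Y, V) L := IsScalarTower.of_algebraMap_eq fun x => by
      show _ = φ (Y.presheaf.germ V _ hηV (secHom f (PrimeSpectrum.basicOpen a) x))
      rw [secHom_res]
      exact (hφA V hηV x).symm
    obtain ⟨⟨m, n, hn⟩, hm⟩ := IsIntegral.exists_multiple_integral_of_isLocalization (Submonoid.powers a)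
      (Rₘ := Γ(Y, V)) (psi g (g.normalization.presheaf.germ _ _ hη s)) hint
    obtain ⟨b, hb⟩ := IsIntegrallyClosed.isIntegral_iff.1 (hm.tower_top (A := B))
    refine ⟨b, n, ?_⟩
    rw [hb, Submonoid.smul_def, Algebra.smul_def, ← IsScalarTower.algebraMap_apply, ← map_pow, mul_comm]
    exact congrArg (fun z => algebraMap A L z * _) hn

end GrothLib.RatSing29
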