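import Groth.Agent.Lib.RatSing29.TraceMap
import Groth.Agent.Lib.RatSing29.FiniteModel
import Groth.Agent.Lib.NormExt8.Basic

/-!
# The normalisation of a normal scheme in a finite separable extension of its function field
-/

set_option autoImplicit false
set_option linter.all false
set_option backward.isDefEq.respectTransparency false

universe u

open AlgebraicGeometry CategoryTheory CategoryTheory.Limits TopologicalSpace Opposite

noncomputable section

namespace GrothLib.RatSing29

variable {Y : Scheme.{u}} [IsIntegral Y] {L : Type u} [Field L] (φ : Y.functionField →+* L)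
  (g : Spec (CommRingCat.of L) ⟶ Y)
  (hg : g = Spec.map (CommRingCat.ofHom φ) ≫ Y.fromSpecStalk (genericPoint Y))
  [QuasiCompact g] [QuasiSeparated g]

local notation "cl" => g.toNormalization (IsLocalRing.closedPoint L)

/-- The function field of the normalisation, in the extension. -/
def psi : g.normalization.functionField →+* L :=
  (g.normalization.presheaf.stalkSpecializes (specializes_of_eq (NormExt8.toNormalization_closedPoint g)) ≫
    Scheme.stalkClosedPointTo g.toNormalization).hom

theorem psi_germ (W : g.normalization.Opens) (hW : cl ∈ W) (hW' : genericPoint g.normalization ∈ W)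
    (s : Γ(g.normalization, W)) :
    psi g (g.normalization.presheaf.germ W (genericPoint g.normalization) hW' s) =
      (g.normalization.presheaf.germ W cl hW ≫ Scheme.stalkClosedPointTo g.toNormalization).hom s := by
  show Scheme.stalkClosedPointTo g.toNormalization (g.normalization.presheaf.stalkSpecializes _
    (g.normalization.presheaf.germ W _ hW' s)) = _
  rw [TopCat.Presheaf.germ_stalkSpecializes_apply]
  rfl

include hg in
theorem genericPoint_mem_pre {W : Y.Opens} (hW : genericPoint Y ∈ W) : cl ∈ g.fromNormalization ⁻¹ᵁ W := by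
  show g.fromNormalization cl ∈ W
  rw [NormExt8.toNormalization_closedPoint g, NormExt8.fromNormalization_genericPoint φ g hg]
  exact hW

include hg in
theorem psi_bijective (hfin : φ.Finite) : Function.Bijective (psi g) := by
  refine ⟨(psi g).injective, fun y => ?_⟩
  letI := φ.toAlgebra
  haveI : Module.Finite Y.functionField L := hfin
  have h1 : y ∈ Set.range (Scheme.stalkClosedPointTo g.toNormalization).hom := by
    rw [NormExt8.range_stalkClosedPointTo φ g hg]
    exact Algebra.IsIntegral.isIntegral (R := Y.functionField) y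
  obtain ⟨w, hw⟩ := h1
  refine ⟨g.normalization.presheaf.stalkSpecializes
    (specializes_of_eq (NormExt8.toNormalization_closedPoint g).symm) w, ?_⟩
  refine Eq.trans ?_ hw
  show Scheme.stalkClosedPointTo g.toNormalization (g.normalization.presheaf.stalkSpecializes _
    (g.normalization.presheaf.stalkSpecializes _ w)) = _
  rw [TopCat.Presheaf.stalkSpecializes_comp_apply]
  simp

include hg in
theorem surjective_fromNormalization : Surjective g.fromNormalization := ⟨fun y => by
  have h1 : closure ({genericPoint Y} : Set Y) ⊆ Set.range g.fromNormalization :=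
    g.fromNormalization.isClosedMap.isClosed_range.closure_subset_iff.mpr
      (Set.singleton_subset_iff.mpr ⟨_, NormExt8.fromNormalization_genericPoint φ g hg⟩)
  exact h1 ((genericPoint_spec Y).symm ▸ Set.mem_univ y)⟩

include hg in
theorem psi_fmap [Surjective g.fromNormalization] :
    (psi g).comp (NormAmple.fmap g.fromNormalization).hom = φ := by
  obtain ⟨V, hV, hηV, -⟩ := exists_isAffineOpen_mem_and_subset (show genericPoint Y ∈ (⊤ : Y.Opens) from trivial)
  haveI : Nonempty V := ⟨⟨_, hηV⟩⟩
  haveI := functionField_isFractionRing_of_isAffineOpen Y V hV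
  obtain ⟨-, hcomp, -⟩ := NormExt8.exists_chart φ g hg hV (genericPoint_mem_pre φ g hg hηV)
  refine IsLocalization.ringHom_ext (nonZeroDivisors Γ(Y, V)) (RingHom.ext fun x => ?_)
  show psi g (NormAmple.fmap g.fromNormalization (Y.presheaf.germ V _ hηV x)) = φ (Y.presheaf.germ V _ hηV x)
  rw [NormAmple.fmap_germ g.fromNormalization hηV (NormAmple.genericPoint_mem_preimage g.fromNormalization hηV),
    psi_germ g _ (genericPoint_mem_pre φ g hg hηV)]
  exact RingHom.congr_fun hcomp x

include hg in
theorem fdeg_eq [Surjective g.fromNormalization] (hfin : φ.Finite) :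
    NormAmple.fdeg g.fromNormalization = (letI := φ.toAlgebra; Module.finrank Y.functionField L) := by
  letI := φ.toAlgebra
  letI := (NormAmple.fmap g.fromNormalization).hom.toAlgebra
  refine Algebra.finrank_eq_of_equiv_equiv (RingEquiv.refl _)
    (RingEquiv.ofBijective (psi g) (psi_bijective φ g hg hfin)) (RingHom.ext fun x => ?_)
  exact (RingHom.congr_fun (psi_fmap φ g hg) x).symm

include hg in
/-- Finiteness of the normalisation in a separable extension. -/
theorem isFinite_fromNormalization_of_separable [IsLocallyNoetherian Y] (hYn : Pi1.IsNormalScheme Y)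
    (hfin : φ.Finite) (hsep : letI := φ.toAlgebra; Algebra.IsSeparable Y.functionField L) :
    IsFinite g.fromNormalization := by
  letI iFL := φ.toAlgebra
  haveI := hsep
  haveI : FiniteDimensional Y.functionField L := hfin
  refine (isFinite_iff _).mpr ⟨inferInstance, fun W hW => ?_⟩
  rcases isEmpty_or_nonempty W with he | hne
  · have hb : g.fromNormalization ⁻¹ᵁ W = ⊥ :=
      Opens.ext (Set.eq_empty_iff_forall_notMem.2 fun t ht => he.false ⟨g.fromNormalization t, ht⟩)
    haveI : Subsingleton Γ(g.normalization, g.fromNormalization ⁻¹ᵁ W) := by rw [hb]; infer_instance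
    exact RingHom.Finite.of_surjective _ fun t => ⟨0, Subsingleton.elim _ _⟩
  have hηW : genericPoint Y ∈ W := by
    obtain ⟨w⟩ := hne
    exact (genericPoint_specializes w.1).mem_open W.isOpen w.2
  obtain ⟨hθ, hcomp, hiff⟩ := NormExt8.exists_chart φ g hg hW (genericPoint_mem_pre φ g hg hηW)
  haveI := functionField_isFractionRing_of_isAffineOpen Y W hW
  haveI : IsIntegrallyClosed Γ(Y, W) := NormalExt.isIntegrallyClosed_Γ (fun y => (hYn y).2) W hW
  haveI : IsNoetherianRing Γ(Y, W) := IsLocallyNoetherian.component_noetherian ⟨W, hW⟩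
  letI : Algebra Γ(Y, W) L := (φ.comp (Y.germToFunctionField W).hom).toAlgebra
  haveI : IsScalarTower Γ(Y, W) Y.functionField L := IsScalarTower.of_algebraMap_eq fun _ => rfl
  letI : Algebra Γ(Y, W) Γ(g.normalization, g.fromNormalization ⁻¹ᵁ W) := (g.fromNormalization.app W).hom.toAlgebra
  letI : Algebra Γ(g.normalization, g.fromNormalization ⁻¹ᵁ W) L :=
    (g.normalization.presheaf.germ _ _ (genericPoint_mem_pre φ g hg hηW) ≫
      Scheme.stalkClosedPointTo g.toNormalization).hom.toAlgebra
  haveI : IsScalarTower Γ(Y, W) Γ(g.normalization, g.fromNormalization ⁻¹ᵁ W) L :=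
    IsScalarTower.of_algebraMap_eq fun x => (RingHom.congr_fun hcomp x).symm
  haveI : IsIntegralClosure Γ(g.normalization, g.fromNormalization ⁻¹ᵁ W) Γ(Y, W) L := ⟨hθ, fun {y} => hiff y⟩
  exact RingHom.finite_algebraMap.2
    (IsIntegralClosure.finite Γ(Y, W) Y.functionField L Γ(g.normalization, g.fromNormalization ⁻¹ᵁ W))

include hg in
/-- Elements integral over the global functions are global functions. -/
theorem exists_global_section (hfin : φ.Finite) (y : L)
    (hy : ∀ [Nonempty (⊤ : Y.Opens)], (φ.comp (Y.germToFunctionField ⊤).hom).IsIntegralElem y) :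
    ∃ s : Γ(g.normalization, ⊤),
      psi g (g.normalization.presheaf.germ ⊤ (genericPoint g.normalization) trivial s) = y := by
  haveI : Nonempty (⊤ : Y.Opens) := ⟨⟨genericPoint Y, trivial⟩⟩
  let e := RingEquiv.ofBijective (psi g) (psi_bijective φ g hg hfin)
  obtain ⟨s, hs⟩ := GrothLib.Stein.exists_section_of_mem_stalks (X := g.normalization) (U := ⊤)
    (x₀ := genericPoint g.normalization) trivial (e.symm y) fun z _ => by
    obtain ⟨W, hW, hzW, -⟩ :=
      exists_isAffineOpen_mem_and_subset (show g.fromNormalization z ∈ (⊤ : Y.Opens) from trivial)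
    haveI : Nonempty W := ⟨⟨_, hzW⟩⟩
    have hηW : genericPoint Y ∈ W := (genericPoint_specializes _).mem_open W.isOpen hzW
    obtain ⟨-, -, hiff⟩ := NormExt8.exists_chart φ g hg hW (genericPoint_mem_pre φ g hg hηW)
    obtain ⟨P, hP, hP0⟩ := hy
    obtain ⟨s, hs⟩ := (hiff y).1 ⟨P.map (Y.presheaf.map (homOfLE (le_top (a := W))).op).hom, hP.map _, by
      rw [Polynomial.eval₂_map]
      refine Eq.trans ?_ hP0
      refine congrArg (fun r => Polynomial.eval₂ r y P) ?_
      refine RingHom.ext fun x => congrArg φ ?_
      exact TopCat.Presheaf.germ_res_apply _ _ _ _ _⟩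
    refine ⟨g.normalization.presheaf.germ (g.fromNormalization ⁻¹ᵁ W) z hzW s, ?_⟩
    rw [TopCat.Presheaf.germ_stalkSpecializes_apply]
    refine e.injective ?_
    rw [e.apply_symm_apply]
    exact (psi_germ g _ (genericPoint_mem_pre φ g hg hηW) _ s).trans hs
  exact ⟨s, (congrArg (psi g) hs).trans (e.apply_symm_apply _)⟩

end GrothLib.RatSing29
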