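import Groth.Prelude.Def_Coh
import Mathlib

/-!
# Residue fields of points in the special fibre
-/

universe u

set_option linter.all false
set_option backward.isDefEq.respectTransparency false

open CategoryTheory CategoryTheory.Limits AlgebraicGeometry Opposite TopologicalSpace Polynomial

noncomputable section

namespace GrothLib.RatSing29

/-- The structure map to the residue field. -/
def kmap {R : Type u} [CommRing R] {X : Scheme.{u}} (p : X ⟶ Spec (CommRingCat.of R)) (x : X) :
    R →+* X.residueField x :=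
  ((X.evaluation ⊤ x trivial).hom).comp (Coh.toGlobal p)

variable {R : Type u} [CommRing R] [IsLocalRing R] {X : Scheme.{u}} (p : X ⟶ Spec (CommRingCat.of R))

theorem kmap_eq_zero {x : X} (hx : p x = IsLocalRing.closedPoint R) {r : R} (hr : r ∈ IsLocalRing.maximalIdeal R) :
    kmap p x r = 0 := by
  show X.evaluation ⊤ x trivial (p.appTop ((Scheme.ΓSpecIso (CommRingCat.of R)).inv r)) = 0
  rw [Scheme.evaluation_eq_zero_iff_notMem_basicOpen, ← Scheme.preimage_basicOpen_top, basicOpen_eq_of_affine']
  simp only [Scheme.Hom.mem_preimage]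
  rw [hx]
  intro h
  exact h (by simpa [IsLocalRing.closedPoint] using hr)

variable [LocallyOfFiniteType p]

/-- A point of the special fibre with integral residue field extension is closed. -/
theorem isClosed_singleton_of_forall_integral {x : X} (hx : p x = IsLocalRing.closedPoint R)
    (h : ∀ z : X.residueField x, (kmap p x).IsIntegralElem z) : IsClosed ({x} : Set X) := by
  refine closure_subset_iff_isClosed.1 fun c hc => ?_
  have hxc : x ⤳ c := specializes_iff_mem_closure.2 hc
  obtain ⟨V, hV, hcV, -⟩ := exists_isAffineOpen_mem_and_subset (show c ∈ (⊤ : X.Opens) from trivial)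
  have hxV : x ∈ V := hxc.mem_open V.isOpen hcV
  let ψ : Γ(X, V) →+* X.residueField x := (X.evaluation V x hxV).hom
  let φ : R →+* Γ(X, V) := ((X.presheaf.map (homOfLE le_top : V ⟶ ⊤).op).hom).comp (Coh.toGlobal p)
  have hcomp : ψ.comp φ = kmap p x := by
    ext r
    show X.residue x (X.presheaf.germ V x hxV (X.presheaf.map _ (Coh.toGlobal p r))) =
      X.residue x (X.presheaf.germ ⊤ x trivial (Coh.toGlobal p r))
    rw [TopCat.Presheaf.germ_res_apply]
  let P : Ideal Γ(X, V) := RingHom.ker ψ
  haveI : P.IsPrime := RingHom.ker_isPrime ψ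
  have hmax : P.IsMaximal := by
    let φ' : R →+* Γ(X, V) ⧸ P := (Ideal.Quotient.mk P).comp φ
    have hψ' : ∀ t, RingHom.kerLift ψ (Ideal.Quotient.mk P t) = ψ t := fun t => rfl
    have hker : IsLocalRing.maximalIdeal R ≤ RingHom.ker φ' := fun r hr => by
      rw [RingHom.mem_ker]
      refine Ideal.Quotient.eq_zero_iff_mem.2 (RingHom.mem_ker.2 ?_)
      rw [← RingHom.comp_apply, hcomp]
      exact kmap_eq_zero p hx hr
    let κR := R ⧸ IsLocalRing.maximalIdeal R
    letI : Field κR := Ideal.Quotient.field _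
    let φk : κR →+* Γ(X, V) ⧸ P := Ideal.Quotient.lift _ φ' hker
    letI := φk.toAlgebra
    haveI : Algebra.IsIntegral κR (Γ(X, V) ⧸ P) := ⟨fun t => by
      obtain ⟨s, rfl⟩ := Ideal.Quotient.mk_surjective t
      obtain ⟨q, hq, hq0⟩ := h (ψ s)
      refine ⟨q.map (Ideal.Quotient.mk _), hq.map _, ?_⟩
      show eval₂ φk (Ideal.Quotient.mk P s) _ = 0
      rw [eval₂_map]
      refine RingHom.kerLift_injective ψ ?_
      rw [map_zero, hom_eval₂, hψ']
      rw [← hq0]
      refine congrArg (fun e => eval₂ e (ψ s) q) ?_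
      rw [← hcomp]
      ext r
      rfl⟩
    exact Ideal.Quotient.maximal_of_isField _ (isField_of_isIntegral_of_isField' (Field.toIsField κR))
  have hP : (hV.primeIdealOf ⟨x, hxV⟩).asIdeal = P := by
    ext t
    rw [← not_iff_not]
    show t ∈ (hV.primeIdealOf ⟨x, hxV⟩).asIdeal.primeCompl ↔ ¬ ψ t = 0
    rw [Scheme.evaluation_eq_zero_iff_notMem_basicOpen, not_not]
    have h1 := hV.fromSpec_preimage_basicOpen t
    have h2 : x = hV.fromSpec (hV.primeIdealOf ⟨x, hxV⟩) := (hV.fromSpec_primeIdealOf ⟨x, hxV⟩).symm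
    conv_rhs => rw [h2]
    change _ ↔ hV.primeIdealOf ⟨x, hxV⟩ ∈ hV.fromSpec ⁻¹ᵁ X.basicOpen t
    rw [h1]
    exact Iff.rfl
  have hle : hV.primeIdealOf ⟨x, hxV⟩ ≤ hV.primeIdealOf ⟨c, hcV⟩ := by
    rw [PrimeSpectrum.le_iff_specializes, ← hV.fromSpec.isEmbedding.isInducing.specializes_iff,
      hV.fromSpec_primeIdealOf, hV.fromSpec_primeIdealOf]
    exact hxc
  have heq : hV.primeIdealOf ⟨x, hxV⟩ = hV.primeIdealOf ⟨c, hcV⟩ := by
    refine PrimeSpectrum.ext ?_
    exact (hP ▸ hmax).eq_of_le (hV.primeIdealOf ⟨c, hcV⟩).isPrime.ne_top hle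
  have := congrArg hV.fromSpec heq
  rw [hV.fromSpec_primeIdealOf, hV.fromSpec_primeIdealOf] at this
  exact this.symm

/-- The residue field of a closed point of the special fibre is integral over the base. -/
theorem isIntegralElem_of_isClosed {x : X} (hx : p x = IsLocalRing.closedPoint R) (hc : IsClosed ({x} : Set X))
    (z : X.residueField x) : (kmap p x).IsIntegralElem z := by
  obtain ⟨V, hV, hxV, -⟩ := exists_isAffineOpen_mem_and_subset (show x ∈ (⊤ : X.Opens) from trivial)
  haveI : (hV.primeIdealOf ⟨x, hxV⟩).asIdeal.IsMaximal := by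
    rw [← PrimeSpectrum.isClosed_singleton_iff_isMaximal]
    have h1 : ({hV.primeIdealOf ⟨x, hxV⟩} : Set (Spec Γ(X, V))) = hV.fromSpec ⁻¹' {x} := by
      ext q
      refine ⟨fun h => by rw [Set.mem_singleton_iff.1 h]; exact hV.fromSpec_primeIdealOf _, fun h => ?_⟩
      exact hV.fromSpec.isOpenEmbedding.injective ((Set.mem_singleton_iff.1 h).trans (hV.fromSpec_primeIdealOf ⟨x, hxV⟩).symm)
    change IsClosed ({hV.primeIdealOf ⟨x, hxV⟩} : Set (Spec Γ(X, V)))
    rw [h1]
    exact hc.preimage hV.fromSpec.continuous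
  let ψ : Γ(X, V) →+* X.residueField x := (X.evaluation V x hxV).hom
  have hsurj : Function.Surjective ψ := by
    intro w
    obtain ⟨a, rfl⟩ := X.residue_surjective x w
    letI := TopCat.Presheaf.algebra_section_stalk X.presheaf (⟨x, hxV⟩ : V)
    haveI := hV.isLocalization_stalk ⟨x, hxV⟩
    obtain ⟨⟨b, s⟩, hbs⟩ := IsLocalization.surj (hV.primeIdealOf ⟨x, hxV⟩).asIdeal.primeCompl a
    obtain ⟨u, m, hm, hu⟩ := Ideal.IsMaximal.exists_inv ‹_› s.2
    refine ⟨b * u, ?_⟩
    show X.residue x (X.presheaf.germ V x hxV (b * u)) = X.residue x a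
    rw [← sub_eq_zero, ← map_sub]
    refine (IsLocalRing.residue_eq_zero_iff _).2 ?_
    have : X.presheaf.germ V x hxV (b * u) - a = a * (X.presheaf.germ V x hxV (u * s) - 1) := by
      rw [map_mul, map_mul, mul_sub, mul_one]
      rw [show X.presheaf.germ V x hxV b = a * X.presheaf.germ V x hxV s from hbs.symm]
      ring
    rw [this]
    refine Ideal.mul_mem_left _ _ ?_
    have h2 : u * (s : Γ(X, V)) - 1 = -m := by linear_combination hu
    rw [← map_one (X.presheaf.germ V x hxV).hom, ← map_sub, h2, map_neg]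
    refine neg_mem ?_
    exact (IsLocalization.AtPrime.to_map_mem_maximal_iff _ (hV.primeIdealOf ⟨x, hxV⟩).asIdeal m).2 hm
  have hft := LocallyOfFiniteType.finiteType_appLE p (isAffineOpen_top _) hV (show V ≤ p ⁻¹ᵁ ⊤ from le_top)
  let φ : R →+* Γ(X, V) := (Scheme.Hom.appLE p ⊤ V le_top).hom.comp (Scheme.ΓSpecIso (CommRingCat.of R)).inv.hom
  have hφ : φ.FiniteType := RingHom.FiniteType.comp hft (RingHom.FiniteType.of_surjective _
    (ConcreteCategory.bijective_of_isIso (Scheme.ΓSpecIso (CommRingCat.of R)).inv).2)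
  have hcomp : ψ.comp φ = kmap p x := by
    ext r
    show X.residue x (X.presheaf.germ V x hxV (Scheme.Hom.appLE p ⊤ V le_top _)) =
      X.residue x (X.presheaf.germ ⊤ x trivial (p.appTop _))
    rw [Scheme.Hom.appLE, CommRingCat.comp_apply, TopCat.Presheaf.germ_res_apply]
    rfl
  let κR := R ⧸ IsLocalRing.maximalIdeal R
  letI : Field κR := Ideal.Quotient.field _
  let φk : κR →+* X.residueField x := Ideal.Quotient.lift _ (kmap p x) fun r hr => kmap_eq_zero p hx hr
  have hfk : φk.FiniteType := RingHom.FiniteType.of_comp_finiteType (f := Ideal.Quotient.mk (IsLocalRing.maximalIdeal R)) (by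
    have : φk.comp (Ideal.Quotient.mk _) = ψ.comp φ := by rw [hcomp]; ext r; rfl
    rw [this]
    exact (RingHom.FiniteType.of_surjective ψ hsurj).comp hφ)
  letI := φk.toAlgebra
  haveI : Algebra.FiniteType κR (X.residueField x) := hfk
  haveI : Module.Finite κR (X.residueField x) := finite_of_finite_type_of_isJacobsonRing _ _
  obtain ⟨q, hq, hq0⟩ := Algebra.IsIntegral.isIntegral (R := κR) z
  obtain ⟨q', hq', -, hq'm⟩ := Polynomial.lifts_and_degree_eq_and_monic
    (Polynomial.map_surjective (Ideal.Quotient.mk (IsLocalRing.maximalIdeal R)) Ideal.Quotient.mk_surjective q) hq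
  refine ⟨q', hq'm, ?_⟩
  rw [← hq0, ← hq', eval₂_map]
  rfl

omit [LocallyOfFiniteType p] in
/-- Integral residues are closed under inversion. -/
theorem isIntegralElem_inv {x : X} (hx : p x = IsLocalRing.closedPoint R) {z : X.residueField x}
    (hz : (kmap p x).IsIntegralElem z) : (kmap p x).IsIntegralElem z⁻¹ := by
  let κR := R ⧸ IsLocalRing.maximalIdeal R
  letI : Field κR := Ideal.Quotient.field _
  let φk : κR →+* X.residueField x := Ideal.Quotient.lift _ (kmap p x) fun r hr => kmap_eq_zero p hx hr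
  letI := φk.toAlgebra
  letI : Algebra R (X.residueField x) := (kmap p x).toAlgebra
  haveI : IsScalarTower R κR (X.residueField x) := IsScalarTower.of_algebraMap_eq fun r => rfl
  haveI : Algebra.IsIntegral R κR := Algebra.IsIntegral.of_finite R κR
  have h1 : IsIntegral κR z := IsIntegral.tower_top (R := R) hz
  exact isIntegral_trans (A := κR) _ h1.inv

omit [LocallyOfFiniteType p] in
/-- **Transcendental residues descend along algebraic extensions.** -/
theorem exists_not_integral_residue {F F' O κ : Type u} [Field F] [Field F'] [CommRing O] [Field κ]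
    (ι : F →+* F') (halg : letI := ι.toAlgebra; Algebra.IsAlgebraic F F') (j : O →+* F')
    (hj : Function.Injective j) (hval : ∀ s : F', s ∈ Set.range j ∨ s⁻¹ ∈ Set.range j)
    (res : O →+* κ) (φ : R →+* κ) (hφ : ∀ r ∈ IsLocalRing.maximalIdeal R, φ r = 0)
    (a : O) (ha : ¬ φ.IsIntegralElem (res a)) :
    ∃ (t : F) (b : O), ι t = j b ∧ ¬ φ.IsIntegralElem (res b) := by
  classical
  by_contra hcon
  push_neg at hcon
  let κR := R ⧸ IsLocalRing.maximalIdeal R
  letI : Field κR := Ideal.Quotient.field _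
  let φk : κR →+* κ := Ideal.Quotient.lift _ φ fun r hr => hφ r hr
  letI := φk.toAlgebra
  letI : Algebra R κ := φ.toAlgebra
  haveI : IsScalarTower R κR κ := IsScalarTower.of_algebraMap_eq fun r => rfl
  haveI : Algebra.IsIntegral R κR := Algebra.IsIntegral.of_finite R κR
  let L := algebraicClosure κR κ
  refine ha ?_
  show IsIntegral R (res a)
  refine isIntegral_trans (A := κR) _ ?_
  letI := ι.toAlgebra
  obtain ⟨P, hP0, hP⟩ := halg.isAlgebraic (j a)
  -- a coefficient dividing all others
  have hmax : ∀ s : Finset ℕ, s.Nonempty → (∀ i ∈ s, P.coeff i ≠ 0) →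
      ∃ i₀ ∈ s, ∀ i ∈ s, ι (P.coeff i / P.coeff i₀) ∈ Set.range j := by
    intro s hs hne
    induction hs using Finset.Nonempty.cons_induction with
    | singleton i => exact ⟨i, by simp, fun i' hi' => ⟨1, by
        simp only [Finset.mem_singleton] at hi'
        subst hi'
        rw [div_self (hne _ (by simp)), map_one, map_one]⟩⟩
    | cons i s his hs ih =>
      obtain ⟨i₀, hi₀, hi₀'⟩ := ih fun i' hi' => hne i' (Finset.mem_cons_of_mem hi')
      rcases hval (ι (P.coeff i / P.coeff i₀)) with h1 | h1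
      · refine ⟨i₀, Finset.mem_cons_of_mem hi₀, fun i' hi' => ?_⟩
        rcases Finset.mem_cons.1 hi' with rfl | hi'
        · exact h1
        · exact hi₀' i' hi'
      · refine ⟨i, Finset.mem_cons_self i s, fun i' hi' => ?_⟩
        rcases Finset.mem_cons.1 hi' with rfl | hi'
        · exact ⟨1, by rw [div_self (hne _ (Finset.mem_cons_self _ s)), map_one, map_one]⟩
        · obtain ⟨u, hu⟩ := hi₀' i' hi'
          obtain ⟨v, hv⟩ := h1
          refine ⟨u * v, ?_⟩
          rw [map_mul, hu, hv, ← map_inv₀, ← map_mul]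
          congr 1
          have := hne i₀ (Finset.mem_cons_of_mem hi₀)
          field_simp
  obtain ⟨i₀, hi₀, hdiv⟩ := hmax P.support (Polynomial.support_nonempty.2 hP0) fun i hi => Polynomial.mem_support_iff.1 hi
  have hb : ∀ i : ℕ, ∃ b : O, j b = ι (P.coeff i / P.coeff i₀) ∧ IsIntegral κR (res b) := fun i => by
    by_cases hi : P.coeff i = 0
    · exact ⟨0, by rw [hi, zero_div, map_zero, map_zero], by rw [map_zero]; exact isIntegral_zero⟩
    obtain ⟨b, hb⟩ := hdiv i (Polynomial.mem_support_iff.2 hi)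
    exact ⟨b, hb, IsIntegral.tower_top (R := R) (hcon _ b hb.symm)⟩
  choose b hb hbint using hb
  let Q : L[X] := ∑ i ∈ P.support, Polynomial.monomial i
    (⟨res (b i), (mem_algebraicClosure_iff'.2 (hbint i))⟩ : L)
  have hQ : Q.coeff i₀ = 1 := by
    simp only [Q, Polynomial.finset_sum_coeff, Polynomial.coeff_monomial, Finset.sum_ite_eq', if_pos hi₀]
    refine Subtype.ext ?_
    show res (b i₀) = 1
    have : b i₀ = 1 := hj (by rw [hb, div_self (Polynomial.mem_support_iff.1 hi₀), map_one, map_one])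
    rw [this, map_one]
  have hsum : ∑ i ∈ P.support, b i * a ^ i = 0 := hj (by
    rw [map_zero, map_sum]
    have : ∑ i ∈ P.support, j (b i * a ^ i) = (ι (P.coeff i₀))⁻¹ * Polynomial.aeval (j a) P := by
      rw [Polynomial.aeval_def, Polynomial.eval₂_eq_sum, Polynomial.sum_def, Finset.mul_sum]
      refine Finset.sum_congr rfl fun i _ => ?_
      rw [map_mul, map_pow, hb, map_div₀]
      show ι _ / ι _ * _ = _ * (ι _ * _)
      ring
    rw [this, hP, mul_zero])
  have hroot : Polynomial.aeval (res a) Q = 0 := by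
    simp only [Q, map_sum, Polynomial.aeval_monomial]
    rw [← map_zero res, ← hsum, map_sum]
    refine Finset.sum_congr rfl fun i _ => ?_
    rw [map_mul, map_pow]
    rfl
  have halgL : IsAlgebraic L (res a) := ⟨Q, fun h => by rw [h, Polynomial.coeff_zero] at hQ; exact zero_ne_one hQ, hroot⟩
  exact isIntegral_trans (A := L) _ halgL.isIntegral

end GrothLib.RatSing29
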