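import Groth.Agent.Lib.RatSing29.NormCover
import Groth.Agent.Lib.RatSing29.Dominate
import Groth.Agent.Lib.RatSing29.StalkR1
import Groth.Agent.Lib.Cohom.Compare

/-!
# The degree annihilates `H¹(O)` of modifications under a finite separable extension with rational singularities
-/

set_option autoImplicit false
set_option linter.all false
set_option backward.isDefEq.respectTransparency false

universe u

open AlgebraicGeometry CategoryTheory CategoryTheory.Limits TopologicalSpace Opposite Abelian

noncomputable section

namespace GrothLib.RatSing29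

/-- A normal local domain of dimension at most one is a rational singularity. -/
theorem isRationalSing_of_dim_le_one {R : Type u} [CommRing R] [IsDomain R] [IsNoetherianRing R]
    [IsIntegrallyClosed R] (hd : ringKrullDim R ≤ 1) : Curv2.IsRationalSing R := by
  intro X f hf hX hXn hbir
  haveI := hf; haveI := hX
  obtain ⟨V, hV, hVi⟩ := hbir
  haveI : IsIso f := isIso_of_dim_le_one (Y := Spec (CommRingCat.of R)) f V hV hVi
    (fun y => (GrothLib.ProperFib19.isNormalScheme_spec R y).2)
    ((PrimeSpectrum.topologicalKrullDim_eq_ringKrullDim R).trans_le hd)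
  haveI : IsAffine X := IsAffine.of_isIso f
  haveI := Cohom.subsingleton_ext_freeFun_of_isAffineOpen (isAffineOpen_top X) (Coh.structureModule X) 0
  exact (Cohom.HEquivTop (Coh.toAb (Coh.structureModule X)) 1).toEquiv.subsingleton

theorem le_one_of_le_two_of_ne {d : WithBot ℕ∞} (hd : d ≤ 2) (h2 : d ≠ 2) : d ≤ 1 := by
  induction d using WithBot.recBotCoe with
  | bot => exact bot_le
  | coe a =>
    induction a using ENat.recTopCoe with
    | top => exact absurd hd (by decide)
    | coe n =>
      have h0 : (n : ℕ∞) ≤ 2 := WithBot.coe_le_coe.1 hd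
      have h1 : n ≤ 2 := by exact_mod_cast h0
      have h3 : n ≠ 2 := fun h => h2 (by subst h; rfl)
      exact WithBot.coe_le_coe.2 (show (n : ℕ∞) ≤ 1 by exact_mod_cast (show n ≤ 1 by omega))

/-- `H¹(O)` of a normal modification of an affine normal surface with rational singularities vanishes. -/
theorem subsingleton_H1_modification {B : Type u} [CommRing B] [IsDomain B] [IsNoetherianRing B]
    [IsIntegrallyClosed B] (hBnf : ¬ IsField B) (hdB : ringKrullDim B ≤ 2)
    (hB : ∀ (n : Ideal B) [n.IsMaximal], ringKrullDim (Localization.AtPrime n) = 2 →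
      Curv2.IsRationalSing (Localization.AtPrime n))
    {X : Scheme.{u}} [IsIntegral X] (h : X ⟶ Spec (CommRingCat.of B)) [IsProper h] (hXn : Pi1.IsNormalScheme X)
    (hbir : ∃ U : (Spec (CommRingCat.of B)).Opens, (U : Set ↥(Spec (CommRingCat.of B))).Nonempty ∧ IsIso (h ∣_ U)) :
    Subsingleton (Coh.HH X (Coh.structureModule X) 1) := by
  have hrat : ∀ x : ↥(Spec (CommRingCat.of B)), IsClosed ({x} : Set ↥(Spec (CommRingCat.of B))) →
      Curv2.IsRationalSing ((Spec (CommRingCat.of B)).presheaf.stalk x) := fun x hx => by
    haveI : x.asIdeal.IsMaximal := (PrimeSpectrum.isClosed_singleton_iff_isMaximal x).1 hx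
    refine isRationalSing_of_ringEquiv (StructureSheaf.stalkIso B x).toRingEquiv ?_
    haveI : IsIntegrallyClosed (Localization.AtPrime x.asIdeal) :=
      isIntegrallyClosed_of_isLocalization _ x.asIdeal.primeCompl x.asIdeal.primeCompl_le_nonZeroDivisors
    by_cases h2 : ringKrullDim (Localization.AtPrime x.asIdeal) = 2
    · exact hB x.asIdeal h2
    · exact isRationalSing_of_dim_le_one (le_one_of_le_two_of_ne
        (((IsLocalization.AtPrime.ringKrullDim_eq_height x.asIdeal (Localization.AtPrime x.asIdeal)).trans_le
          (Ideal.height_le_ringKrullDim_of_ne_top x.isPrime.ne_top)).trans hdB) h2)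
  have hgen : ¬ IsClosed ({genericPoint ↥(Spec (CommRingCat.of B))} : Set ↥(Spec (CommRingCat.of B))) := fun hc => by
    haveI := (PrimeSpectrum.isClosed_singleton_iff_isMaximal _).1 hc
    have e : (genericPoint ↥(Spec (CommRingCat.of B))).asIdeal = ⊥ :=
      congrArg PrimeSpectrum.asIdeal (genericPoint_eq_bot_of_affine (CommRingCat.of B))
    rw [e] at this
    exact hBnf (Ring.isField_iff_maximal_bot.2 this)
  have h1 := subsingleton_ext_preimage_affine h hXn hbir
    ((PrimeSpectrum.topologicalKrullDim_eq_ringKrullDim B).trans_le hdB) hrat hgen 1 le_rfl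
    (isAffineOpen_top (Spec (CommRingCat.of B)))
  haveI : Subsingleton (Ext.{u} (Cohom.freeFun.obj (⊤ : X.Opens)) (Coh.toAb (Coh.structureModule X)) 1) := h1
  exact (Cohom.HEquivTop (Coh.toAb (Coh.structureModule X)) 1).toEquiv.subsingleton

/-- **The degree kills `H¹(O)`.** -/
theorem nsmul_H1_eq_zero_of_cover {X Y : Scheme.{u}} (π : X ⟶ Y) [IsIntegral X] [IsIntegral Y] [Surjective π]
    [IsFinite π] (hY : Pi1.IsNormalScheme Y) (hX : Subsingleton (Coh.HH X (Coh.structureModule X) 1))
    (x : Coh.HH Y (Coh.structureModule Y) 1) : NormAmple.fdeg π • x = 0 := by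
  obtain ⟨e⟩ := Cohom.nonempty_HH_equiv_pushforward π (Coh.structureModule X) 1
  haveI : Subsingleton (Coh.HH Y ((Scheme.Modules.pushforward π).obj (Coh.structureModule X)) 1) :=
    e.symm.toEquiv.subsingleton
  let F := SheafOfModules.toSheaf Y.ringCatSheaf
  have hn : ∀ n : ℕ, Sheaf.H.map (F.map (n • 𝟙 (Coh.structureModule Y))) 1 x = n • x := fun n => by
    rw [Functor.map_nsmul, CategoryTheory.Functor.map_id]
    induction n with
    | zero =>
      rw [zero_smul, zero_smul]
      show ((Sheaf.functorH _ 1).map (0 : _ ⟶ _)).hom x = 0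
      rw [Functor.map_zero]
      rfl
    | succ n ih =>
      rw [succ_nsmul, succ_nsmul, Sheaf.H.map_add_apply, ih, Sheaf.H.map_id_apply]
  rw [← hn, ← unit_trace_eq π hY, Functor.map_comp, Sheaf.H.map_comp_apply]
  rw [Subsingleton.elim (Sheaf.H.map (F.map (ClSub.unitToPush π)) 1 x) 0, map_zero]

/-- **The degree of a finite separable extension with rational singularities kills `H¹(O)`.** -/
theorem finrank_nsmul_H1_eq_zero {A B : Type u} [CommRing A] [IsDomain A] [IsNoetherianRing A] [IsIntegrallyClosed A]
    [CommRing B] [IsDomain B] [IsNoetherianRing B] [IsIntegrallyClosed B] [Algebra A B] [Module.Finite A B]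
    (hinj : Function.Injective (algebraMap A B))
    (K L : Type u) [Field K] [Field L] [Algebra A K] [IsFractionRing A K] [Algebra B L] [IsFractionRing B L]
    [Algebra K L] [Algebra A L] [IsScalarTower A K L] [IsScalarTower A B L] [Algebra.IsSeparable K L]
    [FiniteDimensional K L] (hBnf : ¬ IsField B) (hdB : ringKrullDim B ≤ 2)
    (hB : ∀ (n : Ideal B) [n.IsMaximal], ringKrullDim (Localization.AtPrime n) = 2 →
      Curv2.IsRationalSing (Localization.AtPrime n))
    {Y : Scheme.{u}} [IsIntegral Y] (hYn : Pi1.IsNormalScheme Y) (f : Y ⟶ Spec (CommRingCat.of A)) [IsProper f]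
    (hbir : ∃ U : (Spec (CommRingCat.of A)).Opens, (U : Set ↥(Spec (CommRingCat.of A))).Nonempty ∧ IsIso (f ∣_ U))
    (x : Coh.HH Y (Coh.structureModule Y) 1) : Module.finrank K L • x = 0 := by
  obtain ⟨X, hX, π, hπs, hπf, h, hXn, hdeg, hh, hb⟩ := exists_normal_cover hinj K L hYn f hbir
  haveI := hX; haveI := hπs; haveI := hπf; haveI := hh
  rw [← hdeg]
  exact nsmul_H1_eq_zero_of_cover π hYn (subsingleton_H1_modification hBnf hdB hB h hXn hb) x

/-- The fraction fields of a finite extension of domains form a finite extension. -/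
theorem finiteDimensional_fractionRing {A B : Type u} [CommRing A] [CommRing B] [IsDomain A] [IsDomain B]
    [Algebra A B] [Module.Finite A B] [IsIntegrallyClosed B] (hinj : Function.Injective (algebraMap A B))
    (K L : Type u) [Field K] [Field L] [Algebra A K] [IsFractionRing A K] [Algebra B L] [IsFractionRing B L]
    [Algebra K L] [Algebra A L] [IsScalarTower A K L] [IsScalarTower A B L] : FiniteDimensional K L := by
  haveI : IsLocalization (Algebra.algebraMapSubmonoid B (nonZeroDivisors A)) L := by
    haveI : FaithfulSMul A B := (faithfulSMul_iff_algebraMap_injective A B).2 hinj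
    haveI : IsIntegralClosure B A L := IsIntegralClosure.of_isIntegrallyClosed _ _ _
    haveI : Algebra.IsAlgebraic K L := isAlgebraic_of_isFractionRing A B K L
    exact IsIntegralClosure.isLocalization A K L B
  exact Module.Finite.of_isLocalization A B (nonZeroDivisors A)

end GrothLib.RatSing29
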