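import Groth.Agent.Lib.NormAmple.Integral
import Groth.Prelude.Def_ClSub2
import Groth.Prelude.Def_Coh

/-!
# The trace along a finite surjective morphism to an integral normal scheme
-/

set_option autoImplicit false
set_option linter.all false
set_option backward.isDefEq.respectTransparency false

universe u

open AlgebraicGeometry CategoryTheory CategoryTheory.Limits TopologicalSpace Opposite
open GrothLib.Ample (res)
open GrothLib.NormAmple

noncomputable section

namespace GrothLib.RatSing29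

variable {X Y : Scheme.{u}} (π : X ⟶ Y) [IsIntegral X] [IsIntegral Y] [Surjective π]

/-- The trace of the germ of a section. -/
def gtr {W : Y.Opens} (h : genericPoint Y ∈ W) (s : Γ(X, π ⁻¹ᵁ W)) : Y.functionField :=
  letI := (fmap π).hom.toAlgebra
  Algebra.trace Y.functionField X.functionField
    (X.presheaf.germ (π ⁻¹ᵁ W) (genericPoint X) (genericPoint_mem_preimage π h) s : X.functionField)

theorem gtr_res {W W' : Y.Opens} (hle : W' ≤ W) (h : genericPoint Y ∈ W') (s : Γ(X, π ⁻¹ᵁ W)) :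
    gtr π h (res (π.preimage_mono hle) s) = gtr π (hle h) s := by
  simp only [gtr, res]
  erw [TopCat.Presheaf.germ_res_apply]

theorem gtr_add {W : Y.Opens} (h : genericPoint Y ∈ W) (s t : Γ(X, π ⁻¹ᵁ W)) :
    gtr π h (s + t) = gtr π h s + gtr π h t := by
  simp only [gtr, map_add]

theorem gtr_mul_app {W : Y.Opens} (h : genericPoint Y ∈ W) (a : Γ(Y, W)) (s : Γ(X, π ⁻¹ᵁ W)) :
    gtr π h (π.app W a * s) = Y.presheaf.germ W (genericPoint Y) h a * gtr π h s := by
  letI := (fmap π).hom.toAlgebra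
  simp only [gtr, map_mul]
  rw [← fmap_germ π h]
  exact (congrArg _ (Algebra.smul_def _ _).symm).trans
    ((Algebra.trace Y.functionField X.functionField).map_smul _ _)

theorem gtr_app {W : Y.Opens} (h : genericPoint Y ∈ W) (a : Γ(Y, W)) :
    gtr π h (π.app W a) = fdeg π • Y.presheaf.germ W (genericPoint Y) h a := by
  letI := (fmap π).hom.toAlgebra
  simp only [gtr, fdeg]
  rw [← fmap_germ π h]
  exact Algebra.trace_algebraMap (R := (Y.functionField : Type u)) (S := (X.functionField : Type u)) _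

variable [IsFinite π] (hY : Pi1.IsNormalScheme Y)

include hY in
theorem exists_trace_affine {V : Y.Opens} (hV : IsAffineOpen V) (hη : genericPoint Y ∈ V) (b : Γ(X, π ⁻¹ᵁ V)) :
    ∃ a : Γ(Y, V), Y.presheaf.germ V (genericPoint Y) hη a = gtr π hη b := by
  letI iKL := (fmap π).hom.toAlgebra
  haveI : Nonempty V := ⟨⟨_, hη⟩⟩
  haveI : Nonempty (π ⁻¹ᵁ V : X.Opens) := ⟨⟨_, genericPoint_mem_preimage π hη⟩⟩
  haveI := functionField_isFractionRing_of_isAffineOpen Y V hV
  letI iAB : Algebra Γ(Y, V) Γ(X, π ⁻¹ᵁ V) := (π.app V).hom.toAlgebra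
  haveI : Module.Finite Γ(Y, V) Γ(X, π ⁻¹ᵁ V) := π.finite_app V hV
  letI iAL : Algebra Γ(Y, V) X.functionField :=
    ((algebraMap Γ(X, π ⁻¹ᵁ V) X.functionField).comp (π.app V).hom).toAlgebra
  haveI : IsScalarTower Γ(Y, V) Γ(X, π ⁻¹ᵁ V) X.functionField := IsScalarTower.of_algebraMap_eq fun _ => rfl
  haveI : IsScalarTower Γ(Y, V) Y.functionField X.functionField :=
    IsScalarTower.of_algebraMap_eq fun a => (fmap_germ π hη (genericPoint_mem_preimage π hη) a).symm
  haveI : IsIntegrallyClosed Γ(Y, V) := NormalExt.isIntegrallyClosed_Γ (fun y => (hY y).2) V hV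
  have hint : IsIntegral Γ(Y, V) (algebraMap Γ(X, π ⁻¹ᵁ V) X.functionField b) :=
    (Algebra.IsIntegral.isIntegral (R := Γ(Y, V)) b).algebraMap
  haveI := (affine_data π hV hη).1
  exact IsIntegrallyClosed.isIntegral_iff.1 (Algebra.isIntegral_trace (L := Y.functionField) hint)

include hY in
theorem existsUnique_trace (W : Y.Opens) (s : Γ(X, π ⁻¹ᵁ W)) :
    ∃! t : Γ(Y, W), ∀ h : genericPoint Y ∈ W, Y.presheaf.germ W (genericPoint Y) h t = gtr π h s := by
  have key : ∀ y : W, ∃ (V : Y.Opens) (hV : V ≤ W) (t : Γ(Y, V)) (hyV : y.1 ∈ V),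
      Y.presheaf.germ V (genericPoint Y) (genericPoint_mem hyV) t = gtr π (hV (genericPoint_mem hyV)) s := by
    intro y
    obtain ⟨V, hV, hyV, hVW⟩ := exists_isAffineOpen_mem_and_subset y.2
    obtain ⟨a, ha⟩ := exists_trace_affine π hY hV (genericPoint_mem hyV) (res (π.preimage_mono hVW) s)
    exact ⟨V, hVW, a, hyV, ha.trans (gtr_res π hVW _ s)⟩
  choose V hV t hyV ht using key
  obtain ⟨T, hT, -⟩ := TopCat.Sheaf.existsUnique_gluing' Y.sheaf V W (fun y => homOfLE (hV y))
    (fun y hy => Opens.mem_iSup.mpr ⟨⟨y, hy⟩, hyV ⟨y, hy⟩⟩) t fun i j => by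
      show res (inf_le_left : V i ⊓ V j ≤ V i) (t i) = res inf_le_right (t j)
      refine germ_injective_of_isIntegral Y (U := V i ⊓ V j) (genericPoint Y)
        ⟨genericPoint_mem (hyV i), genericPoint_mem (hyV j)⟩ ?_
      erw [TopCat.Presheaf.germ_res_apply, TopCat.Presheaf.germ_res_apply, ht i, ht j]
  refine ⟨T, fun h => ?_, fun T' hT' => ?_⟩
  · rw [← ht ⟨_, h⟩, ← show res (hV ⟨_, h⟩) T = t ⟨_, h⟩ from hT ⟨_, h⟩]
    exact (TopCat.Presheaf.germ_res_apply _ _ _ _ _).symm
  · by_cases hW : genericPoint Y ∈ W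
    · refine germ_injective_of_isIntegral Y (genericPoint Y) hW ((hT' hW).trans ?_)
      rw [← ht ⟨_, hW⟩, ← show res (hV ⟨_, hW⟩) T = t ⟨_, hW⟩ from hT ⟨_, hW⟩]
      exact TopCat.Presheaf.germ_res_apply _ _ _ _ _
    · haveI : Subsingleton Γ(Y, W) := by
        rw [show W = ⊥ from le_bot_iff.1 fun y hy => (hW (genericPoint_mem hy)).elim]
        infer_instance
      exact Subsingleton.elim _ _

/-- The trace on sections. -/
def trSec (W : Y.Opens) (s : Γ(X, π ⁻¹ᵁ W)) : Γ(Y, W) := (existsUnique_trace π hY W s).exists.choose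

theorem trSec_spec (W : Y.Opens) (s : Γ(X, π ⁻¹ᵁ W)) (h : genericPoint Y ∈ W) :
    Y.presheaf.germ W (genericPoint Y) h (trSec π hY W s) = gtr π h s :=
  (existsUnique_trace π hY W s).exists.choose_spec h

theorem trSec_eq {W : Y.Opens} {s : Γ(X, π ⁻¹ᵁ W)} {t : Γ(Y, W)}
    (ht : ∀ h : genericPoint Y ∈ W, Y.presheaf.germ W (genericPoint Y) h t = gtr π h s) : trSec π hY W s = t :=
  (existsUnique_trace π hY W s).unique (trSec_spec π hY W s) ht

theorem trSec_add (W : Y.Opens) (s t : Γ(X, π ⁻¹ᵁ W)) :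
    trSec π hY W (s + t) = trSec π hY W s + trSec π hY W t :=
  trSec_eq π hY fun h => by rw [map_add, trSec_spec, trSec_spec, gtr_add]

theorem trSec_mul (W : Y.Opens) (a : Γ(Y, W)) (s : Γ(X, π ⁻¹ᵁ W)) :
    trSec π hY W (π.app W a * s) = a * trSec π hY W s :=
  trSec_eq π hY fun h => by rw [map_mul, trSec_spec, gtr_mul_app]

theorem trSec_res {W W' : Y.Opens} (hle : W' ≤ W) (s : Γ(X, π ⁻¹ᵁ W)) :
    trSec π hY W' (res (π.preimage_mono hle) s) = res hle (trSec π hY W s) :=
  trSec_eq π hY fun h => by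
    rw [gtr_res π hle h]
    erw [TopCat.Presheaf.germ_res_apply]
    exact trSec_spec π hY W s (hle h)

/-- The trace. -/
def traceMap : (Scheme.Modules.pushforward π).obj (Coh.structureModule X) ⟶ Coh.structureModule Y :=
  ⟨PresheafOfModules.homMk
    { app := fun U => AddCommGrpCat.ofHom (AddMonoidHom.mk' (fun s : Γ(X, π ⁻¹ᵁ U.unop) => trSec π hY U.unop s)
        (trSec_add π hY U.unop))
      naturality := fun U V i => by
        ext s
        exact trSec_res π hY (leOfHom i.unop) s }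
    (fun U r s => trSec_mul π hY U.unop r s)⟩

theorem traceMap_app (U : Y.Opens) (s : Γ(X, π ⁻¹ᵁ U)) :
    ((traceMap π hY).app U s : Γ(Y, U)) = trSec π hY U s := rfl

/-- The trace of the unit is the degree. -/
theorem unit_trace_eq : ClSub.unitToPush π ≫ traceMap π hY = fdeg π • 𝟙 (Coh.structureModule Y) := by
  refine Scheme.Modules.hom_ext _ _ fun U => ?_
  ext s
  have hn : ∀ n : ℕ, ((n • 𝟙 (Coh.structureModule Y) : Coh.structureModule Y ⟶ Coh.structureModule Y)).app U s = n • s := by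
    intro n
    induction n with
    | zero => rw [zero_smul, zero_smul]; rfl
    | succ n ih => rw [succ_nsmul, succ_nsmul, ← ih]; rfl
  refine Eq.trans ?_ (hn _).symm
  have key : ∀ t : Γ(Y, U), trSec π hY U (π.app U t) = fdeg π • t := fun t =>
    trSec_eq π hY fun h => by rw [map_nsmul, gtr_app]
  exact key s

end GrothLib.RatSing29
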