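import Groth.Agent.Lib.RatSing29.TraceH1
import Mathlib.FieldTheory.SeparableClosure
import Mathlib.FieldTheory.PurelyInseparable.Basic

/-!
# Rational singularities descend along finite extensions of invertible degree
-/

set_option autoImplicit false
set_option linter.all false
set_option backward.isDefEq.respectTransparency false

universe u

open AlgebraicGeometry CategoryTheory CategoryTheory.Limits TopologicalSpace Opposite

noncomputable section

namespace GrothLib.RatSing29

/-- A finite extension of degree prime to the characteristic is separable. -/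
theorem isSeparable_of_finrank_ne_zero {K L : Type u} [Field K] [Field L] [Algebra K L] [FiniteDimensional K L]
    (h : ((Module.finrank K L : ℕ) : K) ≠ 0) : Algebra.IsSeparable K L := by
  obtain ⟨q, hq⟩ := ExpChar.exists K
  cases hq with
  | zero => infer_instance
  | @prime q hp _ =>
    haveI : ExpChar K q := ExpChar.prime hp
    haveI : ExpChar (separableClosure K L) q := expChar_of_injective_algebraMap (algebraMap K _).injective q
    obtain ⟨n, hn⟩ := IsPurelyInseparable.finrank_eq_pow (separableClosure K L) L q
    have hmul := Module.finrank_mul_finrank K (separableClosure K L) L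
    rcases n with _ | n
    · refine (separableClosure.eq_top_iff K L).1 ?_
      refine IntermediateField.eq_of_le_of_finrank_eq le_top ?_
      rw [pow_zero] at hn
      rw [IntermediateField.finrank_top', ← hmul, hn, mul_one]
    · refine absurd ?_ h
      rw [← hmul, hn, Nat.cast_mul, Nat.cast_pow, CharP.cast_eq_zero K q, zero_pow (Nat.succ_ne_zero n), mul_zero]

/-- **Rational singularities descend along finite extensions of invertible degree.** -/
theorem isRationalSing_localization_of_unit_degree {A B : Type u} [CommRing A] [IsDomain A] [IsNoetherianRing A]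
    [IsIntegrallyClosed A] [CommRing B] [IsDomain B] [IsNoetherianRing B] [IsIntegrallyClosed B] [Algebra A B]
    [Module.Finite A B] (hinj : Function.Injective (algebraMap A B))
    (K L : Type u) [Field K] [Field L] [Algebra A K] [IsFractionRing A K] [Algebra B L] [IsFractionRing B L]
    [Algebra K L] [Algebra A L] [IsScalarTower A K L] [IsScalarTower A B L]
    (hdeg : IsUnit ((Module.finrank K L : ℕ) : A)) (hdB : ringKrullDim B ≤ 2)
    (hB : ∀ (n : Ideal B) [n.IsMaximal], ringKrullDim (Localization.AtPrime n) = 2 →
      Curv2.IsRationalSing (Localization.AtPrime n))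
    (m : Ideal A) [m.IsPrime] (hm : ringKrullDim (Localization.AtPrime m) = 2) :
    Curv2.IsRationalSing (Localization.AtPrime m) := by
  haveI := finiteDimensional_fractionRing hinj K L
  have hdK : ((Module.finrank K L : ℕ) : K) ≠ 0 := by
    rw [← map_natCast (algebraMap A K)]
    exact (hdeg.map _).ne_zero
  haveI := isSeparable_of_finrank_ne_zero hdK
  let A' := Localization.AtPrime m
  let M := Algebra.algebraMapSubmonoid B m.primeCompl
  have hM : M ≤ nonZeroDivisors B := by
    rintro _ ⟨s, hs, rfl⟩
    exact mem_nonZeroDivisors_of_ne_zero fun h0 => hs ((map_eq_zero_iff _ hinj).1 h0 ▸ m.zero_mem)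
  let B' := Localization M
  haveI : IsDomain B' := IsLocalization.isDomain_of_le_nonZeroDivisors (M := M) B' hM
  haveI : IsIntegrallyClosed B' := isIntegrallyClosed_of_isLocalization B' M hM
  haveI : IsNoetherianRing B' := IsLocalization.isNoetherianRing M B' inferInstance
  haveI : IsIntegrallyClosed A' := isIntegrallyClosed_of_isLocalization A' m.primeCompl m.primeCompl_le_nonZeroDivisors
  letI : Algebra A' B' := localizationAlgebra m.primeCompl B
  haveI : Module.Finite A' B' := Module.Finite.of_isLocalization A B m.primeCompl
  letI : Algebra A' K := (IsLocalization.lift (M := m.primeCompl) (g := algebraMap A K) fun s =>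
    isUnit_iff_ne_zero.2 ((map_ne_zero_iff _ (IsFractionRing.injective A K)).2
      fun h0 => s.2 (by rw [h0]; exact m.zero_mem))).toAlgebra
  haveI : IsScalarTower A A' K := IsScalarTower.of_algebraMap_eq fun a => (IsLocalization.lift_eq _ a).symm
  haveI : IsFractionRing A' K :=
    IsFractionRing.isFractionRing_of_isDomain_of_isLocalization m.primeCompl A' K
  letI : Algebra B' L := (IsLocalization.lift (M := M) (g := algebraMap B L) fun s =>
    isUnit_iff_ne_zero.2 ((map_ne_zero_iff _ (IsFractionRing.injective B L)).2
      (nonZeroDivisors.ne_zero (hM s.2)))).toAlgebra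
  haveI : IsScalarTower B B' L := IsScalarTower.of_algebraMap_eq fun a => (IsLocalization.lift_eq _ a).symm
  haveI : IsFractionRing B' L := IsFractionRing.isFractionRing_of_isDomain_of_isLocalization M B' L
  letI : Algebra A' L := ((algebraMap K L).comp (algebraMap A' K)).toAlgebra
  haveI : IsScalarTower A' K L := IsScalarTower.of_algebraMap_eq fun _ => rfl
  haveI : IsScalarTower A' B' L := IsScalarTower.of_algebraMap_eq' <| by
    refine IsLocalization.ringHom_ext m.primeCompl (RingHom.ext fun a => ?_)
    show algebraMap K L (algebraMap A' K (algebraMap A A' a)) = algebraMap B' L (algebraMap A' B' (algebraMap A A' a))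
    rw [← IsScalarTower.algebraMap_apply A A' B', IsScalarTower.algebraMap_apply A B B',
      ← IsScalarTower.algebraMap_apply B B' L, ← IsScalarTower.algebraMap_apply A B L,
      ← IsScalarTower.algebraMap_apply A A' K, ← IsScalarTower.algebraMap_apply A K L]
  have hinj' : Function.Injective (algebraMap A' B') := by
    refine Function.Injective.of_comp (f := algebraMap B' L) ?_
    show Function.Injective fun z => algebraMap B' L (algebraMap A' B' z)
    simp_rw [← IsScalarTower.algebraMap_apply A' B' L, IsScalarTower.algebraMap_apply A' K L]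
    exact (algebraMap K L).injective.comp (IsFractionRing.injective A' K)
  have hBnf : ¬ IsField B' := fun h => by
    haveI : Algebra.IsIntegral A' B' := Algebra.IsIntegral.of_finite A' B'
    letI := (isField_of_isIntegral_of_isField hinj' h).toField
    rw [ringKrullDim_eq_zero_of_field A'] at hm
    norm_num at hm
  have hdB' : ringKrullDim B' ≤ 2 :=
    (Order.krullDim_le_of_strictMono _
      ((OrderEmbedding.subtype _).strictMono.comp (IsLocalization.primeSpectrumOrderIso M B').strictMono)).trans hdB
  have hB' : ∀ (n : Ideal B') [n.IsMaximal], ringKrullDim (Localization.AtPrime n) = 2 →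
      Curv2.IsRationalSing (Localization.AtPrime n) := by
    intro n _ hn2
    let n₀ := n.comap (algebraMap B B')
    let e := (IsLocalization.localizationLocalizationAtPrimeIsoLocalization M n)
    have hn₀ : n₀.height = 2 := by
      have h1 := IsLocalization.AtPrime.ringKrullDim_eq_height n₀ (Localization.AtPrime n₀)
      rw [ringKrullDim_eq_of_ringEquiv e.toRingEquiv, hn2] at h1
      exact WithBot.coe_eq_coe.1 (h1.symm : _ = ((2 : ℕ∞) : WithBot ℕ∞))
    haveI : n₀.IsMaximal := by
      obtain ⟨P, hP, hle⟩ := n₀.exists_le_maximal Ideal.IsPrime.ne_top'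
      rcases hle.eq_or_lt with h | h
      · rwa [h]
      · exfalso
        haveI : n₀.FiniteHeight := ⟨Or.inr (by rw [hn₀]; decide)⟩
        have h2 := Ideal.height_strict_mono_of_isPrime h
        have h3 : (P.height : WithBot ℕ∞) ≤ 2 := (Ideal.height_le_ringKrullDim_of_ne_top hP.ne_top).trans hdB
        rw [hn₀] at h2
        exact absurd (lt_of_lt_of_le h2 (WithBot.coe_le_coe.1 (h3 : _ ≤ ((2 : ℕ∞) : WithBot ℕ∞)))) (lt_irrefl _)
    exact isRationalSing_of_ringEquiv e.toRingEquiv
      (hB n₀ (by rw [ringKrullDim_eq_of_ringEquiv e.toRingEquiv]; exact hn2))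
  intro X f hf hX hXn hbir
  haveI := hf; haveI := hX
  letI : X.Over (Spec (CommRingCat.of A')) := ⟨f⟩
  refine subsingleton_of_forall_eq 0 fun x => ?_
  have h0 := finrank_nsmul_H1_eq_zero hinj' K L hBnf hdB' hB' hXn f hbir x
  rw [← Nat.cast_smul_eq_nsmul A'] at h0
  have hu : IsUnit ((Module.finrank K L : ℕ) : A') := by
    rw [← map_natCast (algebraMap A A')]
    exact hdeg.map _
  exact hu.smul_eq_zero.1 h0

end GrothLib.RatSing29
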